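import Mathlib.GroupTheory.PGroup
import Mathlib.GroupTheory.Commutator.Basic
import Mathlib.GroupTheory.QuotientGroup.Basic
import Mathlib.Algebra.Group.End
import Mathlib.Tactic.Group
import Mathlib.Tactic.Ring

/-!
# Automorphisms of a subgroup, read as functions on the ambient group
-/

set_option autoImplicit false

namespace Cfsg.Lib.FusionSys.SecThree

open Subgroup
open scoped commutatorElement

variable {G : Type*} [Group G]

/-- An automorphism of a subgroup `E` as a function on the ambient group (the identity off `E`). -/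
noncomputable def ap {E : Subgroup G} (a : MulAut E) (x : G) : G := by
  classical exact if h : x ∈ E then ((a ⟨x, h⟩ : E) : G) else x

section Ap

variable {E : Subgroup G} (a b : MulAut E)

theorem ap_of_mem {x : G} (hx : x ∈ E) : ap a x = ((a ⟨x, hx⟩ : E) : G) := by
  classical
  unfold ap
  exact dif_pos hx

theorem ap_coe (x : E) : ap a x = ((a x : E) : G) := ap_of_mem a x.2

theorem ap_mem {x : G} (hx : x ∈ E) : ap a x ∈ E := by
  rw [ap_of_mem a hx]; exact (a _).2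

theorem ap_one_apply (x : G) : ap (1 : MulAut E) x = x := by
  classical
  unfold ap
  split <;> rfl

theorem ap_mul_apply {x : G} (hx : x ∈ E) : ap (a * b) x = ap a (ap b x) := by
  rw [ap_of_mem b hx, ap_coe, ap_of_mem _ hx]; rfl

theorem ap_map_mul {x y : G} (hx : x ∈ E) (hy : y ∈ E) : ap a (x * y) = ap a x * ap a y := by
  rw [ap_of_mem a hx, ap_of_mem a hy, ap_of_mem a (E.mul_mem hx hy), ← Subgroup.coe_mul, ← map_mul]
  rfl

theorem ap_map_one : ap a 1 = 1 := by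
  rw [ap_of_mem a E.one_mem, show (⟨1, E.one_mem⟩ : E) = 1 from rfl, map_one]; rfl

theorem ap_map_inv {x : G} (hx : x ∈ E) : ap a x⁻¹ = (ap a x)⁻¹ := by
  rw [ap_of_mem a hx, ap_of_mem a (E.inv_mem hx), ← Subgroup.coe_inv, ← map_inv]
  rfl

theorem ap_map_pow {x : G} (hx : x ∈ E) : ∀ n : ℕ, ap a (x ^ n) = ap a x ^ n
  | 0 => by rw [pow_zero, pow_zero, ap_map_one]
  | n + 1 => by rw [pow_succ, pow_succ, ap_map_mul a (E.pow_mem hx n) hx, ap_map_pow hx n]

theorem ap_map_zpow {x : G} (hx : x ∈ E) (n : ℤ) : ap a (x ^ n) = ap a x ^ n := by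
  obtain ⟨n, rfl | rfl⟩ := n.eq_nat_or_neg
  · rw [zpow_natCast, zpow_natCast, ap_map_pow a hx]
  · rw [zpow_neg, zpow_neg, zpow_natCast, zpow_natCast, ap_map_inv a (E.pow_mem hx n),
      ap_map_pow a hx]

theorem ap_map_comm {x y : G} (hx : x ∈ E) (hy : y ∈ E) : ap a ⁅x, y⁆ = ⁅ap a x, ap a y⁆ := by
  have h1 := E.mul_mem (E.mul_mem hx hy) (E.inv_mem hx)
  rw [commutatorElement_def, commutatorElement_def, ap_map_mul a h1 (E.inv_mem hy),
    ap_map_mul a (E.mul_mem hx hy) (E.inv_mem hx), ap_map_mul a hx hy, ap_map_inv a hx,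
    ap_map_inv a hy]

theorem ap_inj {x y : G} (hx : x ∈ E) (hy : y ∈ E) (h : ap a x = ap a y) : x = y := by
  rw [ap_of_mem a hx, ap_of_mem a hy] at h
  exact congrArg Subtype.val (a.injective (Subtype.ext h))

theorem ap_inv_ap {x : G} (hx : x ∈ E) : ap a⁻¹ (ap a x) = x := by
  rw [← ap_mul_apply _ _ hx, inv_mul_cancel, ap_one_apply]

theorem ap_ap_inv {x : G} (hx : x ∈ E) : ap a (ap a⁻¹ x) = x := by
  rw [← ap_mul_apply _ _ hx, mul_inv_cancel, ap_one_apply]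

theorem ap_ext (h : ∀ x ∈ E, ap a x = ap b x) : a = b :=
  MulEquiv.ext fun x => Subtype.ext (by rw [← ap_coe, ← ap_coe, h x x.2])

theorem ap_pow_fix {x : G} (hx : x ∈ E) (h : ap a x = x) : ∀ n : ℕ, ap (a ^ n) x = x
  | 0 => by rw [pow_zero, ap_one_apply]
  | n + 1 => by rw [pow_succ, ap_mul_apply _ _ hx, h, ap_pow_fix hx h n]

theorem ap_inv_fix {x : G} (hx : x ∈ E) (h : ap a x = x) : ap a⁻¹ x = x :=
  ap_inj a (ap_mem _ hx) hx (by rw [ap_ap_inv a hx, h])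

end Ap

/-- The automorphisms of `E` induced by conjugation with elements of `H`. -/
def inner (E H : Subgroup G) : Subgroup (MulAut E) where
  carrier := {a | ∃ g ∈ H, ∀ x ∈ E, ap a x = g * x * g⁻¹}
  one_mem' := ⟨1, H.one_mem, fun x _ => by rw [ap_one_apply]; group⟩
  mul_mem' := by
    rintro a b ⟨g, hg, hga⟩ ⟨h, hh, hhb⟩
    refine ⟨g * h, H.mul_mem hg hh, fun x hx => ?_⟩
    rw [ap_mul_apply _ _ hx, hga _ (ap_mem b hx), hhb x hx]
    group
  inv_mem' := by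
    rintro a ⟨g, hg, hga⟩
    refine ⟨g⁻¹, H.inv_mem hg, fun x hx => ?_⟩
    have h1 := hga _ (ap_mem a⁻¹ hx)
    rw [ap_ap_inv a hx] at h1
    conv_rhs => rw [h1]
    group

theorem mem_inner {E H : Subgroup G} {a : MulAut E} :
    a ∈ inner E H ↔ ∃ g ∈ H, ∀ x ∈ E, ap a x = g * x * g⁻¹ := Iff.rfl

theorem inner_mono {E H H' : Subgroup G} (h : H ≤ H') : inner E H ≤ inner E H' :=
  fun _ ⟨g, hg, hga⟩ => ⟨g, h hg, hga⟩

/-- The image of a subgroup under an automorphism of `E`. -/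
def img {E : Subgroup G} (a : MulAut E) (U : Subgroup G) : Subgroup G :=
  ((U.subgroupOf E).map a.toMonoidHom).map E.subtype

section Img

variable {E : Subgroup G} (a : MulAut E) {U W : Subgroup G}

theorem img_le : img a U ≤ E := map_subtype_le _

theorem mem_img {y : G} : y ∈ img a U ↔ ∃ x ∈ U, x ∈ E ∧ ap a x = y := by
  constructor
  · rintro ⟨_, ⟨x, hx, rfl⟩, rfl⟩
    exact ⟨x, hx, x.2, ap_coe a x⟩
  · rintro ⟨x, hx, hxE, rfl⟩
    exact ⟨a ⟨x, hxE⟩, ⟨⟨x, hxE⟩, hx, rfl⟩, (ap_of_mem a hxE).symm⟩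

theorem ap_mem_img {x : G} (hx : x ∈ U) (hxE : x ∈ E) : ap a x ∈ img a U :=
  (mem_img a).2 ⟨x, hx, hxE, rfl⟩

theorem img_mono (h : U ≤ W) : img a U ≤ img a W := fun _ hy => by
  obtain ⟨x, hx, hxE, rfl⟩ := (mem_img a).1 hy
  exact ap_mem_img a (h hx) hxE

theorem card_img (h : U ≤ E) : Nat.card (img a U) = Nat.card U := by
  rw [img, Nat.card_congr (equivMapOfInjective _ _ E.subtype_injective).symm.toEquiv,
    Nat.card_congr (equivMapOfInjective (U.subgroupOf E) a.toMonoidHom a.injective).symm.toEquiv,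
    Nat.card_congr (subgroupOfEquivOfLe h).toEquiv]

theorem img_mul (b : MulAut E) : img (a * b) U = img a (img b U) := by
  ext y
  rw [mem_img, mem_img]
  constructor
  · rintro ⟨x, hx, hxE, rfl⟩
    exact ⟨_, ap_mem_img b hx hxE, ap_mem b hxE, (ap_mul_apply a b hxE).symm⟩
  · rintro ⟨z, hz, -, rfl⟩
    obtain ⟨x, hx, hxE, rfl⟩ := (mem_img b).1 hz
    exact ⟨x, hx, hxE, ap_mul_apply a b hxE⟩

theorem img_one (h : U ≤ E) : img (1 : MulAut E) U = U := by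
  ext y
  rw [mem_img]
  exact ⟨fun ⟨x, hx, _, e⟩ => by rw [ap_one_apply] at e; exact e ▸ hx,
    fun hy => ⟨y, hy, h hy, ap_one_apply y⟩⟩

theorem img_eq_of_forall [Finite G] (h : U ≤ E) (hinv : ∀ x ∈ U, ap a x ∈ U) : img a U = U := by
  refine eq_of_le_of_card_ge (fun y hy => ?_) (card_img a h).ge
  obtain ⟨x, hx, -, rfl⟩ := (mem_img a).1 hy
  exact hinv x hx

theorem conj_mem_img (hU : ∀ e ∈ E, ∀ x ∈ U, e * x * e⁻¹ ∈ U) :
    ∀ e ∈ E, ∀ y ∈ img a U, e * y * e⁻¹ ∈ img a U := by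
  intro e he y hy
  obtain ⟨x, hx, hxE, rfl⟩ := (mem_img a).1 hy
  have he' := ap_mem a⁻¹ he
  refine (mem_img a).2 ⟨_, hU _ he' x hx, E.mul_mem (E.mul_mem he' hxE) (E.inv_mem he'), ?_⟩
  rw [ap_map_mul a (E.mul_mem he' hxE) (E.inv_mem he'), ap_map_mul a he' hxE, ap_map_inv a he',
    ap_ap_inv a he]

theorem img_comm_le {U' M : Subgroup G} (hUE : U ≤ E) (hU'E : U' ≤ E)
    (h : ∀ x ∈ U, ∀ y ∈ U', ⁅x, y⁆ ∈ M) : ∀ x ∈ img a U, ∀ y ∈ img a U', ⁅x, y⁆ ∈ img a M := by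
  intro x hx y hy
  obtain ⟨x', hx', hxE, rfl⟩ := (mem_img a).1 hx
  obtain ⟨y', hy', hyE, rfl⟩ := (mem_img a).1 hy
  rw [← ap_map_comm a hxE hyE]
  refine ap_mem_img a (h x' hx' y' hy') ?_
  rw [commutatorElement_def]
  exact E.mul_mem (E.mul_mem (E.mul_mem hxE hyE) (E.inv_mem hxE)) (E.inv_mem hyE)

end Img

section Chain

variable {E : Subgroup G} {a : MulAut E} {L₀ L₁ : Subgroup G}

/-- Powers of an automorphism moving `L₁` inside an invariant `L₀` do the same. -/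
theorem stab_pow (h1 : L₁ ≤ E) (hinv : ∀ x ∈ L₀, x ∈ E → ap a x ∈ L₀)
    (hd : ∀ x ∈ L₁, ap a x * x⁻¹ ∈ L₀) : ∀ (n : ℕ), ∀ x ∈ L₁, ap (a ^ n) x * x⁻¹ ∈ L₀ := by
  intro n
  induction n with
  | zero => intro x _; rw [pow_zero, ap_one_apply, mul_inv_cancel]; exact L₀.one_mem
  | succ n ih =>
    intro x hx
    have hxE := h1 hx
    have hnx := ap_mem (a ^ n) hxE
    have hd' : ap (a ^ n) x * x⁻¹ ∈ E := E.mul_mem hnx (E.inv_mem hxE)
    rw [pow_succ', ap_mul_apply _ _ hxE]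
    have h2 := L₀.mul_mem (hinv _ (ih x hx) hd') (hd x hx)
    rw [ap_map_mul a hnx (E.inv_mem hxE), ap_map_inv a hxE] at h2
    convert h2 using 1
    group

/-- An automorphism fixing `L₀` and moving `L₁` inside `L₀` acts by an exponent. -/
theorem fix_step (h1 : L₁ ≤ E) (h0 : ∀ x ∈ L₀, x ∈ E → ap a x = x)
    (hd : ∀ x ∈ L₁, ap a x * x⁻¹ ∈ L₀) (q : ℕ) (hq : ∀ x ∈ L₀, x ^ q = 1) :
    ∀ x ∈ L₁, ap (a ^ q) x = x := by
  intro x hx
  have hxE := h1 hx
  set d := ap a x * x⁻¹ with hdx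
  have hdE : d ∈ E := E.mul_mem (ap_mem a hxE) (E.inv_mem hxE)
  have hdfix : ap a d = d := h0 d (hd x hx) hdE
  have key : ∀ n : ℕ, ap (a ^ n) x = d ^ n * x := by
    intro n
    induction n with
    | zero => rw [pow_zero, pow_zero, ap_one_apply, one_mul]
    | succ n ih =>
      rw [pow_succ', ap_mul_apply _ _ hxE, ih, ap_map_mul a (E.pow_mem hdE n) hxE,
        ap_map_pow a hdE, hdfix, pow_succ, mul_assoc, hdx, inv_mul_cancel_right]
  rw [key, hq d (hd x hx), one_mul]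

/-- The automorphisms preserving `L₀` and moving `L₁` inside it form a subgroup. -/
def moves [Finite G] (E L₁ L₀ : Subgroup G) (h1 : L₁ ≤ E) : Subgroup (MulAut E) where
  carrier := {a | (∀ x ∈ L₀, x ∈ E → ap a x ∈ L₀) ∧ ∀ x ∈ L₁, ap a x * x⁻¹ ∈ L₀}
  one_mem' := ⟨fun x hx _ => by rwa [ap_one_apply], fun x _ => by
    rw [ap_one_apply, mul_inv_cancel]; exact L₀.one_mem⟩
  mul_mem' := by
    rintro a b ⟨ha0, ha1⟩ ⟨hb0, hb1⟩
    refine ⟨fun x hx hxE => by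
      rw [ap_mul_apply _ _ hxE]; exact ha0 _ (hb0 x hx hxE) (ap_mem b hxE), fun x hx => ?_⟩
    have hxE := h1 hx
    have h2 := L₀.mul_mem (ha0 _ (hb1 x hx) (E.mul_mem (ap_mem b hxE) (E.inv_mem hxE))) (ha1 x hx)
    rw [ap_map_mul a (ap_mem b hxE) (E.inv_mem hxE), ap_map_inv a hxE] at h2
    rw [ap_mul_apply _ _ hxE]
    convert h2 using 1
    group
  inv_mem' := by
    rintro a ⟨ha0, ha1⟩
    have h0 : ∀ x ∈ L₀, x ∈ E → ap a⁻¹ x ∈ L₀ := by
      intro x hx hxE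
      have himg : img a (L₀ ⊓ E) = L₀ ⊓ E :=
        img_eq_of_forall a inf_le_right fun y hy => ⟨ha0 y hy.1 hy.2, ap_mem a hy.2⟩
      obtain ⟨y, hy, hyE, hy'⟩ := (mem_img a).1 (himg.ge ⟨hx, hxE⟩)
      rw [← hy', ap_inv_ap a hyE]
      exact hy.1
    refine ⟨h0, fun x hx => ?_⟩
    have hxE := h1 hx
    have h2 := h0 _ (L₀.inv_mem (ha1 x hx)) (E.inv_mem (E.mul_mem (ap_mem a hxE) (E.inv_mem hxE)))
    rw [mul_inv_rev, inv_inv, ap_map_mul _ hxE (E.inv_mem (ap_mem a hxE)),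
      ap_map_inv _ (ap_mem a hxE), ap_inv_ap a hxE] at h2
    exact h2

/-- The automorphisms fixing a subgroup pointwise. -/
def fixer (E L : Subgroup G) : Subgroup (MulAut E) where
  carrier := {a | ∀ x ∈ L, x ∈ E → ap a x = x}
  one_mem' := fun x _ _ => ap_one_apply x
  mul_mem' := fun {a b} ha hb x hx hxE => by rw [ap_mul_apply _ _ hxE, hb x hx hxE, ha x hx hxE]
  inv_mem' := fun {a} ha x hx hxE => ap_inv_fix a hxE (ha x hx hxE)

end Chain

end Cfsg.Lib.FusionSys.SecThree
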