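import Cfsg.Agent.Lib.FusionSys.SecThree.Sys

/-!
# The line fixed by a torus on an elementary abelian group of order `p ^ 3`
-/

set_option linter.style.haveILetI false
set_option autoImplicit false

namespace Cfsg.Lib.FusionSys.SecThree

open Subgroup
open scoped commutatorElement

variable {G : Type*} [Group G] [Finite G] {p : ℕ} [hp : Fact p.Prime]

omit [Finite G] in
theorem orderOf_eq_of_ne {x : G} (hx : x ^ p = 1) (hx1 : x ≠ 1) : orderOf x = p :=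
  orderOf_eq_prime hx hx1

theorem mem_zpowers_symm {x y : G} (hy : y ^ p = 1) (hx1 : x ≠ 1) (hx : x ∈ zpowers y) :
    y ∈ zpowers x := by
  have hxp : x ^ p = 1 := (ea_zpowers hy).2 x hx
  have hy1 : y ≠ 1 := fun h => hx1 (by simpa [h] using hx)
  have h : zpowers x = zpowers y := eq_of_card_le (zpowers_le.2 hx) (le_of_eq (by
    rw [Nat.card_zpowers, Nat.card_zpowers, orderOf_eq_of_ne hy hy1, orderOf_eq_of_ne hxp hx1]))
  exact h ▸ mem_zpowers y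

theorem eq_one_of_mem_zpowers {x y z : G} (hy : y ^ p = 1) (hz : z ^ p = 1) (hyz : y ∉ zpowers z)
    (h1 : x ∈ zpowers y) (h2 : x ∈ zpowers z) : x = 1 := by
  by_contra hx1
  exact hyz ((zpowers_le.2 h2) (mem_zpowers_symm hy hx1 h1))

/-- The setting of the line lemma. -/
structure LineData (S : Sys p G) (E V Z : Subgroup G) (w : G) : Prop where
  ess : E ∈ S.ess
  vE : V ≤ E
  comm : ∀ e ∈ E, ∀ v ∈ V, e * v = v * e
  ea : EA p V
  card_V : Nat.card V = p ^ 3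
  inv : ∀ a ∈ S.aut E, ∀ x ∈ V, ap a x ∈ V
  zV : Z ≤ V
  zc : Z ≤ center G
  card_Z : Nat.card Z = p ^ 2
  wZ : w ∈ Z
  w_ne : w ≠ 1
  comm_w : ∀ g : G, ∀ v ∈ V, ⁅g, v⁆ ∈ zpowers w
  fixed : ∀ g : G, g ∉ E → ∀ v ∈ V, g * v = v * g → v ∈ Z
  moved : ∃ a ∈ S.aut E, ∃ z ∈ Z, ap a z ∉ Z
  zS : ∀ φ ∈ S.autS, ∀ z ∈ Z, φ z ∈ Z
  wS : ∀ φ ∈ S.autS, φ w ∈ zpowers w

/-- Two tori inverting `w` fix the same line of `Z`. -/
theorem line_unique (S : Sys p G) {Z : Subgroup G} {w : G} (hZc : Z ≤ center G) (hZ : EA p Z)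
    (hcard : Nat.card Z = p ^ 2) (hw : w ∈ Z) (hw1 : w ≠ 1) {c c' : G} (hc : c ∈ Z) (hc' : c' ∈ Z)
    (hcw : c ∉ zpowers w) {τ τ' : MulAut G} (hτ : τ ∈ S.autS) (hτ' : τ' ∈ S.autS)
    (h1 : τ w = w⁻¹) (h2 : τ c = c) (h1' : τ' w = w⁻¹) (h2' : τ' c' = c') : c' ∈ zpowers c := by
  have hwp := hZ.2 w hw
  have hZeq : zpowers w ⊔ zpowers c = Z := by
    refine eq_of_card_le (sup_le (zpowers_le.2 hw) (zpowers_le.2 hc)) ?_
    have h := RankThree.card_lt_sup_zpowers S.isP (zpowers w) hcw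
    rw [Nat.card_zpowers, orderOf_eq_of_ne hwp hw1, ← sq] at h
    exact hcard ▸ h
  have hwc : ∀ a ∈ zpowers w, a * c = c * a := fun a ha => hZ.1 a (zpowers_le.2 hw ha) c hc
  obtain ⟨u, hu, i, rfl⟩ := (mem_sup_zpowers_of_commute hwc).1 (hZeq.symm ▸ hc')
  obtain ⟨j, rfl⟩ := mem_zpowers_iff.1 hu
  set ρ := τ * τ' with hρ
  set d := ρ (w ^ j * c ^ i) * (w ^ j * c ^ i)⁻¹ with hd
  have hρc : ρ (w ^ j * c ^ i) = w ^ (-j) * c ^ i := by
    rw [hρ, MulAut.mul_apply, h2', map_mul, map_zpow, map_zpow, h1, h2, inv_zpow, zpow_neg]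
  have hd' : d = w ^ (-(2 * j)) := by
    rw [hd, hρc, mul_inv_rev, ← mul_assoc, mul_inv_cancel_right, ← zpow_neg, ← zpow_add]
    ring_nf
  have hρd : ρ d = d := by
    have h3 : ρ w = w := by rw [hρ, MulAut.mul_apply, h1', map_inv, h1, inv_inv]
    rw [hd', map_zpow, h3]
  have hpw : ∀ n : ℕ, (ρ ^ n) (w ^ j * c ^ i) = d ^ n * (w ^ j * c ^ i) := by
    intro n
    induction n with
    | zero => simp
    | succ n ih =>
      rw [pow_succ', MulAut.mul_apply, ih, map_mul, map_pow, hρd, pow_succ, mul_assoc (d ^ n), hd,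
        inv_mul_cancel_right]
  haveI : Finite (MulAut G) := Finite.of_injective (fun a : MulAut G => (a : G → G))
    DFunLike.coe_injective
  obtain ⟨k, m, hm, hord⟩ := Nat.exists_eq_pow_mul_and_not_dvd (orderOf_pos ρ).ne' p hp.out.ne_one
  obtain ⟨g, hg⟩ := S.autS_inner (ρ ^ m) (pow_mem (mul_mem hτ hτ') m)
    ⟨k, by rw [← pow_mul, mul_comm, ← hord, pow_orderOf_eq_one]⟩
  have hdm : d ^ m = 1 := by
    have h3 := hpw m
    rw [hg, MulAut.conj_apply, mem_center_iff.1 (hZc hc') g, mul_inv_cancel_right] at h3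
    exact mul_eq_right.1 h3.symm
  have hd1 : d = 1 := by
    have hdp : d ^ p = 1 := by
      rw [hd']; exact (ea_zpowers hwp).2 _ (zpow_mem (mem_zpowers w) _)
    have h := pow_gcd_eq_one.2 ⟨hdp, hdm⟩
    rwa [(hp.out.coprime_iff_not_dvd.2 hm).gcd_eq_one, pow_one] at h
  have h2j : (w ^ j) ^ 2 = 1 := by
    rw [hd', zpow_neg, inv_eq_one] at hd1
    rw [← zpow_natCast, ← zpow_mul, mul_comm]
    exact hd1
  have hwj : w ^ j = 1 := eq_one_of_two_pow S.odd (n := 1) (k := 1) (by simpa using h2j)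
    (by rw [pow_one]; exact (ea_zpowers hwp).2 _ hu)
  rw [hwj, one_mul]
  exact zpow_mem (mem_zpowers c) i

namespace LineData

variable {S : Sys p G} {E V Z : Subgroup G} {w : G} (D : LineData S E V Z w)
include D

theorem wp : w ^ p = 1 := D.ea.2 w (D.zV D.wZ)

theorem zE : Z ≤ E := D.zV.trans D.vE

theorem exists_outer : ∃ g, g ∉ E := by
  by_contra h
  push Not at h
  have h1 : E.index = 1 := index_eq_one.2 ((eq_top_iff' E).2 h)
  rw [S.index_eq E D.ess] at h1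
  exact hp.out.ne_one h1

theorem img_z_le {γ : MulAut E} (hγ : γ ∈ S.aut E) : img γ Z ≤ V := by
  intro y hy
  obtain ⟨x, hx, -, rfl⟩ := (mem_img γ).1 hy
  exact D.inv γ hγ x (D.zV hx)

/-- The conjugate of an outer conjugation: its moves and its fixed points. -/
theorem conj_outer {γ α : MulAut E} (hγ : γ ∈ S.aut E) {g : G} (hg : g ∉ E)
    (hα : ∀ x ∈ E, ap α x = g * x * g⁻¹) :
    (∀ x ∈ V, ap (γ * α * γ⁻¹) x * x⁻¹ ∈ zpowers (ap γ w)) ∧
      ∀ x ∈ V, (ap (γ * α * γ⁻¹) x = x ↔ x ∈ img γ Z) := by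
  have hcalc : ∀ y ∈ V, ap (γ * α * γ⁻¹) (ap γ y) = ap γ ⁅g, y⁆ * ap γ y := fun y hy => by
    have hyE := D.vE hy
    rw [ap_mul_apply _ _ (ap_mem γ hyE), ap_inv_ap γ hyE, ap_mul_apply _ _ hyE, hα y hyE,
      ← ap_map_mul γ ((zpowers_le.2 (D.zE D.wZ)) (D.comm_w g y hy)) hyE, commutatorElement_def,
      inv_mul_cancel_right]
  refine ⟨fun x hx => ?_, fun x hx => ?_⟩
  · have hy := D.inv γ⁻¹ (inv_mem hγ) x hx
    have h := hcalc _ hy
    rw [ap_ap_inv γ (D.vE hx)] at h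
    rw [h, mul_inv_cancel_right]
    obtain ⟨i, hi⟩ := mem_zpowers_iff.1 (D.comm_w g _ hy)
    rw [← hi, ap_map_zpow γ (D.zE D.wZ)]
    exact zpow_mem (mem_zpowers _) i
  · constructor
    · intro hfix
      have hy := D.inv γ⁻¹ (inv_mem hγ) x hx
      have h := hcalc _ hy
      rw [ap_ap_inv γ (D.vE hx), hfix, right_eq_mul] at h
      have h1 : ⁅g, ap γ⁻¹ x⁆ = 1 := by
        refine ap_inj γ ((zpowers_le.2 (D.zE D.wZ)) (D.comm_w g _ hy)) E.one_mem ?_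
        rw [h, ap_map_one]
      exact (mem_img γ).2 ⟨_, D.fixed g hg _ hy (commutatorElement_eq_one_iff_mul_comm.1 h1),
        D.vE hy, ap_ap_inv γ (D.vE hx)⟩
    · intro hx'
      obtain ⟨y, hy, hyE, rfl⟩ := (mem_img γ).1 hx'
      rw [hcalc y (D.zV hy), comm_eq_one.2 (mem_center_iff.1 (D.zc hy) g), ap_map_one, one_mul]

/-- The commutator line lies in no other conjugate of `Z`. -/
theorem not_mem_img {γ : MulAut E} (hγ : γ ∈ S.aut E) (hne : img γ Z ≠ Z) : w ∉ img γ Z := by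
  intro hw
  obtain ⟨g, hg⟩ := D.exists_outer
  obtain ⟨α, hαA, -, hα⟩ := S.exists_conj D.ess g
  obtain ⟨hmov, hfix⟩ := D.conj_outer hγ hg hα
  set W2 := zpowers w ⊔ zpowers (ap γ w) with hW2
  have hwW : w ∈ W2 := mem_sup_left (mem_zpowers w)
  have hW2Z : W2 ≤ img γ Z :=
    sup_le (zpowers_le.2 hw) (zpowers_le.2 (ap_mem_img γ D.wZ (D.zE D.wZ)))
  have hW2V : W2 ≤ V := hW2Z.trans (D.img_z_le hγ)
  have hwE : zpowers w ≤ E := zpowers_le.2 (D.zE D.wZ)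
  set M := S.aut E ⊓ fixer E (zpowers w) ⊓ moves E W2 (zpowers w) (hW2V.trans D.vE) ⊓
    moves E V W2 D.vE with hM
  have hR : inner E ⊤ ≤ M := by
    rintro a ⟨h, -, ha⟩
    have hfixw : ∀ x ∈ zpowers w, x ∈ E → ap a x = x := fun x hx hxE => by
      rw [ha x hxE, mem_center_iff.1 (D.zc ((zpowers_le.2 D.wZ) hx)) h, mul_inv_cancel_right]
    have hmv : ∀ x ∈ V, ap a x * x⁻¹ ∈ zpowers w := fun x hx => by
      rw [ha x (D.vE hx), ← commutatorElement_def]; exact D.comm_w h x hx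
    refine ⟨⟨⟨S.conj_mem E D.ess ⟨h, mem_top h, ha⟩, hfixw⟩,
      ⟨fun x hx hxE => by rw [hfixw x hx hxE]; exact hx, fun x hx => hmv x (hW2V hx)⟩⟩,
      ⟨fun x hx hxE => ?_, fun x hx => mem_sup_left (hmv x hx)⟩⟩
    have := W2.mul_mem (mem_sup_left (hmv x (hW2V hx))) hx
    rwa [inv_mul_cancel_right] at this
  have hρA : γ * α * γ⁻¹ ∈ S.aut E := mul_mem (mul_mem hγ hαA) (inv_mem hγ)
  have hρ : γ * α * γ⁻¹ ∈ M := by
    have hf : ∀ x ∈ W2, ap (γ * α * γ⁻¹) x = x := fun x hx => (hfix x (hW2V hx)).2 (hW2Z hx)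
    refine ⟨⟨⟨hρA, fun x hx _ => hf x ((zpowers_le.2 hwW) hx)⟩,
      ⟨fun x hx _ => by rw [hf x ((zpowers_le.2 hwW) hx)]; exact hx, fun x hx => ?_⟩⟩,
      ⟨fun x hx _ => by rw [hf x hx]; exact hx, fun x hx => mem_sup_right (hmov x hx)⟩⟩
    rw [hf x hx, mul_inv_cancel]
    exact one_mem _
  obtain ⟨N, hN⟩ := exists_pow_card (p := p) S.isP
  have hpM : ∀ a ∈ M, ∃ n : ℕ, ∀ x ∈ V, ap (a ^ p ^ n) x = x := by
    rintro a ⟨⟨⟨-, h1⟩, -, h2⟩, h3, h4⟩
    refine ⟨N + N, fun x hx => ?_⟩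
    rw [pow_add, pow_mul]
    have hW2fix : ∀ y ∈ W2, y ∈ E → ap (a ^ p ^ N) y = y := fun y hy _ =>
      fix_step (hW2V.trans D.vE) h1 h2 _ (fun z _ => hN z) y hy
    exact fix_step D.vE hW2fix (stab_pow D.vE h3 h4 _) _ (fun z _ => hN z) x hx
  obtain ⟨h, hh⟩ := S.exists_conj_of_isPGroup D.ess M (fun a ha => ha.1.1.1) hR D.vE
    (fun a ha => D.inv a ha.1.1.1) hpM hρ
  have hle : Z ≤ img γ Z := fun z hz => (hfix z (D.zV hz)).1 (by
    rw [hh z (D.zV hz), mem_center_iff.1 (D.zc hz) h, mul_inv_cancel_right])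
  exact hne (eq_of_card_le hle (le_of_eq (card_img γ D.zE))).symm

/-- A line of `Z` fixed by a torus inverting `w`, for each conjugate of `Z`. -/
theorem exists_line_of {γ : MulAut E} (hγ : γ ∈ S.aut E) (hne : img γ Z ≠ Z) :
    ∃ c ∈ Z, c ∈ img γ Z ∧ c ∉ zpowers w ∧ Z ⊓ img γ Z = zpowers c ∧
      ∃ τ ∈ S.autS, τ w = w⁻¹ ∧ τ c = c := by
  have hwγ := D.not_mem_img hγ hne
  haveI : Z.Normal := ⟨fun z hz g => by
    rw [mem_center_iff.1 (D.zc hz) g, mul_inv_cancel_right]; exact hz⟩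
  have hcard : Nat.card ↥(Z ⊓ img γ Z) = p := by
    have h1 := card_sup_le (U := Z) (W := img γ Z)
    have h2 : Nat.card ↥(Z ⊔ img γ Z) ≤ p ^ 3 :=
      D.card_V ▸ card_le_of_le (sup_le D.zV (D.img_z_le hγ))
    rw [card_img γ D.zE, D.card_Z] at h1
    have h3 : p ≤ Nat.card ↥(Z ⊓ img γ Z) := by
      by_contra h
      push Not at h
      have := Nat.mul_lt_mul_of_le_of_lt h2 h (pow_pos hp.out.pos 3)
      rw [h1] at this
      exact this.ne (by ring)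
    have hlt : Z ⊓ img γ Z < Z := lt_of_le_of_ne inf_le_left fun h =>
      hne (eq_of_card_le (inf_eq_left.1 h) (le_of_eq (card_img γ D.zE))).symm
    have h4 := RankThree.card_mul_le_of_lt S.isP hlt
    rw [D.card_Z, sq] at h4
    exact le_antisymm (Nat.le_of_mul_le_mul_left h4 hp.out.pos) h3
  obtain ⟨c, hc, hc1⟩ : ∃ c ∈ Z ⊓ img γ Z, c ≠ 1 := by
    by_contra h
    push Not at h
    rw [(eq_bot_iff_forall _).2 h, card_bot] at hcard
    exact hp.out.ne_one hcard.symm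
  have hcp : c ^ p = 1 := D.ea.2 c (D.zV hc.1)
  have hcard_c : Nat.card (zpowers c) = p := by rw [Nat.card_zpowers, orderOf_eq_of_ne hcp hc1]
  have hzc : Z ⊓ img γ Z = zpowers c :=
    (eq_of_card_le (zpowers_le.2 hc) (by rw [hcard, hcard_c])).symm
  have hwc : w ∉ zpowers c := fun h => hwγ ((zpowers_le.2 hc.2) h)
  have hcw : c ∉ zpowers w := fun h => hwc (mem_zpowers_symm D.wp hc1 h)
  haveI : (zpowers c).Normal := ⟨fun z hz g => by
    rw [mem_center_iff.1 ((zpowers_le.2 (D.zc hc.1)) hz) g, mul_inv_cancel_right]; exact hz⟩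
  haveI := finite_mulAut E
  obtain ⟨g, hg⟩ := D.exists_outer
  obtain ⟨α, hαA, hαI, hα⟩ := S.exists_conj D.ess g
  obtain ⟨hmov, hfix⟩ := D.conj_outer hγ hg hα
  set K := S.aut E ⊓ fixer E (zpowers c) with hK
  have hRK : inner E ⊤ ≤ K := by
    rintro a ⟨h, -, ha⟩
    refine ⟨S.conj_mem E D.ess ⟨h, mem_top h, ha⟩, fun x hx hxE => ?_⟩
    rw [ha x hxE, mem_center_iff.1 ((zpowers_le.2 (D.zc hc.1)) hx) h, mul_inv_cancel_right]
  have hu1 : ∃ x ∈ V, ap α x * x⁻¹ ∉ zpowers c := by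
    obtain ⟨x, hx, hxZ⟩ : ∃ x ∈ V, x ∉ Z := SetLike.exists_of_lt (lt_of_le_of_ne D.zV fun h => by
      have := D.card_Z
      rw [h, D.card_V] at this
      exact absurd ((Nat.pow_right_injective hp.out.two_le) this) (by norm_num))
    refine ⟨x, hx, fun h => hxZ (D.fixed g hg x hx ?_)⟩
    rw [hα x (D.vE hx), ← commutatorElement_def] at h
    exact commutatorElement_eq_one_iff_mul_comm.1
      (eq_one_of_mem_zpowers D.wp hcp hwc (D.comm_w g x hx) h)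
  have hw'' : ap γ w ∉ Z := by
    intro h
    have hne' : img γ⁻¹ Z ≠ Z := fun h' => hne (by
      conv_lhs => rw [← h']
      rw [← img_mul, mul_inv_cancel, img_one D.zE])
    refine D.not_mem_img (inv_mem hγ) hne' ((mem_img γ⁻¹).2 ⟨_, h, ap_mem γ (D.zE D.wZ), ?_⟩)
    rw [ap_inv_ap γ (D.zE D.wZ)]
  have hρ : γ * α * γ⁻¹ ∈ K := by
    refine ⟨(S.aut E).mul_mem ((S.aut E).mul_mem hγ hαA) ((S.aut E).inv_mem hγ), fun x hx _ => ?_⟩
    exact (hfix x (D.zV ((zpowers_le.2 hc.1) hx))).2 ((zpowers_le.2 hc.2) hx)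
  obtain ⟨t, htK, htR, -, htinv⟩ := exists_inverter S.isP S.odd K (inner E ⊤)
    (S.isPGroup_inner D.ess) hRK
    (fun P' hP' hp' hle => le_antisymm (S.sylow E D.ess P' (hP'.trans inf_le_left) hp' hle) hle)
    (W := V) (U := zpowers c) (zpowers_le.2 (D.zV hc.1)) D.vE
    (by rw [D.card_V, hcard_c]; ring) (fun x hx => by rw [D.ea.2 x hx]; exact one_mem _)
    (fun a ha => D.inv a ha.1)
    (fun a ha x hx => by rw [ha.2 x hx (D.vE ((zpowers_le.2 (D.zV hc.1)) hx))]; exact hx)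
    hαI hu1 (D.zV D.wZ) hwc
    (by rw [hα w (D.zE D.wZ), mem_center_iff.1 (D.zc D.wZ) g, mul_inv_cancel_right, mul_inv_cancel]
        exact one_mem _)
    hρ (fun h => by
      have h2 : ap (γ * α * γ⁻¹) w ∈ Z := sup_le (zpowers_le.2 hc.1) (zpowers_le.2 D.wZ) h
      have h3 : ap (γ * α * γ⁻¹) w * w⁻¹ = 1 := by
        by_contra h4
        exact hw'' ((zpowers_le.2 (Z.mul_mem h2 (Z.inv_mem D.wZ)))
          (mem_zpowers_symm (by rw [← ap_map_pow γ (D.zE D.wZ), D.wp, ap_map_one]) h4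
            (hmov w (D.zV D.wZ))))
      exact hwγ ((hfix w (D.zV D.wZ)).1 (mul_inv_eq_one.1 h3)))
  obtain ⟨τ, hτ, hτe⟩ := S.extend_of_conj D.ess htK.1 hg hα (htR α hαI)
  refine ⟨c, hc.1, hc.2, hcw, hzc, τ, hτ, ?_, ?_⟩
  · have h1 := htinv w (D.zV D.wZ)
    rw [← hτe w (D.zE D.wZ)] at h1
    exact eq_inv_of_mul_eq_one_left
      (eq_one_of_mem_zpowers D.wp hcp hwc ((zpowers w).mul_mem (D.wS τ hτ) (mem_zpowers w)) h1)
  · rw [hτe c (D.zE hc.1)]
    exact htK.2 c (mem_zpowers c) (D.zE hc.1)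

/-- The distinguished line: invariant under the automorphisms of `E`, fixed by a torus. -/
theorem exists_line : ∃ c ∈ Z, c ∉ zpowers w ∧ (∀ a ∈ S.aut E, ap a c ∈ zpowers c) ∧
    ∃ τ ∈ S.autS, τ w = w⁻¹ ∧ τ c = c := by
  obtain ⟨γ, hγ, z, hz, hzγ⟩ := D.moved
  have hne : img γ Z ≠ Z := fun h => hzγ (h ▸ ap_mem_img γ hz (D.zE hz))
  obtain ⟨c, hcZ, hcγ, hcw, hzc, τ, hτ, hτw, hτc⟩ := D.exists_line_of hγ hne
  have hall : ∀ b ∈ S.aut E, c ∈ img b Z := by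
    intro b hb
    by_cases h : img b Z = Z
    · rw [h]; exact hcZ
    obtain ⟨c', hc'Z, hc'b, hc'w, -, τ', hτ', hτ'w, hτ'c⟩ := D.exists_line_of hb h
    have h1 := line_unique S D.zc (D.ea.mono D.zV) D.card_Z D.wZ D.w_ne hc'Z hcZ hc'w hτ' hτ hτ'w
      hτ'c hτw hτc
    exact (zpowers_le.2 hc'b) h1
  refine ⟨c, hcZ, hcw, fun a ha => ?_, τ, hτ, hτw, hτc⟩
  have key : ∀ b ∈ S.aut E, ap a c ∈ img b Z := fun b hb => by
    have h := ap_mem_img a (hall (a⁻¹ * b) (mul_mem (inv_mem ha) hb)) (D.zE hcZ)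
    rwa [← img_mul, mul_inv_cancel_left] at h
  exact hzc.le ⟨img_one (E := E) D.zE ▸ key 1 (one_mem _), key γ hγ⟩

/-- The distinguished line is invariant under the automorphisms of the whole group. -/
theorem line_invariant {c : G} (hc : c ∈ Z) (hcw : c ∉ zpowers w) {τ : MulAut G}
    (hτ : τ ∈ S.autS) (hτw : τ w = w⁻¹) (hτc : τ c = c) {φ : MulAut G} (hφ : φ ∈ S.autS) :
    φ c ∈ zpowers c := by
  refine line_unique S D.zc (D.ea.mono D.zV) D.card_Z D.wZ D.w_ne hc (D.zS φ hφ c hc) hcw hτ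
    (mul_mem (mul_mem hφ hτ) (inv_mem hφ)) hτw hτc ?_ ?_
  · obtain ⟨j, hj⟩ := mem_zpowers_iff.1 (D.wS φ⁻¹ (inv_mem hφ))
    rw [MulAut.mul_apply, MulAut.mul_apply, ← hj, map_zpow, hτw, inv_zpow, map_inv, hj,
      ← MulAut.mul_apply, mul_inv_cancel, MulAut.one_apply]
  · have h : φ⁻¹ (φ c) = c := by rw [← MulAut.mul_apply, inv_mul_cancel, MulAut.one_apply]
    rw [MulAut.mul_apply, MulAut.mul_apply, h, hτc]

end LineData

end Cfsg.Lib.FusionSys.SecThree
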