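import Cfsg.Agent.Lib.FusionSys.SecThree.TypeA
import Cfsg.Agent.Lib.FusionSys.SecThree.Line

/-!
# A conjugate of `Ω₁(Z(E))` not commuting with it
-/

set_option linter.style.haveILetI false
set_option autoImplicit false

namespace Cfsg.Lib.FusionSys.SecThree

open Subgroup
open scoped commutatorElement

variable {G : Type*} [Group G] [Finite G] {p : ℕ} [hp : Fact p.Prime]

/-- The subgroup generated by the conjugates of `V` under the automorphisms of `E`. -/
def orbit (S : Sys p G) (E V : Subgroup G) : Subgroup G := ⨆ a : S.aut E, img (a : MulAut E) V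

section Orbit

variable (S : Sys p G) {E V : Subgroup G}

omit [Finite G] hp in
theorem orbit_le : orbit S E V ≤ E := iSup_le fun a => img_le (a : MulAut E)

omit [Finite G] hp in
theorem img_le_orbit {a : MulAut E} (ha : a ∈ S.aut E) : img a V ≤ orbit S E V :=
  le_iSup (fun b : S.aut E => img (b : MulAut E) V) ⟨a, ha⟩

omit [Finite G] hp in
theorem le_orbit (hV : V ≤ E) : V ≤ orbit S E V := by
  have h := img_le_orbit (S := S) (V := V) (one_mem (S.aut E))
  rwa [img_one hV] at h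

omit [Finite G] hp in
theorem ap_mem_orbit {a : MulAut E} (ha : a ∈ S.aut E) {x : G} (hx : x ∈ orbit S E V) :
    ap a x ∈ orbit S E V := by
  have hle : orbit S E V ≤ (((orbit S E V).subgroupOf E).comap a.toMonoidHom).map E.subtype :=
    iSup_le fun b y hy => by
      have hyE : y ∈ E := img_le (b : MulAut E) hy
      refine ⟨⟨y, hyE⟩, ?_, rfl⟩
      show ((a ⟨y, hyE⟩ : E) : G) ∈ orbit S E V
      rw [← ap_of_mem a hyE]
      refine img_le_orbit S (mul_mem ha b.2) ?_
      rw [img_mul]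
      exact ap_mem_img a hy hyE
  obtain ⟨y, hy, rfl⟩ := hle hx
  rw [show ap a (E.subtype y) = ((a y : E) : G) from ap_coe a y]
  exact hy

theorem orbit_normal (hE : E ∈ S.ess) : (orbit S E V).Normal := ⟨fun x hx g => by
  obtain ⟨a, ha, -, hag⟩ := S.exists_conj hE g
  rw [← hag x (orbit_le S hx)]
  exact ap_mem_orbit S ha hx⟩

end Orbit

set_option maxHeartbeats 800000 in
/-- All conjugates of `Ω₁(Z(E))` commute with it. -/
theorem alpha_false (S : Sys p G) {E E2 : Subgroup G} (hA : S.TypeA E) (hE2 : E2 ∈ S.ess)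
    (hVE2 : omegaC p E ≤ E2) (hSE : ∀ φ ∈ S.autS, ∀ v ∈ omegaC p E, φ v ∈ omegaC p E)
    (hB : ∀ E' ∈ S.ess, E' ≠ E → ∀ a ∈ S.aut E', ∀ z ∈ omegaZ p G, ap a z ∈ omegaZ p G)
    {γ : MulAut E2} (hγ : γ ∈ S.aut E2) {v₀ v₀' : G} (hv₀ : v₀ ∈ omegaC p E)
    (hv₀' : v₀' ∈ img γ (omegaC p E)) (hne : v₀ * v₀' ≠ v₀' * v₀) : False := by
  have hG := S.isP
  have hp2 := S.odd
  set V := omegaC p E with hVdef
  set Z := omegaZ p G with hZ
  have hE : E2 ≠ E := by
    intro h
    subst h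
    refine hne ?_
    rw [img_eq_of_forall γ (omegaC_le E2) fun v hv => S.ap_omegaC hA.1 γ hv] at hv₀'
    exact hv₀'.2.1 v₀ hv₀.1
  have hZinv := hB E2 hE2 hE
  set V' := img γ V with hV'
  haveI hVn : V.Normal := S.omegaC_normal hA.1
  haveI hEn := S.normal E hA.1
  haveI hE2n := S.normal E2 hE2
  have hV'ea : EA p V' := (ea_omegaC E).img_ea γ
  have hV'n : ∀ e ∈ E2, ∀ y ∈ V', e * y * e⁻¹ ∈ V' :=
    conj_mem_img γ fun e _ y hy => hVn.conj_mem y hy e
  obtain ⟨x, hxV', hxE⟩ : ∃ x ∈ V', x ∉ E := by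
    by_contra h
    push Not at h
    exact hne (hv₀.2.1 v₀' (h v₀' hv₀')).symm
  have hxp : x ^ p = 1 := hV'ea.2 x hxV'
  have hxE2 : x ∈ E2 := img_le γ hxV'
  have hZE2 : Z ≤ E2 := fun y hy => S.center_le hE2 hy.1
  have hZV : Z ≤ V := S.omegaZ_le hA.1
  have hZimg : ∀ a ∈ S.aut E2, img a Z = Z := fun a ha => img_eq_of_forall a hZE2 (hZinv a ha)
  have hcx : ∀ v ∈ V, ⁅x, v⁆ ∈ Z := by
    intro v hv
    have h1 : ⁅x, v⁆ ∈ V := V.mul_mem (hVn.conj_mem v hv x) (V.inv_mem hv)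
    have h2 : ⁅x, v⁆ ∈ V' := by
      rw [commutatorElement_def, mul_assoc, mul_assoc, ← mul_assoc v]
      exact V'.mul_mem hxV' (hV'n v (hVE2 hv) _ (V'.inv_mem hxV'))
    exact hA.mem_omegaZ hxE h1 (hV'ea.1 x hxV' _ h2)
  have hfix : ∀ v ∈ V, ⁅x, v⁆ = 1 → v ∈ Z := fun v hv h =>
    hA.mem_omegaZ hxE hv (comm_eq_one.1 h)
  let f : V →* Z :=
    MonoidHom.mk' (fun v => ⟨⁅x, (v : G)⁆, hcx v v.2⟩) fun a b => Subtype.ext (by
      show ⁅x, (a : G) * b⁆ = ⁅x, (a : G)⁆ * ⁅x, (b : G)⁆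
      rw [commutatorElement_mul_right_eq_mul_conj,
        mul_assoc ⁅x, (a : G)⁆ (a : G), mem_center_iff.1 (hcx b b.2).1 (a : G), ← mul_assoc,
        mul_inv_cancel_right])
  have hker : f.ker = Z.subgroupOf V := by
    ext v
    rw [MonoidHom.mem_ker, mem_subgroupOf]
    exact ⟨fun h => hfix v v.2 (congrArg Subtype.val h), fun h => Subtype.ext
      (comm_eq_one.2 (mem_center_iff.1 h.1 x))⟩
  have hcardV : Nat.card V = Nat.card Z * Nat.card f.range := by
    rw [← Subgroup.index_ker f, ← Subgroup.card_mul_index f.ker, hker,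
      Nat.card_congr (subgroupOfEquivOfLe hZV).toEquiv]
  rcases hA.card_cases with hV | hV
  rotate_left
  · -- `|V| = p ^ 3`
    have hrange : Nat.card f.range ≤ Nat.card Z := card_le_card_group f.range
    obtain ⟨k, hk⟩ := IsPGroup.iff_card.mp (hG.to_subgroup Z)
    have hlt : Nat.card Z < Nat.card V :=
      lt_of_le_of_ne (card_le_of_le hZV) fun h => hA.omegaZ_lt.ne (eq_of_card_le hZV h.ge)
    rw [← hVdef] at hV
    rw [hV, hk] at hlt
    have hk3 : k < 3 := (Nat.pow_lt_pow_iff_right hp.out.one_lt).1 hlt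
    have hk2 : k = 2 := by
      by_contra hk2
      have h1 : Nat.card Z * Nat.card f.range ≤ p ^ k * p ^ k := by
        rw [hk] at hrange ⊢; exact Nat.mul_le_mul_left _ hrange
      rw [← hcardV, hV, ← pow_add] at h1
      have := (Nat.pow_le_pow_iff_right hp.out.one_lt).1 h1
      omega
    subst hk2
    have hr : Nat.card f.range = p := by
      rw [hV, hk] at hcardV
      exact Nat.eq_of_mul_eq_mul_left (pow_pos hp.out.pos 2) (hcardV.symm.trans (pow_succ p 2))
    obtain ⟨w, hw, hw1⟩ : ∃ w ∈ f.range, w ≠ 1 := by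
      by_contra h
      push Not at h
      rw [(eq_bot_iff_forall _).2 h, card_bot] at hr
      exact hp.out.ne_one hr.symm
    obtain ⟨v1, hv1⟩ := hw
    have hw1' : (w : G) ≠ 1 := fun h => hw1 (Subtype.ext h)
    have hgen : ∀ v ∈ V, ⁅x, v⁆ ∈ zpowers (w : G) := by
      intro v hv
      have hx1 := mem_zpowers_of_prime_card (G := f.range) hr
        (g := ⟨w, ⟨v1, hv1⟩⟩) (fun h => hw1 (congrArg Subtype.val h))
        (g' := ⟨f ⟨v, hv⟩, ⟨_, rfl⟩⟩)
      obtain ⟨j, hj⟩ := mem_zpowers_iff.1 hx1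
      refine mem_zpowers_iff.2 ⟨j, ?_⟩
      have h := congrArg (fun y : f.range => ((y : Z) : G)) hj
      simpa [f] using h
    have hcomm_w : ∀ g : G, ∀ v ∈ V, ⁅g, v⁆ ∈ zpowers (w : G) := by
      intro g v hv
      obtain ⟨e, he, i, rfl⟩ := S.exists_decomp hA.1 hxE g
      rw [commutatorElement_mul_left_eq_conj_mul, comm_eq_one.2 (hv.2.1 e he), mul_one,
        mul_inv_cancel, one_mul,
        RankThree.comm_pow_left (show Commute x ⁅x, v⁆ from mem_center_iff.1 (hcx v hv).1 x)]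
      exact pow_mem (hgen v hv) i
    have hwV : ⁅x, (v1 : G)⁆ = w := congrArg Subtype.val hv1
    obtain ⟨a, ha, z, hz, hza⟩ := hA.2
    have D : LineData S E V Z w := ⟨hA.1, omegaC_le E, fun e he v hv => hv.2.1 e he, ea_omegaC E,
      hV, fun a _ v hv => S.ap_omegaC hA.1 a hv, hZV, fun y hy => hy.1, hk, w.2, hw1', hcomm_w,
      fun g hg v hv h => hA.mem_omegaZ hg hv h, ⟨a, ha, z, hz, hza⟩,
      fun φ _ y hy => Sys.omegaZ_map φ hy, fun φ hφ => by
        rw [← hwV, map_commutatorElement, hwV]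
        exact hcomm_w _ _ (hSE φ hφ _ v1.2)⟩
    obtain ⟨c, hc, hcw, hca, τ, hτ, hτw, hτc⟩ := D.exists_line
    have hc1 : c ≠ 1 := fun h => hcw (h ▸ one_mem _)
    have hcS : ∀ φ ∈ S.autS, φ c ∈ zpowers c := fun φ hφ =>
      D.line_invariant hc hcw hτ hτw hτc hφ
    refine hc1 (mem_bot.1 ((S.core (zpowers c) (fun E' hE' => ?_) fun φ hφ y hy => ?_) ▸
      mem_zpowers c))
    · have hcE' : c ∈ E' := S.center_le hE' hc.1
      refine ⟨zpowers_le.2 hcE', fun b hb y hy => ?_⟩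
      have hbc : ap b c ∈ zpowers c := by
        by_cases h : E' = E
        · subst h; exact hca b hb
        have hinv := hB E' hE' h
        set K0 := S.aut E' ⊓ fixer E' Z with hK0
        obtain ⟨k, hk, φ, hφ, hφe⟩ := S.frattini_argument hE' K0 inf_le_left
          (fun a' ha' m hm => ⟨(S.aut E').mul_mem ((S.aut E').mul_mem ha' hm.1) ((S.aut E').inv_mem ha'),
            fixer_conj a' (fun y hy _ => hinv _ (inv_mem ha') y hy) hm.2⟩)
          (fun m ⟨g, _, hg⟩ => ⟨S.conj_mem E' hE' ⟨g, mem_top g, hg⟩, fun y hy hyE => by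
            rw [hg y hyE, mem_center_iff.1 hy.1 g, mul_inv_cancel_right]⟩) hb
        have h1 := hφe c hcE'
        rw [ap_mul_apply _ _ hcE', hk.2 _ (hinv b hb c hc) (ap_mem b hcE')] at h1
        exact h1 ▸ hcS φ hφ
      obtain ⟨m, rfl⟩ := mem_zpowers_iff.1 hy
      rw [ap_map_zpow b hcE']
      exact zpow_mem hbc m
    · obtain ⟨m, rfl⟩ := mem_zpowers_iff.1 hy
      rw [map_zpow]
      exact zpow_mem (hcS φ hφ) m
  -- `|V| = p ^ 2`
  have hcZ : Nat.card Z = p := card_omegaZ_of_plane S hA hV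
  set W := orbit S E2 V with hW
  haveI hWn : W.Normal := orbit_normal S hE2
  haveI hZn : Z.Normal := Sys.omegaZ_normal
  have hVW : V ≤ W := le_orbit S hVE2
  have hxW : x ∈ W := img_le_orbit S hγ hxV'
  have hgen : ∀ a : S.aut E2, ∀ y ∈ img (a : MulAut E2) V, ∀ e ∈ E2, ⁅e, y⁆ ∈ Z := by
    intro a y hy e he
    obtain ⟨v, hv, hvE, rfl⟩ := (mem_img _).1 hy
    have he' := ap_mem (a : MulAut E2)⁻¹ he
    rw [← ap_ap_inv (a : MulAut E2) he, ← ap_map_comm _ he' hvE]
    refine hZinv _ a.2 _ (comm_mem_of_card_step hG hZn hVn hZV ?_ _ hv)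
    rw [hV, hcZ, sq]
  have hWcomm : ∀ y ∈ W, ∀ e ∈ E2, ⁅e, y⁆ ∈ Z := by
    intro y hy e he
    set π := QuotientGroup.mk' Z with hπ
    have hle : W ≤ (centralizer ({π e} : Set (G ⧸ Z))).comap π := iSup_le fun a y' hy' => by
      refine mem_centralizer_singleton_iff.2 ?_
      have h := hgen a y' hy' e he
      rw [← QuotientGroup.ker_mk' Z, MonoidHom.mem_ker, ← hπ, map_commutatorElement] at h
      exact (comm_eq_one.1 h).symm
    rw [← QuotientGroup.ker_mk' Z, MonoidHom.mem_ker, ← hπ, map_commutatorElement]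
    exact comm_eq_one.2 (mem_centralizer_singleton_iff.1 (hle hy)).symm
  have hWE2 : W ≤ E2 := orbit_le S
  have hWp : ∀ y ∈ W, y ^ p = 1 := by
    intro y hy
    have hy' : y ∈ closure (⋃ a : S.aut E2, (img (a : MulAut E2) V : Set G)) := by
      rw [Subgroup.closure_iUnion]; simp only [closure_eq]; exact hy
    have hcl : closure (⋃ a : S.aut E2, (img (a : MulAut E2) V : Set G)) = W := by
      rw [Subgroup.closure_iUnion]; simp only [closure_eq]; rfl
    refine exp_of_closure hp2 (N := Z) (fun n hn b _ => mem_center_iff.1 hn.1 b)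
      (fun n hn => hn.2) (fun a ha b hb => hWcomm b (hcl ▸ hb) a (hWE2 (hcl ▸ ha))) ?_ y hy'
    intro a ha
    obtain ⟨b, hb⟩ := Set.mem_iUnion.1 ha
    exact ((ea_omegaC E).img_ea (b : MulAut E2)).2 a hb
  have hW4 : Nat.card W ≤ p ^ 4 := by
    have h := RankThree.section_bound S.sec W Z (hZV.trans hVW)
      (fun a ha b hb => hWcomm b hb a (hWE2 ha)) fun a ha => by rw [hWp a ha]; exact Z.one_mem
    rw [hcZ, ← pow_succ] at h
    exact h
  have hsupE : W ⊔ E = ⊤ := by
    rw [eq_top_iff, ← S.sup_eq_top hA.1 hxE]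
    exact sup_le le_sup_right (zpowers_le.2 (mem_sup_left hxW))
  have hWE : Nat.card W = p * Nat.card ↥(W ⊓ E) := card_eq_of_index (S.index_eq E hA.1) hsupE
  have hVWE : V ≤ W ⊓ E := le_inf hVW (omegaC_le E)
  have hxmove : ∀ e ∈ E, ⁅x, e⁆ ∈ W ⊓ E := fun e he => ⟨by
      rw [commutatorElement_def, mul_assoc, mul_assoc, ← mul_assoc e]
      exact W.mul_mem hxW (hWn.conj_mem _ (W.inv_mem hxW) e),
    E.mul_mem (hEn.conj_mem e he x) (E.inv_mem he)⟩
  obtain ⟨k, hk⟩ := IsPGroup.iff_card.mp (hG.to_subgroup (W ⊓ E))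
  have hk2 : 2 ≤ k := by
    have h := card_le_of_le hVWE
    rw [hk, hV] at h
    exact (Nat.pow_le_pow_iff_right hp.out.one_lt).1 h
  have hk3 : k ≤ 3 := by
    rw [hWE, hk, ← pow_succ'] at hW4
    have := (Nat.pow_le_pow_iff_right hp.out.one_lt).1 hW4
    omega
  rcases (show k = 2 ∨ k = 3 by omega) with rfl | rfl
  · -- `W ∩ E = V`
    have hWV : W ⊓ E = V := (eq_of_card_le hVWE (by rw [hk, hV])).symm
    rw [hWV] at hxmove
    have hEV : E = V := torus_false S hA hV le_rfl (omegaC_le E)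
      (fun a _ y hy => S.ap_omegaC hA.1 a hy)
      (fun g y hy => V.mul_mem (hVn.conj_mem y hy g) (V.inv_mem hy)) hxE hxmove
    have h1 := S.card_eq hE2
    have h2 := S.card_eq hA.1
    rw [hEV, hV] at h2
    have h3 := card_le_of_le hWE2
    rw [hWE, hk, ← h2, h1] at h3
    have h4 : 0 < Nat.card E2 := Nat.card_pos
    have := hp.out.two_le
    nlinarith
  · -- `W ∩ E` is elementary of order `p ^ 3`
    set B := W ⊓ E with hBdef
    obtain ⟨b, hb, hbV⟩ : ∃ b ∈ B, b ∉ V := SetLike.exists_of_lt (lt_of_le_of_ne hVWE fun h => by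
      rw [← h, hV] at hk
      exact absurd hk (pow_lt_pow_of_lt (by norm_num)).ne)
    have hVb : V ⊔ zpowers b = B :=
      (eq_or_eq_of_card hG le_sup_left (sup_le hVWE (zpowers_le.2 hb))
        (by rw [hk, hV]; ring)).resolve_left fun h => hbV (h.le (mem_sup_right (mem_zpowers b)))
    have hBea : EA p B := by
      rw [← hVb]
      exact (ea_omegaC E).sup_zpowers (fun a ha => (ha.2.1 b hb.2).symm) (hWp b hb.1)
    have hBn : B.Normal := Subgroup.normal_inf_normal W E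
    have hBcube : IsCube p E V B :=
      ⟨hBea, hk, hVWE, inf_le_right, fun l _ y hy => hBn.conj_mem y hy l⟩
    have hBinv : ∀ a ∈ S.aut E, ∀ y ∈ B, ap a y ∈ B := fun a _ y hy => by
      have h := cube_unique S hA hV (hBcube.img rfl a fun v hv => S.ap_omegaC hA.1 a⁻¹ hv) hBcube
      exact h.le (ap_mem_img a hy hy.2)
    have hEV : E = V := torus_false S hA hV hVWE inf_le_right hBinv
      (fun g y hy => comm_mem_of_card_step hG hVn hBn hVWE (by rw [hk, hV]; ring) g hy) hxE hxmove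
    have h := card_le_of_le (inf_le_right : B ≤ E)
    rw [hk, hEV, hV] at h
    exact absurd h (not_le.2 (pow_lt_pow_of_lt (by norm_num)))

end Cfsg.Lib.FusionSys.SecThree
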