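import Cfsg.Agent.Lib.FusionSys.SecThree.Alpha
import Cfsg.Agent.Lib.PGroup.OmegaTwo

/-!
# An essential subgroup moving an elementary subgroup of order `p ^ 3`
-/

set_option linter.style.haveILetI false
set_option autoImplicit false

namespace Cfsg.Lib.FusionSys.SecThree

open Subgroup
open scoped commutatorElement

variable {G : Type*} [Group G] [Finite G] {p : ℕ} [hp : Fact p.Prime]

/-- Restriction of an automorphism to an invariant subgroup. -/
noncomputable def restrictAut (σ : MulAut G) (H : Subgroup G) (h : ∀ x ∈ H, σ x ∈ H) : MulAut H :=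
  MulEquiv.ofBijective ((σ.toMonoidHom.comp H.subtype).codRestrict H fun x => h x x.2)
    (Finite.injective_iff_bijective.1 fun _ _ e =>
      Subtype.ext (σ.injective (congrArg Subtype.val e)))

omit hp in
theorem coe_restrictAut (σ : MulAut G) (H : Subgroup G) (h : ∀ x ∈ H, σ x ∈ H) (x : H) :
    ((restrictAut σ H h x : H) : G) = σ x := rfl

omit hp in
theorem coe_restrictAut_pow (σ : MulAut G) (H : Subgroup G) (h : ∀ x ∈ H, σ x ∈ H) :
    ∀ (n : ℕ) (x : H), (((restrictAut σ H h ^ n) x : H) : G) = (σ ^ n) x := by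
  intro n
  induction n with
  | zero => intro x; simp
  | succ n ih =>
    intro x
    rw [pow_succ', MulAut.mul_apply, coe_restrictAut, ih, pow_succ', MulAut.mul_apply]

set_option maxHeartbeats 1600000 in
/-- An essential subgroup containing `B` and fixing `Ω₁(Z(E))` leaves `B` invariant. -/
theorem beta_false (S : Sys p G) {E E3 B : Subgroup G} (hA : S.TypeA E) (hE3 : E3 ∈ S.ess)
    (hV : Nat.card (omegaC p E) = p ^ 2) (hBc : IsCube p E (omegaC p E) B) (hBn : B.Normal)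
    (hBS : ∀ φ ∈ S.autS, ∀ y ∈ B, φ y ∈ B) (hES : ∀ φ ∈ S.autS, ∀ y ∈ E, φ y ∈ E)
    (hB3 : B ≤ E3) (hVinv : ∀ a ∈ S.aut E3, ∀ v ∈ omegaC p E, ap a v ∈ omegaC p E)
    {γ : MulAut E3} (hγ : γ ∈ S.aut E3) (hne : img γ B ≠ B) : False := by
  have hG := S.isP
  have hp2 := S.odd
  set V := omegaC p E with hVdef
  set Z := omegaZ p G with hZ
  haveI hVn : V.Normal := S.omegaC_normal hA.1
  haveI hEn := S.normal E hA.1
  haveI hE3n := S.normal E3 hE3
  haveI := finite_mulAut E3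
  have hcZ : Nat.card Z = p := card_omegaZ_of_plane S hA hV
  have hVea : EA p V := ea_omegaC E
  have hVE3 : V ≤ E3 := hBc.2.2.1.trans hB3
  have hB3c : IsCube p E3 V B :=
    ⟨hBc.1, hBc.2.1, hBc.2.2.1, hB3, fun l _ y hy => hBn.conj_mem y hy l⟩
  have hUc : IsCube p E3 V (img γ B) := hB3c.img rfl γ fun v hv => hVinv _ (inv_mem hγ) v hv
  set U := img γ B with hUdef
  have hne' : B ≠ U := fun h => hne h.symm
  have hUE : U ≤ E := fun y hy => hA.mem_of_commute fun v hv => hUc.1.1 y hy v (hUc.2.2.1 hv)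
  obtain ⟨b₀, hb₀, hb₀V⟩ := exists_cube_not_mem hG hV hBc
  obtain ⟨u, hu, huV⟩ := exists_cube_not_mem hG hV hUc
  obtain ⟨hm, hm1, hW4, hWexp, hWcen, hWcomm⟩ :=
    cube_sup hG hV hB3c hUc hne' S.sec hp2 hb₀ hb₀V hu huV
  set W := B ⊔ U with hWdef
  have hWE : W ≤ E := sup_le hBc.2.2.2.1 hUE
  have hWE3 : W ≤ E3 := sup_le hB3 (img_le γ)
  have hVW : V ≤ W := hBc.2.2.1.trans le_sup_left
  have hWinv : ∀ a ∈ S.aut E3, ∀ y ∈ W, ap a y ∈ W := fun a ha y hy =>
    (img_cube_sup hB3c hUc a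
      (cube_le hG hV hB3c hUc hne' S.sec hp2 hVea (hB3c.img rfl a (hVinv a⁻¹ (inv_mem ha))))
      (cube_le hG hV hB3c hUc hne' S.sec hp2 hVea (hUc.img rfl a (hVinv a⁻¹ (inv_mem ha)))))
      (ap_mem_img a hy (hWE3 hy))
  haveI hWn : W.Normal := ⟨fun y hy g => by
    obtain ⟨a, ha, -, hag⟩ := S.exists_conj hE3 g
    rw [← hag y (hWE3 hy)]
    exact hWinv a ha y hy⟩
  -- the commutator of `W`
  have hmZ : ⁅b₀, u⁆ ∈ Z := by
    refine ⟨?_, hm.2.2⟩
    refine comm_mem_center_step hG (N := zpowers ⁅b₀, u⁆) ⟨fun y hy g => ?_⟩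
      (by rw [Nat.card_zpowers, orderOf_eq_prime hm.2.2 hm1]) (mem_zpowers _)
    obtain ⟨i, rfl⟩ := mem_zpowers_iff.1 hy
    rw [← conj_zpow]
    refine zpow_mem ?_ i
    rw [show g * ⁅b₀, u⁆ * g⁻¹ = ⁅g * b₀ * g⁻¹, g * u * g⁻¹⁆ by
      simp only [commutatorElement_def]; group]
    exact hWcomm _ (hWn.conj_mem _ (mem_sup_left hb₀) g) _ (hWn.conj_mem _ (mem_sup_right hu) g)
  have hWZ : ∀ x ∈ W, ∀ y ∈ W, ⁅x, y⁆ ∈ Z := fun x hx y hy =>
    zpowers_le.2 hmZ (hWcomm x hx y hy)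
  -- the second group
  obtain ⟨γ', hγ', z, hz, hzγ⟩ := hA.2
  have hzE : z ∈ E := (S.omegaZ_le hA.1 hz).1
  have hVγ' : ∀ v ∈ V, ap γ' v ∈ V := fun v hv => S.ap_omegaC hA.1 γ' hv
  have hB' : img γ' B = B := cube_unique S hA hV
    (hBc.img rfl γ' fun v hv => S.ap_omegaC hA.1 γ'⁻¹ hv) hBc
  set W' := img γ' W with hW'def
  have hW'E : W' ≤ E := img_le γ'
  have hBW' : B ≤ W' := hB'.ge.trans (img_mono γ' le_sup_left)
  have hW'4 : Nat.card W' = p ^ 4 := by rw [hW'def, card_img γ' hWE, hW4]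
  have hW'exp : ∀ y ∈ W', y ^ p = 1 := by
    intro y hy
    obtain ⟨x, hx, hxE, rfl⟩ := (mem_img γ').1 hy
    rw [← ap_map_pow γ' hxE, hWexp x hx, ap_map_one]
  have hW'n : ∀ e ∈ E, ∀ y ∈ W', e * y * e⁻¹ ∈ W' :=
    conj_mem_img γ' fun e _ y hy => hWn.conj_mem y hy e
  have hW'comm : ∀ x ∈ W', ∀ y ∈ W', ⁅x, y⁆ ∈ img γ' Z :=
    img_comm_le γ' hWE hWE fun x hx y hy => hWZ x hx y hy
  have hZ'V : img γ' Z ≤ V := by
    intro y hy
    obtain ⟨x, hx, -, rfl⟩ := (mem_img γ').1 hy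
    exact hVγ' x (S.omegaZ_le hA.1 hx)
  have hZ'Z : ∀ y ∈ img γ' Z, y ∈ Z → y = 1 := by
    intro y hy hyZ
    by_contra hy1
    refine hzγ ?_
    have e1 : zpowers y = img γ' Z := eq_zpowers_of_card
      ((card_img γ' fun x hx => (S.omegaZ_le hA.1 hx).1).trans hcZ) hy hy1
    exact zpowers_le.2 hyZ (e1.ge (ap_mem_img γ' hz hzE))
  have hWW' : ¬ W' ≤ W := by
    intro h
    obtain ⟨j, hj⟩ := mem_zpowers_iff.1 ((eq_zpowers_of_card hcZ hmZ hm1).ge hz)
    refine hzγ ?_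
    rw [← hj, ap_map_zpow γ' (hWE (hVW hm))]
    refine Z.zpow_mem ?_ j
    rw [ap_map_comm γ' (hWE (mem_sup_left hb₀)) (hWE (mem_sup_right hu))]
    exact hWZ _ (h (ap_mem_img γ' (mem_sup_left hb₀) (hWE (mem_sup_left hb₀)))) _
      (h (ap_mem_img γ' (mem_sup_right hu) (hWE (mem_sup_right hu))))
  have hinf : W ⊓ W' = B :=
    (eq_or_eq_of_card hG (le_inf le_sup_left hBW') inf_le_right
      (by rw [hW'4, hBc.2.1]; ring)).resolve_right fun h => hWW' (inf_eq_right.1 h)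
  have hUB : U ⊓ B = V := by rw [inf_comm]; exact cube_inf hG hV hB3c hUc hne'
  obtain ⟨c, hcW', hcW⟩ := SetLike.not_le_iff_exists.1 hWW'
  have hcE : c ∈ E := hW'E hcW'
  have hcp : c ^ p = 1 := hW'exp c hcW'
  have hVc : ∀ y ∈ E, ∀ v ∈ V, v * y = y * v := fun y hy v hv => (hv.2.1 y hy).symm
  have hBW'Z : ∀ y ∈ B, ∀ x ∈ W', ⁅y, x⁆ ∈ img γ' Z := fun y hy x hx => hW'comm y (hBW' hy) x hx
  set b := ⁅u, c⁆ with hbdef
  have hbB : b ∈ B := by
    rw [← hinf]
    refine ⟨?_, ?_⟩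
    · rw [hbdef, commutatorElement_def, mul_assoc, mul_assoc, ← mul_assoc c]
      exact W.mul_mem (mem_sup_right hu) (hWn.conj_mem _ (W.inv_mem (mem_sup_right hu)) c)
    · rw [hbdef, commutatorElement_def]
      exact W'.mul_mem (hW'n u (hUE hu) c hcW') (W'.inv_mem hcW')
  have hbV : b ∉ V := fun h => by
    refine triple_false hp2 hG S.sec hVea hV (hBc.1.2 b₀ hb₀) (hUc.1.2 u hu) hcp
      (hVc b₀ (hBc.2.2.2.1 hb₀)) (hVc u (hUE hu)) (hVc c hcE) hm ?_ h
      (cube_indep hG hV hB3c hUc hne' hb₀ hb₀V hu huV hcp hcW)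
    exact hZ'V (hBW'Z b₀ hb₀ c hcW')
  have hbu : ⁅b, u⁆ ∈ V := S.omegaZ_le hA.1 (hWZ b (mem_sup_left hbB) u (mem_sup_right hu))
  set v' := ⁅b, c⁆ with hv'def
  have hv'Z' : v' ∈ img γ' Z := hBW'Z b hbB c hcW'
  have hv'V : v' ∈ V := hZ'V hv'Z'
  have hv'1 : v' ≠ 1 := by
    intro h1
    have hcB : ∀ y ∈ B, y * c = c * y := by
      intro y hy
      have hle : B ≤ centralizer ({c} : Set G) := by
        rw [← cube_eq_sup hG hV hBc hbB hbV]
        exact sup_le (fun v hv => mem_centralizer_singleton_iff.2 (hVc c hcE v hv))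
          (zpowers_le.2 (mem_centralizer_singleton_iff.2 (comm_eq_one.1 h1)))
      exact mem_centralizer_singleton_iff.1 (hle hy)
    have h2 := (hBc.1.sup_zpowers hcB hcp).card_le S.sec
    have h3 := RankThree.card_lt_sup_zpowers hG B (v := c) fun h => hcW (mem_sup_left h)
    rw [hBc.2.1] at h3
    have := h3.trans h2
    have := hp.out.two_le
    nlinarith [pow_pos hp.out.pos 3]
  have hv'nZ : v' ∉ Z := fun h => hv'1 (hZ'Z v' hv'Z' h)
  have hcE3 : c ∉ E3 := fun hc3 => hbV (by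
    rw [← hUB]
    exact ⟨(hUc.comm_mem hc3 hu).2, hbB⟩)
  -- work modulo `V`
  set π := QuotientGroup.mk' V with hπ
  have hπ1 : ∀ y, π y = 1 ↔ y ∈ V := fun y => QuotientGroup.eq_one_iff y
  have hπc : ∀ x y, ⁅x, y⁆ ∈ V → π x * π y = π y * π x := fun x y h =>
    comm_eq_one.1 (by rw [← map_commutatorElement, hπ1]; exact h)
  have hsupU : V ⊔ zpowers u = U := cube_eq_sup hG hV hUc hu huV
  -- the torus
  set K := S.aut E3 ⊓ fixer E3 V with hK
  set P := inner E3 E with hP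
  have hPK : P ≤ K := by
    rintro a ⟨g, hg, hga⟩
    refine ⟨S.conj_mem E3 hE3 ⟨g, mem_top g, hga⟩, fun v hv hvE => ?_⟩
    rw [hga v hvE, ← hVc g hg v hv, mul_inv_cancel_right]
  obtain ⟨α, hαA, hαI, hα⟩ := S.exists_conj hE3 c
  have hαP : α ∈ P := ⟨c, hcE, hα⟩
  have hmax : ∀ P' : Subgroup (MulAut E3), P' ≤ K → IsPGroup p P' → P ≤ P' → P' = P := by
    intro P' hP'K hP' hle
    refine le_antisymm (fun a ha => ?_) hle
    obtain ⟨g, -, hga⟩ := S.le_inner_of_mem hE3 hcE3 hα (hP'K.trans inf_le_left) hP' (hle hαP) ha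
    refine ⟨g, hA.mem_of_commute fun v hv => ?_, hga⟩
    have h := (hP'K ha).2 v hv (hVE3 hv)
    rw [hga v (hVE3 hv)] at h
    exact mul_inv_eq_iff_eq_mul.1 h
  have hαmove : ∀ y ∈ W, ap α y * y⁻¹ = ⁅c, y⁆ := fun y hy => by
    rw [hα y (hWE3 hy), commutatorElement_def]
  have hcu : ⁅c, u⁆ = b⁻¹ := (commutatorElement_inv u c).symm
  have hcbV : ⁅c, b⁆ ∈ V := by rw [← commutatorElement_inv]; exact V.inv_mem hv'V
  have hcBV : ∀ y ∈ B, ⁅c, y⁆ ∈ V := fun y hy => by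
    rw [← commutatorElement_inv]; exact V.inv_mem (hZ'V (hBW'Z y hy c hcW'))
  -- the moves of `α` on `W`
  have hcW'' : ∀ y ∈ W, ⁅c, y⁆ ∈ B ∧ (⁅c, y⁆ ∈ V → y ∈ B) := by
    intro y hy
    rw [hWdef, ← SetLike.mem_coe, Subgroup.normal_mul] at hy
    obtain ⟨β, hβ, υ, hυ, rfl⟩ := Set.mem_mul.1 hy
    obtain ⟨v, hv, j, rfl⟩ :=
      (mem_sup_zpowers_of_commute (fun v hv => hVc u (hUE hu) v hv)).1 (hsupU.ge hυ)
    have hcu' : π c * π u * (π c)⁻¹ = (π b)⁻¹ * π u := by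
      rw [← map_mul, ← map_inv, ← map_mul, ← map_inv, ← map_mul, ← hcu, commutatorElement_def,
        inv_mul_cancel_right]
    have hcub : Commute (π b) (π u) := hπc b u hbu
    have hcb : π c * π β * (π c)⁻¹ = π β := by
      rw [hπc c β (hcBV β hβ), mul_inv_cancel_right]
    have hv1 : π v = 1 := (hπ1 v).2 hv
    have hval : π ⁅c, β * (v * u ^ j)⁆ = (π b)⁻¹ ^ j := by
      rw [map_commutatorElement, map_mul, map_mul, hv1, one_mul, map_zpow, commutatorElement_def,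
        show π c * (π β * π u ^ j) * (π c)⁻¹ = (π c * π β * (π c)⁻¹) * (π c * π u * (π c)⁻¹) ^ j by
          rw [conj_zpow]; group,
        hcb, hcu', hcub.inv_left.mul_zpow, mul_inv_rev, ← mul_assoc, mul_assoc (π β),
        mul_assoc _ (π u ^ j), mul_inv_cancel, mul_one,
        ((show Commute (π β) (π b) from hπc β b (by
          rw [comm_eq_one.2 (hBc.1.1 β hβ b hbB)]; exact V.one_mem)).inv_right.zpow_right j).eq,
        mul_inv_cancel_right]
    constructor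
    · have h : ⁅c, β * (v * u ^ j)⁆ * ((b⁻¹) ^ j)⁻¹ ∈ V := by
        rw [← hπ1, map_mul, hval, map_inv, map_zpow, map_inv, mul_inv_cancel]
      have h2 := B.mul_mem (hBc.2.2.1 h) (B.zpow_mem (B.inv_mem hbB) j)
      rwa [inv_mul_cancel_right] at h2
    · intro h
      rw [← hπ1, hval, inv_zpow, inv_eq_one, ← map_zpow, hπ1] at h
      have hpj : (p : ℤ) ∣ j := by
        by_contra hpj
        refine hbV ?_
        obtain ⟨s, t, hst⟩ := (Prime.coprime_iff_not_dvd (Nat.prime_iff_prime_int.1 hp.out)).2 hpj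
        rw [← zpow_one b, ← hst, zpow_add, mul_comm s, mul_comm t, zpow_mul, zpow_mul, zpow_natCast,
          hBc.1.2 b hbB, one_zpow, one_mul]
        exact V.zpow_mem h t
      obtain ⟨s, rfl⟩ := hpj
      refine B.mul_mem hβ (B.mul_mem (hBc.2.2.1 hv) ?_)
      rw [zpow_mul, zpow_natCast, hUc.1.2 u hu, one_zpow]
      exact B.one_mem
  set l := γ * α * γ⁻¹ with hl
  have hlK : l ∈ K := ⟨(S.aut E3).mul_mem ((S.aut E3).mul_mem hγ hαA) ((S.aut E3).inv_mem hγ),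
    fixer_conj γ (fun v hv _ => hVinv _ (inv_mem hγ) v hv) (hPK hαP).2⟩
  have hlb : ap l b ∉ V ⊔ zpowers b := by
    rw [cube_eq_sup hG hV hBc hbB hbV]
    intro hin
    have hy := hWinv _ (inv_mem hγ) b (mem_sup_left hbB)
    have hyE := hWE3 hy
    have h1 : ap l b * b⁻¹ = ap γ ⁅c, ap γ⁻¹ b⁆ := by
      rw [← hαmove _ hy, ap_map_mul γ (ap_mem α hyE) (E3.inv_mem hyE), ap_map_inv γ hyE,
        ap_ap_inv γ (hB3 hbB), hl, ap_mul_apply _ _ (hB3 hbB), ap_mul_apply _ _ hyE]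
    obtain ⟨hyB, hyV⟩ := hcW'' _ hy
    have h2 : ap γ ⁅c, ap γ⁻¹ b⁆ ∈ V := by
      rw [← hUB]
      exact ⟨ap_mem_img γ hyB (hB3 hyB), h1 ▸ B.mul_mem hin (B.inv_mem hbB)⟩
    have h3 : ⁅c, ap γ⁻¹ b⁆ ∈ V := by
      rw [← ap_inv_ap γ (hB3 hyB)]
      exact hVinv _ (inv_mem hγ) _ h2
    refine hbV ?_
    rw [← hUB]
    refine ⟨?_, hbB⟩
    rw [← ap_ap_inv γ (hB3 hbB)]
    exact ap_mem_img γ (hyV h3) hyE
  obtain ⟨t, htK, htP, ⟨n₀, htn⟩, htinv⟩ := exists_inverter hG hp2 K P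
    ((S.isPGroup_inner hE3).to_le (inner_mono le_top)) hPK hmax
    (W := W) (U := V) hVW hWE3 (by rw [hW4, hV]; ring)
    (fun y hy => by rw [hWexp y hy]; exact V.one_mem) (fun a ha => hWinv a ha.1)
    (fun a ha v hv => hVinv a ha.1 v hv) hαP
    ⟨u, mem_sup_right hu, fun h => hbV (by
      rw [hαmove u (mem_sup_right hu), hcu] at h
      exact inv_mem_iff.1 h)⟩
    (mem_sup_left hbB) hbV (by rw [hαmove b (mem_sup_left hbB)]; exact hcbV) hlK hlb
  obtain ⟨φ, hφ, hφe⟩ := S.extend_of_conj hE3 htK.1 hcE3 hα (inner_mono le_top (htP α hαP))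
  have hφV : ∀ v ∈ V, φ v = v := fun v hv => by
    rw [hφe v (hVE3 hv)]; exact htK.2 v hv (hVE3 hv)
  have hφW : ∀ y ∈ W, φ y ∈ W ∧ π (φ y) = (π y)⁻¹ := fun y hy => by
    rw [hφe y (hWE3 hy)]
    exact ⟨hWinv t htK.1 y hy, eq_inv_of_mul_eq_one_left (by
      rw [← map_mul, hπ1]; exact htinv y hy)⟩
  haveI : Finite (MulAut G) := Finite.of_injective (fun a : MulAut G => (a : G → G))
    DFunLike.coe_injective
  obtain ⟨k2, m, hm2, hord⟩ := Nat.exists_eq_pow_mul_and_not_dvd (orderOf_pos φ).ne' 2 (by norm_num)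
  obtain ⟨r, hr⟩ := Nat.odd_iff.2 (Nat.two_dvd_ne_zero.1 hm2)
  set τ := φ ^ m with hτ
  have hτ2 : τ ^ 2 ^ k2 = 1 := by rw [hτ, ← pow_mul, mul_comm, ← hord, pow_orderOf_eq_one]
  have hτS : τ ∈ S.autS := pow_mem hφ m
  have hpowV : ∀ i : ℕ, ∀ v ∈ V, (φ ^ i) v = v := by
    intro i
    induction i with
    | zero => simp
    | succ i ih => intro v hv; rw [pow_succ', MulAut.mul_apply, ih v hv, hφV v hv]
  have hpow2 : ∀ i : ℕ, ∀ y ∈ W, (φ ^ (2 * i + 1)) y ∈ W ∧ π ((φ ^ (2 * i + 1)) y) = (π y)⁻¹ := by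
    intro i
    induction i with
    | zero => intro y hy; simpa using hφW y hy
    | succ i ih =>
      intro y hy
      obtain ⟨h1, h2⟩ := hφW y hy
      obtain ⟨h3, h4⟩ := hφW _ h1
      obtain ⟨h5, h6⟩ := ih _ h3
      rw [show 2 * (i + 1) + 1 = (2 * i + 1) + 2 by ring, pow_add, sq, MulAut.mul_apply,
        MulAut.mul_apply]
      exact ⟨h5, by rw [h6, h4, h2, inv_inv]⟩
  have hτV : ∀ v ∈ V, τ v = v := hpowV m
  have hτW : ∀ y ∈ W, τ y ∈ W ∧ π (τ y) = (π y)⁻¹ := fun y hy => by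
    rw [hτ, hr]; exact hpow2 r y hy
  have hτE : ∀ y ∈ E, τ y ∈ E := hES τ hτS
  -- `τ` is an involution on `c`
  set σ := τ * τ with hσ
  have hσV : ∀ v ∈ V, σ v = v := fun v hv => by rw [hσ, MulAut.mul_apply, hτV v hv, hτV v hv]
  have hσ2 : σ ^ 2 ^ k2 = 1 := by rw [hσ, ← sq, ← pow_mul, mul_comm, pow_mul, hτ2, one_pow]
  obtain ⟨N, hN⟩ := exists_pow_card (p := p) hG
  have hgcd : ∀ y : G, ∀ d : G, (σ : MulAut G) y = d * y → σ d = d → d = 1 := by
    intro y d hd hdf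
    have hpw : ∀ i : ℕ, (σ ^ i) y = d ^ i * y := by
      intro i
      induction i with
      | zero => simp
      | succ i ih =>
        rw [pow_succ', MulAut.mul_apply, ih, map_mul, map_pow, hdf, hd, pow_succ, mul_assoc]
    have h1 := hpw (2 ^ k2)
    rw [hσ2, MulAut.one_apply] at h1
    exact eq_one_of_two_pow hp2 (mul_eq_right.1 h1.symm) (hN d)
  have hσW : ∀ y ∈ W, σ y = y := by
    intro y hy
    obtain ⟨h1, h2⟩ := hτW y hy
    obtain ⟨h3, h4⟩ := hτW _ h1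
    have hdV : σ y * y⁻¹ ∈ V := by
      rw [← hπ1, map_mul, map_inv, hσ, MulAut.mul_apply, h4, h2, inv_inv, mul_inv_cancel]
    exact mul_inv_eq_one.1 (hgcd y (σ y * y⁻¹) (by rw [inv_mul_cancel_right]) (hσV _ hdV))
  have hσc : σ c = c := by
    set C3 := centralizer (W : Set G) with hC3
    have hinv3 : ∀ y ∈ C3, σ y ∈ C3 := fun y hy w hw => by
      rw [← hσW w hw, ← map_mul, ← map_mul, hy w hw]
    have hσC3 : ∀ y ∈ C3, σ y = y := by
      have h1 : restrictAut σ C3 hinv3 = 1 := by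
        refine Cfsg.Lib.PGroup.mulAut_eq_one_of_fix_omega hp2 (hG.to_subgroup C3) ?_ fun y hy => ?_
        · have hd : orderOf (restrictAut σ C3 hinv3) ∣ 2 ^ k2 := orderOf_dvd_of_pow_eq_one
            (MulEquiv.ext fun y => Subtype.ext (by
              rw [coe_restrictAut_pow, hσ2, MulAut.one_apply, MulAut.one_apply]))
          exact (((Nat.coprime_primes Nat.prime_two hp.out).2 (Ne.symm hp2)).pow_left k2).coprime_dvd_left
            hd
        · have hyp : (y : G) ^ p = 1 := by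
            rw [← SubmonoidClass.coe_pow, hy, OneMemClass.coe_one]
          have hyV : (y : G) ∈ V := by
            have hyB : (y : G) ∈ B := by
              by_contra hyB
              have h2 := (hBc.1.sup_zpowers (fun w hw => y.2 w (mem_sup_left hw)) hyp).card_le S.sec
              have h3 := RankThree.card_lt_sup_zpowers hG B hyB
              rw [hBc.2.1] at h3
              have := h3.trans h2
              have := hp.out.two_le
              nlinarith [pow_pos hp.out.pos 3]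
            rw [← cube_eq_sup hG hV hBc hb₀ hb₀V] at hyB
            obtain ⟨v, hv, i, hi⟩ :=
              (mem_sup_zpowers_of_commute (fun v hv => hVc b₀ (hBc.2.2.2.1 hb₀) v hv)).1 hyB
            obtain ⟨i', hi'⟩ := mem_powers_iff_mem_zpowers.2 (zpow_mem (mem_zpowers b₀) i)
            have hi'' : b₀ ^ i' = b₀ ^ i := hi'
            have hcomm_u : ⁅b₀ ^ i', u⁆ = 1 := by
              rw [comm_eq_one, show b₀ ^ i' = v⁻¹ * (y : G) by
                rw [hi'', hi, inv_mul_cancel_left]]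
              exact (((show Commute v u from hVc u (hUE hu) v hv).inv_left).mul_left
                (show Commute (y : G) u from (y.2 u (mem_sup_right hu)).symm)).eq
            rw [RankThree.comm_pow_left (show Commute b₀ ⁅b₀, u⁆ from hm.2.1 b₀ (hBc.2.2.2.1 hb₀))]
              at hcomm_u
            have hpi : p ∣ i' := by
              rw [← orderOf_eq_prime hm.2.2 hm1]
              exact orderOf_dvd_of_pow_eq_one hcomm_u
            rw [hi, ← hi'', RankThree.pow_prime_mul_eq_one (hBc.1.2 b₀ hb₀) hpi, mul_one]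
            exact hv
          exact Subtype.ext (hσV _ hyV)
      intro y hy
      have h2 := congrArg (fun a : MulAut C3 => ((a ⟨y, hy⟩ : C3) : G)) h1
      simpa [coe_restrictAut] using h2
    have hd : σ c * c⁻¹ ∈ C3 := fun w hw => by
      have h1 := hσW _ (hWn.conj_mem' w hw c)
      rw [map_mul, map_mul, map_inv, hσW w hw] at h1
      calc w * (σ c * c⁻¹) = σ c * ((σ c)⁻¹ * w * σ c) * c⁻¹ := by group
        _ = σ c * (c⁻¹ * w * c) * c⁻¹ := by rw [h1]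
        _ = σ c * c⁻¹ * w := by group
    exact mul_inv_eq_one.1 (hgcd c (σ c * c⁻¹) (by rw [inv_mul_cancel_right]) (hσC3 _ hd))
  -- the inverted element
  set c'' := τ c with hc''
  have hc''E : c'' ∈ E := hτE c hcE
  have hτc'' : τ c'' = c := by rw [hc'', ← MulAut.mul_apply]; exact hσc
  have hτu := (hτW u (mem_sup_right hu)).2
  obtain ⟨hτb1, hτb⟩ := hτW b (mem_sup_left hbB)
  have hcub : Commute (π b) (π u) := hπc b u hbu
  have hπuc : ⁅π u, π c''⁆ = π b := by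
    have h1 : ⁅(π u)⁻¹, π c''⁆ = (π b)⁻¹ := by
      rw [← hτu, ← hτb, ← map_commutatorElement, hc'', ← map_commutatorElement]
    have h3 : ⁅(π u)⁻¹, π c''⁆ = (π u)⁻¹ * ⁅π u, π c''⁆⁻¹ * π u := by
      simp [commutatorElement_def, mul_assoc]
    rw [h3] at h1
    have h4 : ⁅π u, π c''⁆⁻¹ = π u * (π b)⁻¹ * (π u)⁻¹ := by rw [← h1]; group
    rw [← inv_inj, h4, hcub.inv_left.symm.eq, mul_inv_cancel_right]
  have hbc'' : ⁅b, c''⁆ = v'⁻¹ := by
    obtain ⟨v, hv, hvb⟩ : ∃ v ∈ V, τ b = v * b⁻¹ := ⟨τ b * b, by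
      rw [← hπ1, map_mul, hτb, inv_mul_cancel], by rw [mul_inv_cancel_right]⟩
    have h1 : ⁅τ b, c''⁆ = v' := by
      rw [hc'', ← map_commutatorElement]
      exact hτV _ hv'V
    rw [hvb, commutatorElement_mul_left_eq_conj_mul, comm_eq_one.2 (hVc c'' hc''E v hv), mul_one]
      at h1
    have h2 : ⁅b⁻¹, c''⁆ = v' := by
      calc ⁅b⁻¹, c''⁆ = v⁻¹ * (v * ⁅b⁻¹, c''⁆ * v⁻¹) * v := by group
        _ = v' := by rw [h1, hVc v' (hv'V.1) v⁻¹ (V.inv_mem hv), inv_mul_cancel_right]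
    rw [show ⁅b⁻¹, c''⁆ = b⁻¹ * ⁅b, c''⁆⁻¹ * b by simp [commutatorElement_def, mul_assoc]] at h2
    calc ⁅b, c''⁆ = b * (b⁻¹ * ⁅b, c''⁆⁻¹ * b)⁻¹ * b⁻¹ := by group
      _ = v'⁻¹ := by
        rw [h2, (show Commute b v' from hv'V.2.1 b (hBc.2.2.2.1 hbB)).inv_right.eq, mul_inv_cancel_right]
  have hbc''V : π b * π c'' = π c'' * π b := hπc b c'' (by rw [hbc'']; exact V.inv_mem hv'V)
  have hbcV : π b * π c = π c * π b := hπc b c hv'V
  set c0 := c'' * c⁻¹ with hc0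
  have hc0E : c0 ∈ E := E.mul_mem hc''E (E.inv_mem hcE)
  have hτc0 : τ c0 = c0⁻¹ := by
    rw [hc0, map_mul, map_inv, hτc'', mul_inv_rev, inv_inv]
  have hbinvc : Commute (π b)⁻¹ (π c) := (show Commute (π b) (π c) from hbcV).inv_left
  have huc0 : ⁅u, c0⁆ ∈ V := by
    rw [← hπ1, map_commutatorElement, hc0, map_mul, map_inv,
      commutatorElement_mul_right_eq_mul_conj, hπuc,
      show ⁅π u, (π c)⁻¹⁆ = (π c)⁻¹ * ⁅π u, π c⁆⁻¹ * π c by simp [commutatorElement_def, mul_assoc],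
      ← map_commutatorElement, ← hbdef, hbinvc.inv_right.symm.eq, inv_mul_cancel_right, mul_assoc,
      mul_assoc, ← mul_assoc (π c''), (show Commute (π b) (π c'') from hbc''V).inv_left.symm.eq,
      mul_assoc ((π b)⁻¹), mul_inv_cancel, mul_one, mul_inv_cancel]
  have hbc0 : ⁅b, c0⁆ = v'⁻¹ * v'⁻¹ := by
    rw [hc0, commutatorElement_mul_right_eq_mul_conj, hbc'']
    have h1 : ⁅b, c⁻¹⁆ = v'⁻¹ := by
      rw [show ⁅b, c⁻¹⁆ = c⁻¹ * ⁅b, c⁆⁻¹ * c by simp [commutatorElement_def, mul_assoc],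
        (show Commute c v' from hv'V.2.1 c hcE).inv_inv.eq,
        inv_mul_cancel_right]
    rw [h1, mul_assoc v'⁻¹, (show Commute c'' v' from hv'V.2.1 c'' hc''E).inv_right.eq, ← mul_assoc, mul_inv_cancel_right]
  have hc0W : c0 ∉ W := by
    intro h
    have h1 := hWZ b (mem_sup_left hbB) c0 h
    rw [hbc0, ← mul_inv_rev, inv_mem_iff, ← sq] at h1
    exact hv'nZ (mem_of_sq_mem hG hp2 h1)
  have hc0p : c0 ^ p = 1 := by
    set W'' := W'.map τ.toMonoidHom with hW''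
    have hW''n : ∀ e ∈ E, ∀ y ∈ W'', e * y * e⁻¹ ∈ W'' := by
      rintro e he _ ⟨y, hy, rfl⟩
      refine ⟨τ.symm e * y * (τ.symm e)⁻¹, hW'n _ (hES τ⁻¹ (inv_mem hτS) e he) y hy, ?_⟩
      simp
    have hcc'' : ⁅c, c''⁆ ∈ B := by
      have h1 : ⁅c, c''⁆ ∈ W' := by
        rw [commutatorElement_def, mul_assoc, mul_assoc, ← mul_assoc c'']
        exact W'.mul_mem hcW' (hW'n c'' hc''E _ (W'.inv_mem hcW'))
      have h2 : ⁅c, c''⁆ ∈ W'' := by
        rw [commutatorElement_def]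
        exact W''.mul_mem (hW''n c hcE c'' ⟨c, hcW', rfl⟩) (W''.inv_mem ⟨c, hcW', rfl⟩)
      rcases eq_or_eq_of_card hG (U := B) (K := W' ⊓ W'') (W := W')
          (le_inf hBW' fun y hy => ⟨τ.symm y, hBW' (hBS τ⁻¹ (inv_mem hτS) y hy), τ.apply_symm_apply y⟩)
          inf_le_left (by rw [hW'4, hBc.2.1]; ring) with h | h
      · exact h.le ⟨h1, h2⟩
      · have hle : W' ≤ W'' := inf_eq_left.1 h
        have hc'' : c'' ∈ W' := by
          refine (eq_of_card_le hle (le_of_eq ?_)).ge ⟨c, hcW', rfl⟩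
          exact (Nat.card_congr (equivMapOfInjective W' τ.toMonoidHom τ.injective).toEquiv).symm
        exact hBc.2.2.1 (hZ'V (hW'comm c hcW' c'' hc''))
    have hx : π c0 ^ p = 1 := by
      obtain ⟨v, hv, i, hvi⟩ := (mem_sup_zpowers_of_commute
        (fun v hv => hVc b (hBc.2.2.2.1 hbB) v hv)).1 ((cube_eq_sup hG hV hBc hbB hbV).ge hcc'')
      have hd : ⁅(π c)⁻¹, π c''⁆ = (π b ^ i)⁻¹ := by
        rw [show ⁅(π c)⁻¹, π c''⁆ = (π c)⁻¹ * ⁅π c, π c''⁆⁻¹ * π c by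
          simp [commutatorElement_def, mul_assoc], ← map_commutatorElement, hvi, map_mul,
          (hπ1 v).2 hv, one_mul, map_zpow,
          ((show Commute (π b) (π c) from hbcV).zpow_left i).inv_inv.symm.eq,
          inv_mul_cancel_right]
      have e1 : π c'' ^ p = 1 := by rw [← map_pow, hc'', ← map_pow τ, hcp, map_one, map_one]
      have e2 : π c ^ p = 1 := by rw [← map_pow, hcp, map_one]
      rw [hc0, map_mul, map_inv, RankThree.mul_pow_prime hp2, inv_pow, e1, e2, inv_one, mul_one]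
      · rw [hd]; exact (((show Commute (π b) (π c'') from hbc''V).zpow_left i).inv_left).symm
      · rw [hd]; exact (((show Commute (π b) (π c) from hbcV).zpow_left i).inv_inv).symm
      · rw [hd, inv_pow, inv_eq_one, ← zpow_natCast, ← zpow_mul, mul_comm, zpow_mul, zpow_natCast,
          ← map_pow, hBc.1.2 b hbB, map_one, one_zpow]
    rw [← map_pow, hπ1] at hx
    have h1 := hτV _ hx
    rw [map_pow, hτc0, inv_pow, inv_eq_iff_mul_eq_one, ← sq] at h1
    exact eq_one_of_two_pow hp2 (n := 1) (by simpa using h1) (hN _)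
  exact triple_false hp2 hG S.sec hVea hV (hBc.1.2 b hbB) (hUc.1.2 u hu) hc0p
    (hVc b (hBc.2.2.2.1 hbB)) (hVc u (hUE hu)) (hVc c0 hc0E) hbu
    (by rw [hbc0]; exact V.mul_mem (V.inv_mem hv'V) (V.inv_mem hv'V)) huc0
    (cube_indep hG hV hB3c hUc hne' hbB hbV hu huV hc0p hc0W)

end Cfsg.Lib.FusionSys.SecThree
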