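import Cfsg.Agent.Lib.FusionSys.SecThree.Core

/-!
# The size of the group acting on the Frattini quotient of a normal subgroup
-/

set_option linter.style.haveILetI false
set_option autoImplicit false

namespace Cfsg.Lib.FusionSys.SecThree

open Subgroup RankThree
open scoped commutatorElement

variable {G : Type*} [Group G] [Finite G] {p : ℕ} [hp : Fact p.Prime]

theorem card_map_mk (N L : Subgroup G) [N.Normal] (h : N ≤ L) :
    Nat.card ↥(L.map (QuotientGroup.mk' N)) * Nat.card N = Nat.card L := by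
  rw [← Subgroup.relIndex_ker, QuotientGroup.ker_mk']
  have h2 := Subgroup.card_mul_index (N.subgroupOf L)
  rw [Nat.card_congr (subgroupOfEquivOfLe h).toEquiv, mul_comm] at h2
  exact h2

/-- A chain of normal subgroups with two small steps, ending at a subgroup of small index in `T`. -/
theorem exists_chain (hG : IsPGroup p G) (hsr : Cfsg.SectionalPRankLE p 3 G) (T : Subgroup G)
    [T.Normal] : ∃ V₁ V₂ : Subgroup G, V₁.Normal ∧ V₂.Normal ∧ frattiniIn T ≤ V₁ ∧ V₁ ≤ V₂ ∧ V₂ ≤ T ∧
      Nat.card V₁ ≤ p * Nat.card (frattiniIn T) ∧ Nat.card V₂ ≤ p * Nat.card V₁ ∧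
      Nat.card T ≤ p * Nat.card V₂ ∧
      (Nat.card T ≤ p ^ 2 * Nat.card (frattiniIn T) → V₁ = V₂) := by
  have step : ∀ N : Subgroup G, N.Normal → N ≤ T → ∃ N' : Subgroup G, N'.Normal ∧ N ≤ N' ∧ N' ≤ T ∧
      Nat.card N' ≤ p * Nat.card N ∧ (N = T ∨ Nat.card N' = p * Nat.card N) := by
    intro N hN hNT
    rcases eq_or_lt_of_le hNT with rfl | hlt
    · exact ⟨N, hN, le_rfl, le_rfl, Nat.le_mul_of_pos_left _ hp.out.pos, Or.inl rfl⟩
    haveI := hN
    obtain ⟨w, hw, hwN, hwp, hwc⟩ := exists_central_between hG hlt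
    set π := QuotientGroup.mk' N
    have hZ : zpowers (π w) ≤ center (G ⧸ N) := zpowers_le.2 (mem_center_iff.2 fun q => by
      obtain ⟨g, rfl⟩ := QuotientGroup.mk'_surjective N q
      rw [← commutatorElement_eq_one_iff_mul_comm, ← map_commutatorElement]
      exact (QuotientGroup.eq_one_iff _).2 (hwc g))
    have hn : (zpowers (π w)).Normal := ⟨fun y hy q => by
      rw [mem_center_iff.1 (hZ hy) q, mul_inv_cancel_right]; exact hy⟩
    have hNle : N ≤ (zpowers (π w)).comap π := fun y hy => by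
      rw [mem_comap, show π y = 1 from (QuotientGroup.eq_one_iff y).2 hy]; exact one_mem _
    have hle : (zpowers (π w)).comap π ≤ T := by
      intro y hy
      obtain ⟨j, hj⟩ := mem_zpowers_iff.1 hy
      have h1 : (w ^ j)⁻¹ * y ∈ N := by
        rw [← QuotientGroup.eq_one_iff]
        show π _ = 1
        rw [map_mul, map_inv, map_zpow, hj, inv_mul_cancel]
      simpa using T.mul_mem (T.zpow_mem hw j) (hNT h1)
    have hc : Nat.card ↥((zpowers (π w)).comap π) = p * Nat.card N := by
      rw [← card_map_mk N _ hNle, map_comap_eq_self_of_surjective (QuotientGroup.mk'_surjective N),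
        Nat.card_zpowers, orderOf_eq_prime (p := p)]
      · rw [← map_pow]; exact (QuotientGroup.eq_one_iff _).2 hwp
      · exact fun h => hwN ((QuotientGroup.eq_one_iff w).1 h)
    exact ⟨_, hn.comap π, hNle, hle, hc.le, Or.inr hc⟩
  obtain ⟨V₁, hn1, h01, h1T, hc1, hd1⟩ := step (frattiniIn T) inferInstance (frattiniIn_le T)
  by_cases hsmall : Nat.card T ≤ p ^ 2 * Nat.card (frattiniIn T)
  · refine ⟨V₁, V₁, hn1, hn1, h01, le_rfl, h1T, hc1, Nat.le_mul_of_pos_left _ hp.out.pos, ?_,
      fun _ => rfl⟩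
    rcases hd1 with h | h
    · rw [h] at h01
      exact (card_le_of_le h01).trans (Nat.le_mul_of_pos_left _ hp.out.pos)
    · rw [h, ← mul_assoc, ← sq]; exact hsmall
  obtain ⟨V₂, hn2, h12, h2T, hc2, hd2⟩ := step V₁ hn1 h1T
  refine ⟨V₁, V₂, hn1, hn2, h01, h12, h2T, hc1, hc2, ?_, fun h => absurd h hsmall⟩
  rcases hd2 with h | h
  · rw [h] at h12
    exact (card_le_of_le h12).trans (Nat.le_mul_of_pos_left _ hp.out.pos)
  · rcases hd1 with h' | h'
    · rw [← h'] at h1T
      exact absurd ((card_le_of_le (h'.ge.trans le_rfl)).trans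
        (Nat.le_mul_of_pos_left _ (pow_pos hp.out.pos 2))) hsmall
    · rw [h, h', ← mul_assoc, ← mul_assoc, show p * p * p = p ^ 3 by ring]
      exact card_le_phi hG hsr T

/-- The group acts on the Frattini quotient as a group of order at most `p ^ 3`. -/
theorem index_centM_le (hG : IsPGroup p G) (hsr : Cfsg.SectionalPRankLE p 3 G) (T : Subgroup G)
    [T.Normal] : (centM T).index ≤ p ^ 3 ∧
      (Nat.card T ≤ p ^ 2 * Nat.card (frattiniIn T) → (centM T).index ≤ p ^ 2) := by
  obtain ⟨V₁, V₂, hn1, hn2, h01, h12, h2T, hc1, hc2, hc3, heq⟩ := exists_chain hG hsr T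
  set π := QuotientGroup.mk' (frattiniIn T) with hπ
  have hπ1 : ∀ y, π y = 1 ↔ y ∈ frattiniIn T := fun y => QuotientGroup.eq_one_iff y
  have hb1 : Nat.card ↥(V₁.map π) ≤ p := by
    have h := card_map_mk (frattiniIn T) V₁ h01
    rw [← hπ] at h
    exact Nat.le_of_mul_le_mul_right (h.trans_le hc1) Nat.card_pos
  have hb2 : Nat.card ↥(V₂.map π) ≤ p ^ 2 := by
    have h := card_map_mk (frattiniIn T) V₂ (h01.trans h12)
    rw [← hπ] at h
    refine Nat.le_of_mul_le_mul_right (h.trans_le (hc2.trans ?_)) (Nat.card_pos (α := frattiniIn T))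
    rw [sq, mul_assoc]
    exact Nat.mul_le_mul_left _ hc1
  have gen : ∀ {A B : Subgroup G}, A ≤ B → Nat.card B ≤ p * Nat.card A →
      ∃ v ∈ B, A ⊔ zpowers v = B := by
    intro A B hAB hc
    rcases eq_or_lt_of_le hAB with rfl | hlt
    · exact ⟨1, one_mem _, by simp⟩
    obtain ⟨v, hv, hvA⟩ := SetLike.exists_of_lt hlt
    exact ⟨v, hv, eq_of_card_le (sup_le hAB (zpowers_le.2 hv))
      (hc.trans (card_lt_sup_zpowers hG A hvA))⟩
  obtain ⟨v, hv, hV1v⟩ := gen h12 hc2
  obtain ⟨t, ht, hV2t⟩ := gen h2T hc3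
  have hstep : ∀ (A B : Subgroup G), A.Normal → B.Normal → A ≤ B → Nat.card B ≤ p * Nat.card A →
      ∀ g : G, ∀ b ∈ B, ⁅g, b⁆ ∈ A := by
    intro A B hA hB hAB hc g b hb
    rcases eq_or_lt_of_le hAB with rfl | hlt
    · rw [commutatorElement_def]; exact A.mul_mem (hA.conj_mem _ hb g) (A.inv_mem hb)
    · exact comm_mem_of_card_step hG hA hB hAB (le_antisymm hc (card_mul_le_of_lt hG hlt)) g hb
  let F : G ⧸ centM T → ↥(V₁.map π) × ↥(V₂.map π) := fun q =>
    (⟨π ⁅q.out, v⁆, mem_map_of_mem π (hstep V₁ V₂ hn1 hn2 h12 hc2 q.out v hv)⟩,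
     ⟨π ⁅q.out, t⁆, mem_map_of_mem π (hstep V₂ T hn2 inferInstance h2T hc3 q.out t ht)⟩)
  have hinj : Function.Injective F := by
    intro q r h
    simp only [F, Prod.mk.injEq, Subtype.mk.injEq] at h
    rw [← Quotient.out_eq q, ← Quotient.out_eq r]
    refine QuotientGroup.eq.2 ?_
    set k := q.out⁻¹ * r.out with hk
    have hfix : ∀ w : G, π ⁅q.out, w⁆ = π ⁅r.out, w⁆ → π k * π w = π w * π k := by
      intro w hw
      rw [map_commutatorElement, map_commutatorElement, commutatorElement_def, commutatorElement_def,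
        mul_left_inj] at hw
      rw [hk, map_mul, map_inv]
      calc (π q.out)⁻¹ * π r.out * π w = (π q.out)⁻¹ * (π r.out * π w * (π r.out)⁻¹) * π r.out := by
            group
        _ = (π q.out)⁻¹ * (π q.out * π w * (π q.out)⁻¹) * π r.out := by rw [hw]
        _ = π w * ((π q.out)⁻¹ * π r.out) := by group
    have hTle : T ≤ (centralizer ({π k} : Set (G ⧸ frattiniIn T))).comap π := by
      refine hV2t.ge.trans (le_trans (sup_le_sup_right hV1v.ge _) ?_)
      refine sup_le (sup_le (fun y hy => mem_centralizer_singleton_iff.2 ?_)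
        (zpowers_le.2 (mem_centralizer_singleton_iff.2 (hfix v h.1).symm)))
        (zpowers_le.2 (mem_centralizer_singleton_iff.2 (hfix t h.2).symm))
      rw [← commutatorElement_eq_one_iff_mul_comm, ← map_commutatorElement, hπ1,
        ← inv_mem_iff, commutatorElement_inv]
      exact hstep (frattiniIn T) V₁ inferInstance hn1 h01 hc1 k y hy
    intro y hy
    rw [← hπ1, map_commutatorElement]
    exact commutatorElement_eq_one_iff_mul_comm.2 (mem_centralizer_singleton_iff.1 (hTle hy)).symm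
  have h := Nat.card_le_card_of_injective F hinj
  rw [Nat.card_prod] at h
  refine ⟨h.trans ((Nat.mul_le_mul hb1 hb2).trans (le_of_eq (by ring))), fun hs => h.trans ?_⟩
  obtain rfl := heq hs
  exact (Nat.mul_le_mul hb1 hb1).trans (le_of_eq (sq p).symm)

end Cfsg.Lib.FusionSys.SecThree
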