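import Cfsg.Agent.Lib.FusionSys.SecThree.Line
import Cfsg.Agent.Lib.PGroup.Noncyclic

/-!
# An essential subgroup missing part of `Ω₁(Z(E))` for some `E` of type A
-/

set_option linter.style.haveILetI false
set_option autoImplicit false

namespace Cfsg.Lib.FusionSys.SecThree

open Subgroup
open scoped commutatorElement

/-- The relations of a Sylow `p`-subgroup of `Sp(4, p)`. -/
def SpRels (p : ℕ) (G : Type*) [Group G] : Prop :=
  Nat.card G = p ^ 4 ∧ ∃ g x f z : G, g ^ p = 1 ∧ x ^ p = 1 ∧ f ^ p = 1 ∧ z ^ p = 1 ∧ z ≠ 1 ∧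
    g * z = z * g ∧ x * z = z * x ∧ f * z = z * f ∧ x * f = f * x ∧
    g * x * g⁻¹ = x * f ∧ g * f * g⁻¹ = f * z ∧ closure ({g, x, f, z} : Set G) = ⊤

variable {G : Type*} [Group G] [Finite G] {p : ℕ} [hp : Fact p.Prime]

omit [Finite G] hp in
theorem normal_of_top_le {U : Subgroup G} (h : (⊤ : Subgroup G) ≤ normalizer (U : Set G)) :
    U.Normal :=
  normalizer_eq_top_iff.1 (eq_top_iff.2 h)

omit [Finite G] hp in
theorem comm_mem_of_normal {E : Subgroup G} (hE : E.Normal) (g : G) {e : G} (he : e ∈ E) :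
    ⁅g, e⁆ ∈ E := E.mul_mem (hE.conj_mem e he g) (E.inv_mem he)

/-- A group of order `p ^ 3` that is not commutative. -/
def HeisRels (p : ℕ) (G : Type*) [Group G] : Prop :=
  Nat.card G = p ^ 3 ∧ ∃ a b : G, ⁅a, b⁆ ≠ 1

/-- The case `p × p^{1+2}` and the extraspecial case of order `p ^ 3`. -/
theorem case_one_degenerate (S : Sys p G) {E1 E2 : Subgroup G} (hA : S.TypeA E1) (hE2 : E2 ∈ S.ess)
    {x f g c : G} {i : ℕ} {C D : Subgroup G} (hx : x ∉ E2) (hxp : x ^ p = 1)
    (hxw : Commute x ⁅x, g⁆) (hfD : f ∈ D) (hgD : g ∉ D) (hg : g ∈ E2) (hfp : f ^ p = 1)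
    (hgp : g ^ p = 1) (hcardC : Nat.card C = 1 ∨ Nat.card C = p) (hDC : Nat.card D = p * Nat.card C)
    (hE2C : Nat.card E2 = p ^ 2 * Nat.card C) (hxf : x * f = f * x) (hz : ⁅f, g⁆ = 1)
    (hCc : C ≤ center G) (hCfD : C ⊔ zpowers f = D) (hDgE : D ⊔ zpowers g = E2)
    (hCp : ∀ y ∈ C, y ^ p = 1) (hw : ⁅x, g⁆ = f ^ i * c) (hpi : ¬ p ∣ i) (hcp : c ^ p = 1)
    (hi : c ∈ C) (hexp : ∀ s : G, s ^ p ∈ (⊥ : Subgroup G)) : HeisRels p G := by
  have hG := S.isP
  have hexp' : ∀ s : G, s ^ p = 1 := fun s => mem_bot.1 (hexp s)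
  have hgf : f * g = g * f := comm_eq_one.1 hz
  have hfC : f ∉ C := fun h => by
    rw [show D = C from hCfD ▸ sup_eq_left.2 (zpowers_le.2 h)] at hDC
    have h1 := hp.out.two_le
    have h2 : 0 < Nat.card C := Nat.card_pos
    nlinarith
  have hw1 : ⁅x, g⁆ ≠ 1 := fun h => by
    rw [hw] at h
    refine hfC (Plane.mem_of_pow_mem (p := p) (k := 1) (by rw [pow_one]; exact hfp) hpi ?_)
    rw [eq_inv_of_mul_eq_one_left h]
    exact C.inv_mem hi
  have hwD : ⁅x, g⁆ ∈ D := by
    rw [hw, ← hCfD]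
    exact mul_mem (pow_mem (mem_sup_right (mem_zpowers f)) i) (mem_sup_left hi)
  have hcardG : Nat.card G = p ^ 3 * Nat.card C := by rw [S.card_eq hE2, hE2C]; ring
  have htop : C ⊔ zpowers f ⊔ zpowers g ⊔ zpowers x = ⊤ := by
    rw [hCfD, hDgE]; exact S.sup_eq_top hE2 hx
  rcases hcardC with hC1 | hCp'
  · -- order `p ^ 3`
    exact ⟨by rw [hcardG, hC1, mul_one], x, g, hw1⟩
  · -- `p × p^{1+2}`
    exfalso
    rw [hCp', ← pow_succ] at hcardG
    have hDcard : Nat.card D = p ^ 2 := by rw [hDC, hCp', sq]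
    have hDc : D ≤ center G := by
      rw [← hCfD]
      refine sup_le hCc (zpowers_le.2 (mem_center_iff.2 fun y => ?_))
      have hle : (⊤ : Subgroup G) ≤ centralizer ({f} : Set G) := by
        rw [← htop]
        refine sup_le (sup_le (sup_le (fun c hc => mem_centralizer_singleton_iff.2 ?_)
          (zpowers_le.2 (mem_centralizer_singleton_iff.2 rfl)))
          (zpowers_le.2 (mem_centralizer_singleton_iff.2 hgf.symm)))
          (zpowers_le.2 (mem_centralizer_singleton_iff.2 hxf))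
        exact (mem_center_iff.1 (hCc hc) f).symm
      exact mem_centralizer_singleton_iff.1 (hle (mem_top y))
    have hZD : omegaZ p G = D := by
      refine (eq_of_card_le (U := D) (W := omegaZ p G) (fun d hd => ⟨hDc hd, hexp' d⟩) ?_).symm
      have h1 := RankThree.card_mul_le_of_lt hG hA.omegaZ_lt
      have h2 := (ea_omegaC (p := p) E1).card_le S.sec
      rw [hDcard]
      exact Nat.le_of_mul_le_mul_left ((h1.trans h2).trans_eq (pow_succ' p 2)) hp.out.pos
    set w := ⁅x, g⁆ with hwdef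
    have hwc : w ∈ center G := hDc hwD
    haveI : (zpowers w).Normal := ⟨fun z hz' a => by
      rw [mem_center_iff.1 (zpowers_le.2 hwc hz') a, mul_inv_cancel_right]; exact hz'⟩
    have hcomm : ∀ a b : G, ⁅a, b⁆ ∈ zpowers w := by
      set π := QuotientGroup.mk' (zpowers w)
      have hc0 : ∀ y : G, π y * π g = π g * π y ∧ π y * π x = π x * π y := by
        intro y
        have hxg : π x * π g = π g * π x := by
          rw [← comm_eq_one, ← map_commutatorElement, ← MonoidHom.mem_ker, QuotientGroup.ker_mk']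
          exact mem_zpowers w
        have hle : ∀ u : G, π u * π g = π g * π u → π u * π x = π x * π u →
            u ∈ (centralizer ({π g, π x} : Set (G ⧸ zpowers w))).comap π := by
          intro u h1 h2
          rintro v (rfl | rfl)
          exacts [h1.symm, h2.symm]
        have h : (⊤ : Subgroup G) ≤ (centralizer ({π g, π x} : Set (G ⧸ zpowers w))).comap π := by
          rw [← S.sup_eq_top hE2 hx, ← hDgE]
          refine sup_le (sup_le (fun d hd => hle d ?_ ?_) (zpowers_le.2 (hle g rfl hxg.symm)))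
            (zpowers_le.2 (hle x hxg rfl))
          · rw [← map_mul, ← map_mul, mem_center_iff.1 (hDc hd) g]
          · rw [← map_mul, ← map_mul, mem_center_iff.1 (hDc hd) x]
        exact ⟨(h (mem_top y) _ (Or.inl rfl)).symm, (h (mem_top y) _ (Or.inr rfl)).symm⟩
      intro a b
      rw [← QuotientGroup.ker_mk' (zpowers w), MonoidHom.mem_ker, map_commutatorElement, comm_eq_one]
      have h : (⊤ : Subgroup G) ≤ (centralizer ({π b} : Set (G ⧸ zpowers w))).comap π := by
        rw [← S.sup_eq_top hE2 hx, ← hDgE]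
        refine sup_le (sup_le (fun d hd => mem_centralizer_singleton_iff.2 ?_)
          (zpowers_le.2 (mem_centralizer_singleton_iff.2 (hc0 b).1.symm)))
          (zpowers_le.2 (mem_centralizer_singleton_iff.2 (hc0 b).2.symm))
        rw [← map_mul, ← map_mul, mem_center_iff.1 (hDc hd) b]
      exact mem_centralizer_singleton_iff.1 (h (mem_top a))
    have hdata : ∀ E ∈ S.ess, LineData S E E D w ∧ D ≤ E := by
      intro E hE
      have hDE : D ≤ E := hDc.trans (S.center_le hE)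
      have hEc : Nat.card E = p ^ 3 := by
        have h := S.card_eq hE
        rw [hcardG, pow_succ' p 3] at h
        exact (Nat.eq_of_mul_eq_mul_left hp.out.pos h).symm
      obtain ⟨y, hy, hyD⟩ : ∃ y ∈ E, y ∉ D := SetLike.exists_of_lt (lt_of_le_of_ne hDE fun h => by
        rw [h, hEc] at hDcard
        exact absurd (Nat.pow_right_injective hp.out.two_le hDcard) (by norm_num))
      have hDy : D ⊔ zpowers y = E :=
        (eq_or_eq_of_card hG le_sup_left (sup_le hDE (zpowers_le.2 hy))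
          (by rw [hEc, hDcard]; ring)).resolve_left
          fun h => hyD (h.le (mem_sup_right (mem_zpowers y)))
      have hEA : EA p E := by
        rw [← hDy]
        exact EA.sup_zpowers ⟨fun a ha b _ => (mem_center_iff.1 (hDc ha) b).symm, fun a _ => hexp' a⟩
          (fun a ha => (mem_center_iff.1 (hDc ha) y).symm) (hexp' y)
      have hVE : omegaC p E = E := le_antisymm (omegaC_le E) fun e he =>
        ⟨he, fun e' he' => hEA.1 e' he' e he, hexp' e⟩
      haveI := finite_mulAut E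
      have hmoved : ∃ a ∈ S.aut E, ∃ d ∈ D, ap a d ∉ D := by
        by_contra hinv
        push Not at hinv
        set M := S.aut E ⊓ (fixer E D ⊓ moves E E D le_rfl) with hM
        have hMp : IsPGroup p M := by
          refine (isPGroup_chain hG (L₀ := D) (L₁ := D) hDE le_rfl).to_le ?_
          rintro a ⟨-, h1, h2, h3⟩
          exact ⟨⟨h1, h2, fun y' hy' => by rw [h1 y' hy' (hDE hy'), mul_inv_cancel]; exact one_mem D⟩,
            h2, h3⟩
        have hMn : ∀ a ∈ S.aut E, ∀ m ∈ M, a * m * a⁻¹ ∈ M := by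
          rintro a ha m ⟨hm, h1, h2, h3⟩
          have hfix : ∀ d ∈ D, ap (a * m * a⁻¹) d = d := fun d hd => by
            rw [ap_mul_apply _ _ (hDE hd), ap_mul_apply _ _ (ap_mem _ (hDE hd)),
              h1 _ (hinv _ (inv_mem ha) d hd) (ap_mem _ (hDE hd)), ap_ap_inv a (hDE hd)]
          refine ⟨(S.aut E).mul_mem ((S.aut E).mul_mem ha hm) ((S.aut E).inv_mem ha),
            fun d hd _ => hfix d hd,
            fun d hd _ => by rw [hfix d hd]; exact hd, fun e he => ?_⟩
          have he' := ap_mem a⁻¹ he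
          rw [← ap_ap_inv a he, ap_mul_apply _ _ (ap_mem a he'), ap_inv_ap a he', ← ap_map_inv a he',
            ap_mul_apply _ _ he', ← ap_map_mul a (ap_mem m he') (E.inv_mem he')]
          exact hinv a ha _ (h3 _ he')
        have hRM : inner E ⊤ ≤ M := by
          rintro a ⟨h, -, ha⟩
          have hfix : ∀ d ∈ D, ap a d = d := fun d hd => by
            rw [ha d (hDE hd), mem_center_iff.1 (hDc hd) h, mul_inv_cancel_right]
          refine ⟨S.conj_mem E hE ⟨h, mem_top h, ha⟩, fun d hd _ => hfix d hd,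
            fun d hd _ => by rw [hfix d hd]; exact hd, fun e he => ?_⟩
          rw [ha e he, ← commutatorElement_def]
          exact (zpowers_le.2 hwD) (hcomm h e)
        obtain ⟨y', hy'⟩ : ∃ y', y' ∉ E := by
          by_contra h
          push Not at h
          have h1 : E.index = 1 := index_eq_one.2 ((eq_top_iff' E).2 h)
          rw [S.index_eq E hE] at h1
          exact hp.out.ne_one h1
        obtain ⟨a, -, haI, ha⟩ := S.exists_conj hE y'
        exact hy' (S.conj_eq_of_mem hE (S.radical E hE M inf_le_left hMn hMp (hRM haI)) ha)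
      have hAE : S.TypeA E := ⟨hE, by simpa [hZD] using hmoved⟩
      refine ⟨⟨hE, le_rfl, fun a ha b hb => hEA.1 a ha b hb, hEA, hEc, fun a _ b hb => ap_mem a hb,
        hDE, hDc, hDcard, hwD, hw1, fun h b _ => hcomm h b, fun h hh v hv hcv => ?_, hmoved,
        fun φ _ d hd => ?_, fun φ _ => ?_⟩, hDE⟩
      · rw [← hZD]
        exact hAE.mem_omegaZ hh (hVE.symm ▸ hv) hcv
      · rw [← hZD] at hd ⊢
        exact Sys.omegaZ_map φ hd
      · rw [hwdef, map_commutatorElement]
        exact hcomm _ _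
    obtain ⟨L1, -⟩ := hdata E1 hA.1
    obtain ⟨d, hd, hdw, hda, τ, hτ, hτw, hτd⟩ := L1.exists_line
    have hd1 : d ≠ 1 := fun h => hdw (h ▸ one_mem _)
    refine hd1 (mem_bot.1 ((S.core (zpowers d) (fun E hE => ?_) fun φ hφ y hy => ?_) ▸ mem_zpowers d))
    · obtain ⟨L, hDE⟩ := hdata E hE
      obtain ⟨d', hd', hd'w, hd'a, τ', hτ', hτ'w, hτ'd'⟩ := L.exists_line
      have hdd' : d ∈ zpowers d' := line_unique S L.zc (L.ea.mono L.zV) L.card_Z L.wZ L.w_ne hd' hd
        hd'w hτ' hτ hτ'w hτ'd' hτw hτd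
      have hd'd : d' ∈ zpowers d := mem_zpowers_symm (hexp' d') hd1 hdd'
      refine ⟨zpowers_le.2 (hDE hd), fun a ha y hy => ?_⟩
      obtain ⟨m, rfl⟩ := mem_zpowers_iff.1 ((zpowers_le.2 hdd') hy)
      rw [ap_map_zpow a (hDE hd')]
      exact zpow_mem ((zpowers_le.2 hd'd) (hd'a a ha)) m
    · obtain ⟨m, rfl⟩ := mem_zpowers_iff.1 hy
      rw [map_zpow]
      exact zpow_mem (L1.line_invariant hd hdw hτ hτw hτd hφ) m

set_option maxHeartbeats 1000000 in
/-- Either `S` has the shape of a Sylow subgroup of `Sp(4, p)` or the core is nontrivial. -/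
theorem case_one (S : Sys p G) {E1 E2 : Subgroup G} (hA : S.TypeA E1) (hE2 : E2 ∈ S.ess) {x : G}
    (hxV : x ∈ omegaC p E1) (hx : x ∉ E2) : SpRels p G ∨ HeisRels p G := by
  have hG := S.isP
  have hp2 := S.odd
  haveI hN2 := S.normal E2 hE2
  haveI hN1 := S.normal E1 hA.1
  haveI := finite_mulAut E2
  have hxp : x ^ p = 1 := hxV.2.2
  have hx1 : x ∈ E1 := hxV.1
  set D := E1 ⊓ E2 with hD
  haveI hDn : D.Normal := Subgroup.normal_inf_normal E1 E2
  have hDE : D ≤ E2 := inf_le_right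
  have hxD : ∀ d ∈ D, d * x = x * d := fun d hd => hxV.2.1 d hd.1
  have hG2 := S.card_eq hE2
  have hE2D : Nat.card E2 = p * Nat.card D := by
    have h1 : E1 ⊔ E2 = ⊤ := by
      rw [eq_top_iff, ← S.sup_eq_top hE2 hx]
      exact sup_le le_sup_right (zpowers_le.2 (mem_sup_left hx1))
    rw [← card_eq_of_index (S.index_eq E2 hE2) h1]
    exact Nat.eq_of_mul_eq_mul_left hp.out.pos (hG2.symm.trans (S.card_eq hA.1))
  obtain ⟨α, hαA, hαI, hα⟩ := S.exists_conj hE2 x
  have hαD : ∀ d ∈ D, ap α d = d := fun d hd => by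
    rw [hα d (hDE hd), ← hxD d hd, mul_inv_cancel_right]
  have hαmove : ∀ e ∈ E2, ap α e * e⁻¹ ∈ D := fun e he => by
    rw [hα e he, ← commutatorElement_def]
    refine ⟨?_, comm_mem_of_normal hN2 x he⟩
    rw [commutatorElement_def, mul_assoc, mul_assoc, ← mul_assoc e]
    exact E1.mul_mem hx1 (hN1.conj_mem _ (E1.inv_mem hx1) e)
  -- a conjugate of `α` outside the conjugations
  obtain ⟨β, hβ, hβα⟩ : ∃ β ∈ S.aut E2, β * α * β⁻¹ ∉ inner E2 ⊤ := by
    by_contra h
    push Not at h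
    refine hx (S.conj_eq_of_mem hE2 (S.radical E2 hE2 _ (S.conj_mem E2 hE2) (fun a ha n hn => ?_)
      (S.isPGroup_inner hE2) hαI) hα)
    have hle : inner E2 ⊤ ≤ zpowers α ⊔ inner E2 E2 := S.inner_le_sup hE2 hx hα (mem_zpowers α)
    have h2 : zpowers α ⊔ inner E2 E2 ≤ (inner E2 ⊤).comap (MulAut.conj a).toMonoidHom :=
      sup_le (zpowers_le.2 (h a ha)) fun m hm => inner_mono le_top (S.inner_normalized hE2 a m hm)
    exact h2 (hle hn)
  set α' := β * α * β⁻¹ with hα'
  have hα'A : α' ∈ S.aut E2 := mul_mem (mul_mem hβ hαA) (inv_mem hβ)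
  have hno : ∀ M : Subgroup (MulAut E2), M ≤ S.aut E2 → IsPGroup p M → α ∈ M → α' ∈ M → False :=
    fun M hM hMp h1 h2 => hβα (S.le_inner_of_mem hE2 hx hα hM hMp h1 h2)
  set D' := img β D with hD'
  have hD'E : D' ≤ E2 := img_le β
  have hD'n : ∀ e ∈ E2, ∀ y ∈ D', e * y * e⁻¹ ∈ D' :=
    conj_mem_img β fun e _ y hy => hDn.conj_mem y hy e
  have hα'calc : ∀ e ∈ E2, ap α' (ap β e) = ap β (ap α e) := fun e he => by
    rw [hα', ap_mul_apply _ _ (ap_mem β he), ap_inv_ap β he, ap_mul_apply _ _ he]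
  have hα'D : ∀ y ∈ D', ap α' y = y := fun y hy => by
    obtain ⟨d, hd, hdE, rfl⟩ := (mem_img β).1 hy
    rw [hα'calc d hdE, hαD d hd]
  have hα'move : ∀ e ∈ E2, ap α' e * e⁻¹ ∈ D' := fun e he => by
    have he' := ap_mem β⁻¹ he
    rw [← ap_ap_inv β he, hα'calc _ he', ← ap_map_inv β he', ← ap_map_mul β (ap_mem α he')
      (E2.inv_mem he')]
    exact ap_mem_img β (hαmove _ he') (E2.mul_mem (ap_mem α he') (E2.inv_mem he'))
  have hne : D' ≠ D := by
    intro h
    refine hno _ inf_le_left ((isPGroup_chain hG (L₀ := D) (L₁ := D) hDE le_rfl).to_le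
      inf_le_right) ⟨hαA, ⟨fun y hy _ => hαD y hy, fun y hy _ => by rw [hαD y hy]; exact hy,
        fun y hy => by rw [hαD y hy, mul_inv_cancel]; exact one_mem D⟩,
        fun y hy _ => by rw [hαD y hy]; exact hy, hαmove⟩ ?_
    rw [h] at hα'D hα'move
    exact ⟨hα'A, ⟨fun y hy _ => hα'D y hy, fun y hy _ => by rw [hα'D y hy]; exact hy,
      fun y hy => by rw [hα'D y hy, mul_inv_cancel]; exact one_mem D⟩,
      fun y hy _ => by rw [hα'D y hy]; exact hy, hα'move⟩
  -- the common part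
  set C := D ⊓ D' with hC
  have hCE : C ≤ E2 := inf_le_left.trans hDE
  have hsup : D ⊔ D' = E2 := by
    rcases eq_or_eq_of_card hG le_sup_left (sup_le hDE hD'E) hE2D with h | h
    · exact absurd (eq_of_card_le (sup_eq_left.1 h) (le_of_eq (card_img β hDE).symm)) hne
    · exact h
  have hDC : Nat.card D = p * Nat.card C := by
    have h1 := card_sup_le (U := D) (W := D')
    rw [hsup, card_img β hDE, hE2D, mul_right_comm] at h1
    exact (Nat.eq_of_mul_eq_mul_right Nat.card_pos h1).symm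
  have hE2C : Nat.card E2 = p ^ 2 * Nat.card C := by rw [hE2D, hDC]; ring
  have hxC : ∀ c ∈ C, x * c = c * x := fun c hc => (hxD c hc.1).symm
  haveI hCn : C.Normal := by
    refine normal_of_top_le ?_
    rw [← S.sup_eq_top hE2 hx]
    refine sup_le (fun e he => mem_normalizer_fintype fun c hc =>
      ⟨hDn.conj_mem c hc.1 e, hD'n e he c hc.2⟩) (zpowers_le.2 (mem_normalizer_fintype fun c hc => ?_))
    rw [hxC c hc, mul_inv_cancel_right]
    exact hc
  have hstepE : ∀ g : G, ∀ e ∈ E2, ⁅g, e⁆ ∈ D := fun g e he =>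
    comm_mem_of_card_step hG hDn hN2 hDE hE2D g he
  have hpowD : ∀ e ∈ E2, e ^ p ∈ D := fun e he => by
    have h := Subgroup.pow_index_mem (H := D.subgroupOf E2) (⟨e, he⟩ : E2)
    rwa [show (D.subgroupOf E2).index = p from ?_, mem_subgroupOf, SubmonoidClass.coe_pow] at h
    have h2 := Subgroup.card_mul_index (D.subgroupOf E2)
    rw [Nat.card_congr (subgroupOfEquivOfLe hDE).toEquiv, hE2D, mul_comm p] at h2
    exact Nat.eq_of_mul_eq_mul_left Nat.card_pos h2
  have hpowC : ∀ e ∈ E2, e ^ p ∈ C := fun e he => ⟨hpowD e he, by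
    rw [← ap_ap_inv β he, ← ap_map_pow β (ap_mem _ he)]
    exact ap_mem_img β (hpowD _ (ap_mem _ he)) (E2.pow_mem (ap_mem _ he) p)⟩
  have hcommC : ∀ a ∈ E2, ∀ b ∈ E2, ⁅a, b⁆ ∈ C := fun a ha b hb => ⟨hstepE a b hb, by
    rw [← ap_ap_inv β ha, ← ap_ap_inv β hb, ← ap_map_comm β (ap_mem _ ha) (ap_mem _ hb)]
    exact ap_mem_img β (hstepE _ _ (ap_mem _ hb))
      (comm_mem_of_normal hN2 _ (ap_mem _ hb))⟩
  -- `α` acts nontrivially modulo `C`
  have hu1 : ∃ e ∈ E2, ap α e * e⁻¹ ∉ C := by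
    by_contra h
    push Not at h
    have hM := isPGroup_chain hG (L₀ := C) (L₁ := D') hD'E
      (M := S.aut E2 ⊓ (fixer E2 C ⊓ moves E2 D' C hD'E ⊓ moves E2 E2 D' le_rfl)) inf_le_right
    refine hno _ inf_le_left hM ⟨hαA, ⟨fun y hy _ => hαD y hy.1,
      fun y hy _ => by rw [hαD y hy.1]; exact hy, fun y hy => h y (hD'E hy)⟩,
      fun y hy hyE => ?_, fun y hy => (h y hy).2⟩
      ⟨hα'A, ⟨fun y hy _ => hα'D y hy.2, fun y hy _ => by rw [hα'D y hy.2]; exact hy,
        fun y hy => by rw [hα'D y hy, mul_inv_cancel]; exact one_mem C⟩,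
        fun y hy _ => by rw [hα'D y hy]; exact hy, hα'move⟩
    have := D'.mul_mem (h y hyE).2 hy
    rwa [inv_mul_cancel_right] at this
  obtain ⟨e0, he0, he0C⟩ : ∃ e ∈ D, e ∉ C := by
    refine SetLike.exists_of_lt (lt_of_le_of_ne inf_le_left fun h => ?_)
    rw [h] at hDC
    have h1 := hp.out.two_le
    have h2 : 0 < Nat.card C := Nat.card_pos
    nlinarith
  have hCe0 : C ⊔ zpowers e0 = D :=
    (eq_or_eq_of_card hG le_sup_left (sup_le inf_le_left (zpowers_le.2 he0)) hDC).resolve_left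
      fun h => he0C (h.le (mem_sup_right (mem_zpowers e0)))
  have hα'e0 : ap α' e0 ∉ C ⊔ zpowers e0 := by
    rw [hCe0]
    intro hin
    have hpres : ∀ y ∈ D, ap α' y ∈ D := by
      intro y hy
      rw [← hCe0] at hy
      have hle : C ⊔ zpowers e0 ≤ ((D.subgroupOf E2).comap (α' : MulAut E2).toMonoidHom).map
          E2.subtype := by
        refine sup_le (fun c hc => ⟨⟨c, hCE hc⟩, ?_, rfl⟩)
          (zpowers_le.2 ⟨⟨e0, hDE he0⟩, ?_, rfl⟩)
        · show ((α' ⟨c, hCE hc⟩ : E2) : G) ∈ D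
          rw [← ap_of_mem, hα'D c hc.2]
          exact hc.1
        · show ((α' ⟨e0, hDE he0⟩ : E2) : G) ∈ D
          rw [← ap_of_mem]
          exact hin
      obtain ⟨w, hw, rfl⟩ := hle hy
      rw [show ap α' (E2.subtype w) = ((α' w : E2) : G) from ap_coe α' w]
      exact hw
    refine hno _ inf_le_left ((isPGroup_chain hG (L₀ := C) (L₁ := D) hDE le_rfl).to_le
      inf_le_right) ⟨hαA, ⟨fun y hy _ => hαD y hy.1, fun y hy _ => by rw [hαD y hy.1]; exact hy,
        fun y hy => by rw [hαD y hy, mul_inv_cancel]; exact one_mem C⟩,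
        fun y hy _ => by rw [hαD y hy]; exact hy, hαmove⟩
      ⟨hα'A, ⟨fun y hy _ => hα'D y hy.2, fun y hy _ => by rw [hα'D y hy.2]; exact hy,
        fun y hy => ⟨D.mul_mem (hpres y hy) (D.inv_mem hy), hα'move y (hDE hy)⟩⟩,
        fun y hy _ => hpres y hy, fun e he => ?_⟩
    rw [← hsup, ← SetLike.mem_coe, Subgroup.normal_mul] at he
    obtain ⟨d, hd, d', hd', rfl⟩ := Set.mem_mul.1 he
    rw [ap_map_mul α' (hDE hd) (hD'E hd'), hα'D d' hd', mul_inv_rev, ← mul_assoc,
      mul_inv_cancel_right]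
    exact D.mul_mem (hpres d hd) (D.inv_mem hd)
  -- the inverting involution
  set K := S.aut E2 ⊓ fixer E2 C with hK
  have hαK : α ∈ K := ⟨hαA, fun y hy _ => hαD y hy.1⟩
  have hα'K : α' ∈ K := ⟨hα'A, fun y hy _ => hα'D y hy.2⟩
  have hαp : IsPGroup p (zpowers α) := (S.isPGroup_inner hE2).to_le (zpowers_le.2 hαI)
  obtain ⟨P0, hP0⟩ := (show IsPGroup p ((zpowers α).subgroupOf K) from
    hαp.comap_subtype).exists_le_sylow
  obtain ⟨t, htK, -, ⟨n, htn⟩, htinv⟩ := exists_inverter hG hp2 K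
    ((P0 : Subgroup K).map K.subtype) (P0.isPGroup'.map _) (map_subtype_le _)
    (fun P' hP'K hP' hle => by
      have h1 : P'.subgroupOf K = P0 := P0.is_maximal' hP'.comap_subtype fun y hy =>
        hle ⟨y, hy, rfl⟩
      rw [← h1, map_subgroupOf_eq_of_le hP'K])
    (W := E2) (U := C) hCE le_rfl hE2C hpowC (fun a _ y hy => ap_mem a hy)
    (fun a ha y hy => by rw [ha.2 y hy (hCE hy)]; exact hy)
    (u := α) ⟨⟨α, hαK⟩, hP0 (mem_zpowers α), rfl⟩ hu1 (hDE he0) he0C
    (by rw [hαD e0 he0, mul_inv_cancel]; exact one_mem C) hα'K hα'e0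
  have htC : ∀ c ∈ C, ap t c = c := fun c hc => htK.2 c hc (hCE hc)
  have htt : ∀ e ∈ E2, ap t (ap t e) = e := by
    obtain ⟨N, hN⟩ := exists_pow_card (p := p) hG
    have hmv : ∀ e ∈ E2, ap (t * t) e * e⁻¹ ∈ C := by
      intro e he
      have hu := htinv e he
      rw [ap_mul_apply _ _ he, show ap t e = (ap t e * e) * e⁻¹ by rw [mul_inv_cancel_right],
        ap_map_mul t (hCE hu) (E2.inv_mem he), htC _ hu, ap_map_inv t he]
      have h2 : (ap t e * e) * (ap t e)⁻¹ * e⁻¹ =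
          (ap t e * e) * (e * (ap t e * e)⁻¹ * e⁻¹) := by group
      rw [h2]
      exact C.mul_mem hu (hCn.conj_mem _ (C.inv_mem hu) e)
    have hq : (t * t) ^ p ^ N = 1 := ap_ext _ _ fun e he => by
      rw [ap_one_apply]
      exact fix_step le_rfl (fun c hc hcE => by rw [ap_mul_apply _ _ hcE, htC c hc, htC c hc]) hmv _
        (fun c _ => hN c) e he
    have h1 : t * t = 1 := eq_one_of_two_pow hp2 (n := n)
      (by rw [← sq, ← pow_mul, mul_comm, pow_mul, htn, one_pow]) hq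
    intro e he
    rw [← ap_mul_apply _ _ he, h1, ap_one_apply]
  obtain ⟨N, hN⟩ := exists_pow_card (p := p) hG
  have hodd : ∀ y : G, y ^ 2 = 1 → y = 1 := fun y hy =>
    eq_one_of_two_pow hp2 (n := 1) (by simpa using hy) (hN y)
  have hinvC : ∀ e ∈ E2, ∃ f ∈ E2, ap t f = f⁻¹ ∧ e * f⁻¹ ∈ C := by
    intro e he
    obtain ⟨c, hcE, f, hfE, hef, htc, htf, -, -⟩ := exists_fixed_inverted hG hp2 htt he
    refine ⟨f, hfE, htf, ?_⟩
    rw [hef, mul_inv_cancel_right]
    have h := htinv c hcE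
    rw [htc, ← sq] at h
    exact mem_of_sq_mem hG hp2 h
  have hinvC' : ∀ f ∈ E2, ap t f = f⁻¹ → f ^ p = 1 ∧ ∀ c ∈ C, c * f = f * c := by
    intro f hf htf
    refine ⟨hodd _ ?_, fun c hc => ?_⟩
    · have h := htC _ (hpowC f hf)
      rw [ap_map_pow t hf, htf, inv_pow, inv_eq_iff_mul_eq_one, ← sq] at h
      exact h
    · have h := htC _ (hCn.conj_mem c hc f)
      rw [ap_map_mul t (E2.mul_mem hf (hCE hc)) (E2.inv_mem hf), ap_map_mul t hf (hCE hc),
        ap_map_inv t hf, htf, htC c hc, inv_inv] at h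
      have h2 : f ∈ centralizer ({c} : Set G) := by
        refine mem_of_sq_mem hG hp2 (mem_centralizer_singleton_iff.2 ?_)
        calc f ^ 2 * c = f * (f * c * f⁻¹) * f := by simp [sq, mul_assoc]
          _ = f * (f⁻¹ * c * f) * f := by rw [h]
          _ = c * f ^ 2 := by simp [sq, mul_assoc]
      exact (mem_centralizer_singleton_iff.1 h2).symm
  obtain ⟨f, hf, htf, hfe⟩ := hinvC e0 (hDE he0)
  have hfD : f ∈ D := by
    have h := D.mul_mem (D.inv_mem hfe.1) he0
    rwa [mul_inv_rev, inv_inv, inv_mul_cancel_right] at h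
  have hfC : f ∉ C := fun h => he0C (by simpa using C.mul_mem hfe h)
  obtain ⟨e1, he1, he1D⟩ : ∃ e ∈ E2, e ∉ D := by
    refine SetLike.exists_of_lt (lt_of_le_of_ne hDE fun h => ?_)
    rw [h] at hE2D
    have h1 := hp.out.two_le
    have h2 : 0 < Nat.card E2 := Nat.card_pos
    nlinarith
  obtain ⟨g, hg, htg, hge⟩ := hinvC e1 he1
  have hgD : g ∉ D := fun h => he1D (by simpa using D.mul_mem hge.1 h)
  obtain ⟨hfp, hfcomm⟩ := hinvC' f hf htf
  obtain ⟨hgp, hgcomm⟩ := hinvC' g hg htg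
  have hCfD : C ⊔ zpowers f = D :=
    (eq_or_eq_of_card hG le_sup_left (sup_le inf_le_left (zpowers_le.2 hfD)) hDC).resolve_left
      fun h => hfC (h.le (mem_sup_right (mem_zpowers f)))
  have hDgE : D ⊔ zpowers g = E2 :=
    (eq_or_eq_of_card hG le_sup_left (sup_le hDE (zpowers_le.2 hg)) hE2D).resolve_left
      fun h => hgD (h.le (mem_sup_right (mem_zpowers g)))
  have hxf : x * f = f * x := (hxD f hfD).symm
  -- the common part is cyclic and central
  have hcyc : IsCyclic C := by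
    by_contra hnc
    obtain ⟨W, hW, hWea, hWc⟩ := Cfsg.Lib.PGroup.Noncyclic.exists_elemAb_sq hp2 hG C hnc
    have hWEA : EA p W :=
      ⟨fun a ha b hb => congrArg Subtype.val (hWea.1.is_comm.comm ⟨a, ha⟩ ⟨b, hb⟩),
        fun a ha => hWea.2 a ha⟩
    have hWf : EA p (W ⊔ zpowers f) := hWEA.sup_zpowers (fun a ha => hfcomm a (hW ha)) hfp
    have hWfD : W ⊔ zpowers f ≤ D := sup_le (hW.trans inf_le_left) (zpowers_le.2 hfD)
    have hL : EA p (W ⊔ zpowers f ⊔ zpowers x) :=
      hWf.sup_zpowers (fun a ha => hxD a (hWfD ha)) hxp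
    have h1 := RankThree.card_lt_sup_zpowers hG W (v := f) fun h => hfC (hW h)
    have h2 := RankThree.card_lt_sup_zpowers hG _ (v := x) fun h => hx (hDE (hWfD h))
    have h3 := hL.card_le S.sec
    rw [hWc] at h1
    have h4 : p * (p * p ^ 2) ≤ p ^ 3 := (Nat.mul_le_mul_left p h1).trans (h2.trans h3)
    have := hp.out.two_le
    nlinarith [pow_pos hp.out.pos 3]
  have hCc : C ≤ center G := by
    intro c hc
    have hle : (⊤ : Subgroup G) ≤ centralizer ({c} : Set G) := by
      rw [← S.sup_eq_top hE2 hx, ← hDgE, ← hCfD]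
      refine sup_le (sup_le (sup_le (fun d hd => mem_centralizer_singleton_iff.2 ?_)
        (zpowers_le.2 (mem_centralizer_singleton_iff.2 (hfcomm c hc).symm)))
        (zpowers_le.2 (mem_centralizer_singleton_iff.2 (hgcomm c hc).symm)))
        (zpowers_le.2 (mem_centralizer_singleton_iff.2 (hxC c hc)))
      exact congrArg Subtype.val (IsCyclic.commGroup.mul_comm (⟨d, hd⟩ : C) ⟨c, hc⟩)
    exact mem_center_iff.2 fun y => mem_centralizer_singleton_iff.1 (hle (mem_top y))
  have hDcomm : ∀ a ∈ D, ∀ b ∈ D, a * b = b * a := by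
    intro a ha b hb
    rw [← hCfD] at ha hb
    obtain ⟨c1, hc1, i, rfl⟩ := (mem_sup_zpowers_of_commute hfcomm).1 ha
    obtain ⟨c2, hc2, j, rfl⟩ := (mem_sup_zpowers_of_commute hfcomm).1 hb
    have h2 : Commute c1 (c2 * f ^ j) := (mem_center_iff.1 (hCc hc1) _).symm
    have h1 : Commute (f ^ i) c2 := mem_center_iff.1 (hCc hc2) _
    exact (h2.mul_left (h1.mul_right ((Commute.refl f).zpow_zpow i j))).eq
  set z := ⁅f, g⁆ with hz
  have hzC : z ∈ C := hcommC f hf g hg
  have hzc := hCc hzC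
  have hzp : z ^ p = 1 := by
    rw [hz, ← RankThree.comm_pow_left (show Commute f ⁅f, g⁆ from mem_center_iff.1 hzc f), hfp,
      commutatorElement_one_left]
  -- `⁅x, g⁆ = f ^ i * c`
  obtain ⟨i, hi⟩ : ∃ i : ℕ, (f ^ i)⁻¹ * ⁅x, g⁆ ∈ C :=
    RankThree.exists_pow_of_mem_sup C (hCfD.symm ▸ hstepE x g hg)
  have hpi : ¬ p ∣ i := by
    intro hd
    rw [RankThree.pow_prime_mul_eq_one hfp hd, inv_one, one_mul] at hi
    obtain ⟨e, he, hee⟩ := hu1
    rw [hα e he, ← commutatorElement_def] at hee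
    set π := QuotientGroup.mk' C
    have hle : E2 ≤ (centralizer ({π x} : Set (G ⧸ C))).comap π := by
      rw [← hDgE]
      refine sup_le (fun d hd => mem_centralizer_singleton_iff.2 ?_)
        (zpowers_le.2 (mem_centralizer_singleton_iff.2 ?_))
      · rw [← map_mul, ← map_mul, hxD d hd]
      · refine (commutatorElement_eq_one_iff_mul_comm.1 ?_).symm
        rw [← map_commutatorElement, ← MonoidHom.mem_ker, QuotientGroup.ker_mk']
        exact hi
    refine hee ?_
    rw [← QuotientGroup.ker_mk' C, MonoidHom.mem_ker, map_commutatorElement]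
    exact commutatorElement_eq_one_iff_mul_comm.2 (mem_centralizer_singleton_iff.1 (hle he)).symm
  set c := (f ^ i)⁻¹ * ⁅x, g⁆ with hc
  have hw : ⁅x, g⁆ = f ^ i * c := by rw [hc, mul_inv_cancel_left]
  have hwD : ⁅x, g⁆ ∈ D := hstepE x g hg
  have hxw : Commute x ⁅x, g⁆ := (hxD _ hwD).symm
  have hwp : ⁅x, g⁆ ^ p = 1 := by
    rw [← RankThree.comm_pow_left hxw, hxp, commutatorElement_one_left]
  have hcp : c ^ p = 1 := by
    have h := hwp
    rw [hw, (show Commute (f ^ i) c from mem_center_iff.1 (hCc hi) _).mul_pow, ← pow_mul, mul_comm i,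
      pow_mul, hfp, one_pow, one_mul] at h
    exact h
  -- `p`-th powers
  have hpows : ∀ Q : Subgroup G, Q ≤ C → z ∈ Q → (∀ y ∈ C, y ^ p ∈ Q) → ∀ s : G, s ^ p ∈ Q := by
    intro Q hQC hzQ hCQ s
    haveI hQn : Q.Normal := ⟨fun y hy a => by
      rw [mem_center_iff.1 (hCc (hQC hy)) a, mul_inv_cancel_right]; exact hy⟩
    set π := QuotientGroup.mk' Q with hπ
    have hπ1 : ∀ y, π y = 1 ↔ y ∈ Q := fun y => QuotientGroup.eq_one_iff y
    have hfc : π f ∈ center (G ⧸ Q) := by
      refine mem_center_iff.2 fun q => QuotientGroup.induction_on q fun y => ?_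
      have hle : (⊤ : Subgroup G) ≤ (centralizer ({π f} : Set (G ⧸ Q))).comap π := by
        rw [← S.sup_eq_top hE2 hx, ← hDgE]
        refine sup_le (sup_le (fun d hd => mem_centralizer_singleton_iff.2 ?_)
          (zpowers_le.2 (mem_centralizer_singleton_iff.2 ?_)))
          (zpowers_le.2 (mem_centralizer_singleton_iff.2 ?_))
        · rw [← map_mul, ← map_mul, hDcomm d hd f hfD]
        · refine (commutatorElement_eq_one_iff_mul_comm.1 ?_).symm
          rw [← map_commutatorElement, hπ1]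
          exact hzQ
        · rw [← map_mul, ← map_mul, hxf]
      exact mem_centralizer_singleton_iff.1 (hle (mem_top y))
    have hDc : ∀ d ∈ D, π d ∈ center (G ⧸ Q) ∧ π d ^ p = 1 := by
      intro d hd
      rw [← hCfD] at hd
      obtain ⟨c1, hc1, j, rfl⟩ := (mem_sup_zpowers_of_commute hfcomm).1 hd
      have hc1' : π c1 ∈ center (G ⧸ Q) := mem_center_iff.2 fun q =>
        QuotientGroup.induction_on q fun y => by
          show π y * π c1 = π c1 * π y
          rw [← map_mul, ← map_mul, mem_center_iff.1 (hCc hc1) y]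
      refine ⟨by rw [map_mul, map_zpow]; exact mul_mem hc1' (zpow_mem hfc j), ?_⟩
      rw [← map_pow, hπ1, (show Commute c1 (f ^ j) from (mem_center_iff.1 (hCc hc1) _).symm).mul_pow,
        (ea_zpowers hfp).2 _ (zpow_mem (mem_zpowers f) j), mul_one]
      exact hCQ c1 hc1
    obtain ⟨e, he, j, rfl⟩ := S.exists_decomp hE2 hx s
    obtain ⟨d, hd, k, rfl⟩ : ∃ d ∈ D, ∃ k : ℕ, e = g ^ k * d := by
      obtain ⟨k, hk⟩ := RankThree.exists_pow_of_mem_sup D (hDgE.symm ▸ he)
      exact ⟨_, hk, k, (mul_inv_cancel_left _ _).symm⟩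
    have hgk : (π g ^ k * π d) ^ p = 1 := by
      rw [(show Commute (π g ^ k) (π d) from mem_center_iff.1 (hDc d hd).1 _).mul_pow,
        (hDc d hd).2, mul_one, ← pow_mul, mul_comm k, pow_mul, ← map_pow, hgp, map_one, one_pow]
    have hcm : ⁅π g ^ k * π d, π x ^ j⁆ ∈ center (G ⧸ Q) ∧ ⁅π g ^ k * π d, π x ^ j⁆ ^ p = 1 := by
      rw [← map_pow, ← map_pow, ← map_mul, ← map_commutatorElement, ← commutatorElement_inv,
        map_inv, inv_pow, inv_eq_one]
      obtain ⟨h1, h2⟩ := hDc _ (hstepE (x ^ j) _ he)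
      exact ⟨inv_mem h1, h2⟩
    rw [← hπ1, map_pow, map_mul, map_pow, map_mul, map_pow,
      RankThree.mul_pow_prime hp2 (mem_center_iff.1 hcm.1 _) (mem_center_iff.1 hcm.1 _) hcm.2, hgk,
      mul_one, ← pow_mul, mul_comm j, pow_mul, ← map_pow, hxp, map_one, one_pow]
  -- the common part has order at most `p`
  have hCp : ∀ y ∈ C, y ^ p = 1 := by
    obtain ⟨γ, hγ⟩ := hcyc.exists_generator
    by_contra h
    push Not at h
    obtain ⟨y0, hy0, hy0p⟩ := h
    set q := (γ : G) ^ p with hq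
    have hpw : ∀ y ∈ C, y ^ p ∈ zpowers q := fun y hy => by
      obtain ⟨j, hj⟩ := mem_zpowers_iff.1 (hγ ⟨y, hy⟩)
      have h1 : (γ : G) ^ j = y := by simpa using congrArg Subtype.val hj
      rw [← h1, ← zpow_natCast, ← zpow_mul, mul_comm, zpow_mul, zpow_natCast, ← hq]
      exact zpow_mem (mem_zpowers q) j
    have hq1 : q ≠ 1 := fun h1 => hy0p (by
      have := hpw y0 hy0
      rwa [h1, zpowers_one_eq_bot, mem_bot] at this)
    have hzQ : z ∈ zpowers q := by
      obtain ⟨k, hk⟩ := (Nat.dvd_prime_pow hp.out).1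
        (orderOf_dvd_of_pow_eq_one (hN (γ : G)))
      obtain ⟨j, hj⟩ := mem_powers_iff_mem_zpowers.2 (hγ ⟨z, hzC⟩)
      have hjz : (γ : G) ^ j = z := by simpa using congrArg Subtype.val hj
      have hd : orderOf (γ : G) ∣ j * p := orderOf_dvd_of_pow_eq_one (by rw [pow_mul, hjz, hzp])
      rw [hk.2] at hd
      match k, hk.2, hd with
      | 0, hk2, _ => exact absurd (by rw [hq, (orderOf_eq_one_iff (x := (γ : G))).1 (by simpa using hk2), one_pow]) hq1
      | 1, hk2, _ => exact absurd (by rw [hq, ← pow_one p, ← hk2, pow_orderOf_eq_one]) hq1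
      | k' + 2, _, hd =>
        have h2 : p ∣ j := by
          have h3 : p ^ (k' + 1) * p ∣ j * p := by rwa [← pow_succ]
          exact (dvd_pow_self p k'.succ_ne_zero).trans (Nat.dvd_of_mul_dvd_mul_right hp.out.pos h3)
        obtain ⟨j', rfl⟩ := h2
        rw [← hjz, pow_mul]
        exact pow_mem (mem_zpowers q) j'
    have hpow := hpows (zpowers q) (zpowers_le.2 (C.pow_mem γ.2 p)) hzQ hpw
    refine hq1 (mem_bot.1 ((S.core (zpowers q) (fun E hE => ?_) fun φ hφ y hy => ?_) ▸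
      mem_zpowers q))
    · have hγE : (γ : G) ∈ E := S.center_le hE (hCc γ.2)
      refine ⟨zpowers_le.2 (E.pow_mem hγE p), fun a _ y hy => ?_⟩
      obtain ⟨m, rfl⟩ := mem_zpowers_iff.1 hy
      rw [hq, ap_map_zpow a (E.pow_mem hγE p), ap_map_pow a hγE]
      exact zpow_mem (hpow _) m
    · obtain ⟨m, rfl⟩ := mem_zpowers_iff.1 hy
      rw [hq, map_zpow, map_pow]
      exact zpow_mem (hpow _) m
  have hcardC : Nat.card C = 1 ∨ Nat.card C = p := by
    obtain ⟨γ, hγ⟩ := hcyc.exists_generator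
    refine (Nat.dvd_prime hp.out).1 ?_
    rw [← orderOf_eq_card_of_forall_mem_zpowers hγ]
    exact orderOf_dvd_of_pow_eq_one (Subtype.ext (by simpa using hCp γ γ.2))
  by_cases hz1 : z = 1
  · exact Or.inr (case_one_degenerate S hA hE2 hx hxp hxw hfD hgD hg hfp hgp hcardC hDC hE2C
      hxf hz1 hCc hCfD hDgE hCp hw hpi hcp hi
      (hpows ⊥ bot_le (mem_bot.2 hz1) fun y hy => mem_bot.2 (hCp y hy)))
  have hC1 : zpowers z = C := by
    refine eq_of_card_le (zpowers_le.2 hzC) ?_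
    rw [Nat.card_zpowers, orderOf_eq_of_ne hzp hz1]
    rcases hcardC with h | h <;> rw [h]
    exact hp.out.one_le
  have hCcard : Nat.card C = p := by rw [← hC1, Nat.card_zpowers, orderOf_eq_of_ne hzp hz1]
  refine Or.inl ⟨by rw [hG2, hE2C, hCcard]; ring, g, x, ⁅x, g⁆⁻¹, z ^ i, hgp, hxp, by rw [inv_pow, hwp,
    inv_one], by rw [← pow_mul, mul_comm, pow_mul, hzp, one_pow], fun h => hpi ?_, ?_, ?_, ?_, ?_, ?_,
    ?_, ?_⟩
  · rw [← orderOf_eq_of_ne hzp hz1]; exact orderOf_dvd_of_pow_eq_one h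
  · exact ((show Commute g z from mem_center_iff.1 hzc g).pow_right i).eq
  · exact ((show Commute x z from mem_center_iff.1 hzc x).pow_right i).eq
  · exact ((show Commute (⁅x, g⁆⁻¹) z from mem_center_iff.1 hzc _).pow_right i).eq
  · exact hxw.inv_right.eq
  · calc g * x * g⁻¹ = ⁅x, g⁆⁻¹ * x := by rw [commutatorElement_def]; group
      _ = x * ⁅x, g⁆⁻¹ := hxw.inv_right.eq.symm
  · have hzi : ⁅⁅x, g⁆, g⁆ = z ^ i := by
      rw [hw, RankThree.comm_mul_central_left (hCc hi),
        RankThree.comm_pow_left (show Commute f ⁅f, g⁆ from mem_center_iff.1 hzc f)]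
    rw [← hzi]
    generalize ⁅x, g⁆ = w'
    rw [commutatorElement_def]
    group
  · set L := closure ({g, x, ⁅x, g⁆⁻¹, z ^ i} : Set G) with hL
    have hgL : g ∈ L := subset_closure (by simp)
    have hxL : x ∈ L := subset_closure (by simp)
    have hwL : ⁅x, g⁆ ∈ L := by
      rw [← inv_inv ⁅x, g⁆]; exact L.inv_mem (subset_closure (by simp))
    have hCL : C ≤ L := by
      rw [← hC1]
      refine zpowers_le.2 (Plane.mem_of_pow_mem (p := p) (k := 1) (by rw [pow_one]; exact hzp) hpi ?_)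
      exact subset_closure (by simp)
    have hfL : f ∈ L := by
      refine Plane.mem_of_pow_mem (p := p) (k := 1) (by rw [pow_one]; exact hfp) hpi ?_
      rw [show f ^ i = ⁅x, g⁆ * c⁻¹ by rw [hw, mul_inv_cancel_right]]
      exact L.mul_mem hwL (L.inv_mem (hCL hi))
    rw [eq_top_iff, ← S.sup_eq_top hE2 hx, ← hDgE, ← hCfD]
    exact sup_le (sup_le (sup_le hCL (zpowers_le.2 hfL)) (zpowers_le.2 hgL)) (zpowers_le.2 hxL)

end Cfsg.Lib.FusionSys.SecThree
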