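import Cfsg.Agent.Lib.FusionSys.SecThree.Beta
import Cfsg.Agent.Lib.FusionSys.SecThree.CaseOne

/-!
# The conclusion: the shape of a Sylow subgroup of `Sp(4, p)`
-/

set_option linter.style.haveILetI false
set_option autoImplicit false

namespace Cfsg.Lib.FusionSys.SecThree

open Subgroup
open scoped commutatorElement

variable {G : Type*} [Group G] [Finite G] {p : ℕ} [hp : Fact p.Prime]

set_option maxHeartbeats 400000 in
/-- When every `Ω₁(Z(E))` of type A lies in all essential subgroups the core is nontrivial. -/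
theorem case_two (S : Sys p G)
    (hall : ∀ E, S.TypeA E → ∀ E' ∈ S.ess, omegaC p E ≤ E') : False := by
  have hG := S.isP
  obtain ⟨E, hA⟩ := S.exists_typeA
  set V := omegaC p E with hVdef
  set Z := omegaZ p G with hZ
  -- uniqueness of the subgroup of type A
  have huniq : ∀ E', S.TypeA E' → E' = E := by
    intro E' hA'
    have h := omegaC_eq S hA hA' (hall E hA E' hA'.1) (hall E' hA' E hA.1)
    have hle : E' ≤ E := fun y hy => hA.mem_of_commute fun v hv => (h.le hv).2.1 y hy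
    exact eq_of_card_le hle (Nat.eq_of_mul_eq_mul_left hp.out.pos
      ((S.card_eq hA.1).symm.trans (S.card_eq hA'.1))).le
  have hES : ∀ φ ∈ S.autS, ∀ y ∈ E, φ y ∈ E := fun φ hφ y hy =>
    (huniq _ (hA.map hφ)).le (mem_map_of_mem φ.toMonoidHom hy)
  have hSV : ∀ φ ∈ S.autS, ∀ v ∈ V, φ v ∈ V := fun φ hφ v hv => by
    have h : φ v ∈ omegaC p (E.map φ.toMonoidHom) := by
      rw [Sys.omegaC_map]; exact mem_map_of_mem φ.toMonoidHom hv
    rwa [huniq _ (hA.map hφ)] at h
  have hB : ∀ E' ∈ S.ess, E' ≠ E → ∀ a ∈ S.aut E', ∀ z ∈ Z, ap a z ∈ Z := by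
    intro E' hE' hne a ha z hz
    by_contra h
    exact hne (huniq E' ⟨hE', a, ha, z, hz, h⟩)
  -- all conjugates commute with `V`
  by_cases halpha : ∃ E2 ∈ S.ess, ∃ γ ∈ S.aut E2, ∃ v ∈ V, ∃ v' ∈ img γ V, v * v' ≠ v' * v
  · obtain ⟨E2, hE2, γ, hγ, v, hv, v', hv', hne⟩ := halpha
    exact alpha_false S hA hE2 (hall E hA E2 hE2) hSV hB hγ hv hv' hne
  push Not at halpha
  obtain ⟨E2, hE2, hmove⟩ : ∃ E2 ∈ S.ess, ∃ a ∈ S.aut E2, ∃ v ∈ V, ap a v ∉ V := by
    by_contra h
    push Not at h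
    have hbot := S.core V (fun E' hE' => ⟨hall E hA E' hE', fun a ha v hv => h E' hE' a ha v hv⟩) hSV
    refine S.omegaZ_ne_bot ((eq_bot_iff_forall _).2 fun y hy => ?_)
    exact mem_bot.1 (hbot ▸ S.omegaZ_le hA.1 hy)
  -- the orbits
  have hEA : ∀ E' ∈ S.ess, EA p (orbit S E' V) ∧ orbit S E' V ≤ E := by
    intro E' hE'
    have hVE' := hall E hA E' hE'
    have hcl : closure (⋃ a : S.aut E', (img (a : MulAut E') V : Set G)) = orbit S E' V := by
      rw [Subgroup.closure_iUnion]; simp only [closure_eq]; rfl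
    have hc : ∀ y ∈ orbit S E' V, ∀ v ∈ V, y * v = v * y := by
      intro y hy v hv
      have hle : orbit S E' V ≤ centralizer ({v} : Set G) := iSup_le fun a w hw =>
        mem_centralizer_singleton_iff.2 (halpha E' hE' a a.2 v hv w hw).symm
      exact mem_centralizer_singleton_iff.1 (hle hy)
    have hcomm : ∀ x ∈ orbit S E' V, ∀ y ∈ orbit S E' V, x * y = y * x := by
      intro x hx y hy
      have hle : orbit S E' V ≤ centralizer ({x} : Set G) := iSup_le fun a w hw => by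
        obtain ⟨v, hv, hvE, rfl⟩ := (mem_img (a : MulAut E')).1 hw
        refine mem_centralizer_singleton_iff.2 ?_
        have hxE := orbit_le S hx
        have h := hc _ (ap_mem_orbit S (inv_mem a.2) hx) v hv
        have h2 := congrArg (ap (a : MulAut E')) h
        rw [ap_map_mul _ (ap_mem _ hxE) hvE, ap_map_mul _ hvE (ap_mem _ hxE), ap_ap_inv _ hxE] at h2
        exact h2.symm
      exact (mem_centralizer_singleton_iff.1 (hle hy)).symm
    refine ⟨⟨hcomm, fun y hy => ?_⟩, fun y hy => hA.mem_of_commute (hc y hy)⟩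
    refine exp_of_closure S.odd (N := (⊥ : Subgroup G))
      (fun n hn x _ => by rw [mem_bot.1 hn, one_mul, mul_one]) (fun n hn => by rw [mem_bot.1 hn, one_pow])
      (fun a ha b hb => mem_bot.2 (comm_eq_one.2 (hcomm a (hcl ▸ ha) b (hcl ▸ hb)))) ?_ y
      (hcl.symm ▸ hy)
    intro a ha
    obtain ⟨b, hb⟩ := Set.mem_iUnion.1 ha
    exact ((ea_omegaC E).img_ea (b : MulAut E')).2 a hb
  have hmoved : ∀ E' ∈ S.ess, (∃ a ∈ S.aut E', ∃ v ∈ V, ap a v ∉ V) →
      Nat.card V = p ^ 2 ∧ IsCube p E V (orbit S E' V) ∧ (orbit S E' V).Normal := by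
    rintro E' hE' ⟨a, ha, v, hv, hav⟩
    obtain ⟨hea, hle⟩ := hEA E' hE'
    have hVO := le_orbit S (V := V) (hall E hA E' hE')
    have hlt : V < orbit S E' V := lt_of_le_of_ne hVO fun h => hav (h.symm ▸
      (img_le_orbit S ha (ap_mem_img a hv (hall E hA E' hE' hv))) : ap a v ∈ V)
    have h1 := RankThree.card_mul_le_of_lt hG hlt
    have h3 := hea.card_le S.sec
    have hV2 : Nat.card V = p ^ 2 := by
      refine hA.card_cases.resolve_right fun h => ?_
      rw [← hVdef] at h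
      rw [h] at h1
      have := h1.trans h3
      have := hp.out.two_le
      nlinarith [pow_pos hp.out.pos 3]
    rw [hV2, ← pow_succ'] at h1
    have hn := orbit_normal S (V := V) hE'
    exact ⟨hV2, ⟨hea, le_antisymm h3 h1, hVO, hle, fun l _ y hy => hn.conj_mem y hy l⟩, hn⟩
  obtain ⟨hV2, hBc, hBn⟩ := hmoved E2 hE2 hmove
  set B := orbit S E2 V with hBdef
  have hBS : ∀ φ ∈ S.autS, ∀ y ∈ B, φ y ∈ B := by
    intro φ hφ y hy
    haveI := hBn
    have hc : IsCube p E V (B.map φ.toMonoidHom) := by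
      refine ⟨⟨?_, ?_⟩, ?_, fun v hv => ⟨φ⁻¹ v, hBc.2.2.1 (hSV φ⁻¹ (inv_mem hφ) v hv), ?_⟩, ?_, ?_⟩
      · rintro _ ⟨a, ha, rfl⟩ _ ⟨b, hb, rfl⟩
        simp only [MulEquiv.coe_toMonoidHom, ← map_mul, hBc.1.1 a ha b hb]
      · rintro _ ⟨a, ha, rfl⟩
        rw [← map_pow, hBc.1.2 a ha, map_one]
      · exact (Nat.card_congr (equivMapOfInjective B φ.toMonoidHom φ.injective).toEquiv).symm.trans
          hBc.2.1
      · exact φ.apply_symm_apply v
      · rintro _ ⟨a, ha, rfl⟩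
        exact hES φ hφ a (hBc.2.2.2.1 ha)
      · exact fun l _ w hw => (hBn.map φ.toMonoidHom φ.surjective).conj_mem w hw l
    exact (cube_unique S hA hV2 hc hBc).le (mem_map_of_mem φ.toMonoidHom hy)
  -- `B` lies in all essential subgroups and is invariant
  refine S.omegaZ_ne_bot ((eq_bot_iff_forall _).2 fun y hy => ?_)
  refine mem_bot.1 ((S.core B (fun E3 hE3 => ?_) hBS) ▸ hBc.2.2.1 (S.omegaZ_le hA.1 hy))
  by_cases hE : E3 = E
  · subst hE
    refine ⟨hBc.2.2.2.1, fun a _ w hw => ?_⟩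
    have h := cube_unique S hA hV2 (hBc.img rfl a fun v hv => S.ap_omegaC hA.1 a⁻¹ hv) hBc
    exact h.le (ap_mem_img a hw (hBc.2.2.2.1 hw))
  by_cases hmv : ∃ a ∈ S.aut E3, ∃ v ∈ V, ap a v ∉ V
  · obtain ⟨-, hOc, -⟩ := hmoved E3 hE3 hmv
    have hOB := cube_unique S hA hV2 hOc hBc
    rw [← hOB]
    exact ⟨orbit_le S, fun a ha w hw => ap_mem_orbit S ha hw⟩
  push Not at hmv
  haveI := hBn
  haveI hE3n := S.normal E3 hE3
  haveI hVn : V.Normal := S.omegaC_normal hA.1
  have hVE3 := hall E hA E3 hE3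
  have hBE3 : B ≤ E3 := by
    by_contra hnle
    obtain ⟨b, hb, hbE3⟩ := SetLike.not_le_iff_exists.1 hnle
    haveI := finite_mulAut E3
    have hinf : B ⊓ E3 = V :=
      (eq_or_eq_of_card hG (le_inf hBc.2.2.1 hVE3) inf_le_left
        (by rw [hBc.2.1, hV2]; ring)).resolve_right fun h => hbE3 ((inf_eq_left.1 h) hb)
    set M := S.aut E3 ⊓ (fixer E3 V ⊓ moves E3 E3 V le_rfl) with hM
    have hMp : IsPGroup p M := by
      refine (isPGroup_chain hG (L₀ := V) (L₁ := V) hVE3 le_rfl).to_le ?_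
      rintro a ⟨-, h1, h2, h3⟩
      exact ⟨⟨h1, h2, fun w hw => by rw [h1 w hw (hVE3 hw), mul_inv_cancel]; exact one_mem V⟩, h2, h3⟩
    have hMn : ∀ a ∈ S.aut E3, ∀ m ∈ M, a * m * a⁻¹ ∈ M := by
      rintro a ha m ⟨hm, h1, h2⟩
      exact ⟨(S.aut E3).mul_mem ((S.aut E3).mul_mem ha hm) ((S.aut E3).inv_mem ha),
        fixer_conj a (fun w hw _ => hmv _ (inv_mem ha) w hw) h1,
        moves_conj a (fun w hw _ => hmv _ ha w hw) (fun w hw _ => hmv _ (inv_mem ha) w hw)
          (fun w hw => ap_mem a⁻¹ hw) h2⟩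
    obtain ⟨a, haA, -, ha⟩ := S.exists_conj hE3 b
    have hfix : ∀ w ∈ V, ap a w = w := fun w hw => by
      rw [ha w (hVE3 hw), hBc.1.1 b hb w (hBc.2.2.1 hw), mul_inv_cancel_right]
    have haM : a ∈ M := by
      refine ⟨haA, fun w hw _ => hfix w hw, fun w hw _ => by rw [hfix w hw]; exact hw, fun w hw => ?_⟩
      rw [ha w hw, ← hinf, ← commutatorElement_def]
      refine ⟨?_, E3.mul_mem (hE3n.conj_mem w hw b) (E3.inv_mem hw)⟩
      rw [commutatorElement_def, mul_assoc, mul_assoc, ← mul_assoc w]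
      exact B.mul_mem hb (hBn.conj_mem _ (B.inv_mem hb) w)
    exact hbE3 (S.conj_eq_of_mem hE3 (S.radical E3 hE3 M inf_le_left hMn hMp haM) ha)
  refine ⟨hBE3, fun a ha w hw => ?_⟩
  by_contra hout
  exact beta_false S hA hE3 hV2 hBc hBn hBS hES hBE3 hmv ha
    fun h => hout (h.le (ap_mem_img a hw (hBE3 hw)))

/-- A nonabelian group of order `p ^ 3` has sectional rank two. -/
theorem HeisRels.sectional_le_two (hG : IsPGroup p G) (h : HeisRels p G) :
    Cfsg.SectionalPRankLE p 2 G := by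
  obtain ⟨hcardG, x, g, hw1⟩ := h
  intro H N _ A hAc hAp
  by_contra hA3
  push Not at hA3
  obtain ⟨k, hk⟩ := IsPGroup.iff_card.mp (((hG.to_subgroup H).to_quotient N).to_subgroup A)
  have h1 : 3 ≤ k := (Nat.pow_lt_pow_iff_right hp.out.one_lt).1 (hk ▸ hA3)
  have h2 : Nat.card A ≤ Nat.card (H ⧸ N) := card_le_card_group A
  have h3 : Nat.card H ≤ p ^ 3 := hcardG ▸ card_le_card_group H
  have h4 := Subgroup.card_eq_card_quotient_mul_card_subgroup N
  have h5 : p ^ 3 ≤ Nat.card A := hk ▸ Nat.pow_le_pow_right hp.out.pos h1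
  have h6 : 0 < Nat.card N := Nat.card_pos
  have h7 : Nat.card N = 1 := by
    by_contra hN
    have : 2 * Nat.card (H ⧸ N) ≤ Nat.card H := by
      rw [h4, mul_comm 2]
      exact Nat.mul_le_mul_left _ (by omega)
    omega
  rw [h7, mul_one] at h4
  have hAtop : A = ⊤ := eq_top_of_le_card A (by omega)
  have hHtop : H = ⊤ := eq_top_of_le_card H (by omega)
  have hNbot : N = ⊥ := Subgroup.card_eq_one.1 h7
  refine hw1 ?_
  have hmem : (⁅(⟨x, hHtop ▸ mem_top x⟩ : H), ⟨g, hHtop ▸ mem_top g⟩⁆ : H) ∈ N := by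
    rw [← QuotientGroup.ker_mk' N, MonoidHom.mem_ker, map_commutatorElement, comm_eq_one]
    exact congrArg Subtype.val (hAc.is_comm.comm
      (⟨_, hAtop ▸ mem_top _⟩ : A) ⟨_, hAtop ▸ mem_top _⟩)
  rw [hNbot, mem_bot] at hmem
  simpa [commutatorElement_def] using congrArg Subtype.val hmem

/-- The group has the shape of a Sylow `p`-subgroup of `Sp(4, p)`, or has order `p ^ 3`. -/
theorem shape_of_sys (S : Sys p G) : SpRels p G ∨ HeisRels p G := by
  by_contra h
  refine case_two S fun E hA E' hE' x hx => ?_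
  by_contra hxE
  exact h (case_one S hA hE' hx hxE)

/-- The group has the shape of a Sylow `p`-subgroup of `Sp(4, p)`. -/
theorem spRels_of_sys (S : Sys p G) (hsec : ¬ Cfsg.SectionalPRankLE p 2 G) : SpRels p G :=
  (shape_of_sys S).resolve_right fun h => hsec (h.sectional_le_two S.isP)

end Cfsg.Lib.FusionSys.SecThree
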