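import Cfsg.Agent.Lib.FusionSys.SecThree.Sys

/-!
# Elementary abelian subgroups of order `p ^ 3` through a common plane
-/

set_option linter.style.haveILetI false
set_option autoImplicit false

namespace Cfsg.Lib.FusionSys.SecThree

open Subgroup
open scoped commutatorElement

variable {G : Type*} [Group G]

section Img

variable {E U W : Subgroup G} (a : MulAut E)

theorem img_sup (hU : U ≤ E) (hW : W ≤ E) : img a (U ⊔ W) = img a U ⊔ img a W := by
  rw [img, img, img, subgroupOf_sup hU hW, Subgroup.map_sup, Subgroup.map_sup]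

theorem ap_mem_of_img_le (h : img a U ≤ W) {x : G} (hx : x ∈ U) (hxE : x ∈ E) : ap a x ∈ W :=
  h (ap_mem_img a hx hxE)

variable {p : ℕ}

theorem EA.img_ea (hU : EA p U) : EA p (img a U) := by
  refine ⟨fun x hx y hy => ?_, fun x hx => ?_⟩
  · obtain ⟨u, hu, huE, rfl⟩ := (mem_img a).1 hx
    obtain ⟨v, hv, hvE, rfl⟩ := (mem_img a).1 hy
    rw [← ap_map_mul a huE hvE, ← ap_map_mul a hvE huE, hU.1 u hu v hv]
  · obtain ⟨u, hu, huE, rfl⟩ := (mem_img a).1 hx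
    rw [← ap_map_pow a huE, hU.2 u hu, ap_map_one]

theorem fixer_conj {L : Subgroup G} {m : MulAut E}
    (hinv : ∀ x ∈ L, x ∈ E → ap a⁻¹ x ∈ L) (hm : m ∈ fixer E L) : a * m * a⁻¹ ∈ fixer E L := by
  intro x hx hxE
  rw [ap_mul_apply _ _ hxE, ap_mul_apply _ _ (ap_mem _ hxE), hm _ (hinv x hx hxE) (ap_mem _ hxE),
    ap_ap_inv a hxE]

theorem moves_conj [Finite G] {L₀ L₁ : Subgroup G} {h1 : L₁ ≤ E} {m : MulAut E}
    (h0 : ∀ x ∈ L₀, x ∈ E → ap a x ∈ L₀) (h0' : ∀ x ∈ L₀, x ∈ E → ap a⁻¹ x ∈ L₀)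
    (h1' : ∀ x ∈ L₁, ap a⁻¹ x ∈ L₁) (hm : m ∈ moves E L₁ L₀ h1) :
    a * m * a⁻¹ ∈ moves E L₁ L₀ h1 := by
  refine ⟨fun x hx hxE => ?_, fun x hx => ?_⟩
  · rw [ap_mul_apply _ _ hxE, ap_mul_apply _ _ (ap_mem _ hxE)]
    exact h0 _ (hm.1 _ (h0' x hx hxE) (ap_mem _ hxE)) (ap_mem _ (ap_mem _ hxE))
  · have hxE := h1 hx
    have hy := ap_mem a⁻¹ hxE
    have h := h0 _ (hm.2 _ (h1' x hx)) (E.mul_mem (ap_mem m hy) (E.inv_mem hy))
    rw [ap_map_mul a (ap_mem m hy) (E.inv_mem hy), ap_map_inv a hy, ap_ap_inv a hxE] at h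
    rwa [ap_mul_apply _ _ hxE, ap_mul_apply _ _ hy]

end Img

/-- Commutators of a group generated by `T` lie in a central subgroup containing those of `T`. -/
theorem comm_mem_closure {T : Set G} {N : Subgroup G}
    (hN : ∀ n ∈ N, ∀ x ∈ closure T, x * n = n * x) (h : ∀ a ∈ T, ∀ b ∈ T, ⁅a, b⁆ ∈ N) :
    ∀ x ∈ closure T, ∀ y ∈ closure T, ⁅x, y⁆ ∈ N := by
  have h1 : ∀ a ∈ closure T, (∀ b ∈ T, ⁅a, b⁆ ∈ N) → ∀ y ∈ closure T, ⁅a, y⁆ ∈ N := by
    intro a _ hab y hy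
    induction hy using Subgroup.closure_induction with
    | mem y hy => exact hab y hy
    | one => rw [commutatorElement_one_right]; exact N.one_mem
    | mul y z hy hz iy iz =>
      rw [commutatorElement_mul_right_eq_mul_conj, mul_assoc (⁅a, y⁆ * y),
        ← mul_assoc, mul_assoc ⁅a, y⁆ y, hN _ iz y hy, mul_assoc, mul_assoc, mul_inv_cancel, mul_one]
      exact N.mul_mem iy iz
    | inv y hy iy =>
      have e : ⁅a, y⁻¹⁆ = y⁻¹ * ⁅a, y⁆⁻¹ * y := by simp [commutatorElement_def, mul_assoc]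
      rw [e, hN _ (N.inv_mem iy) _ (inv_mem hy), mul_assoc, inv_mul_cancel, mul_one]
      exact N.inv_mem iy
  intro x hx y hy
  rw [← commutatorElement_inv y x]
  refine N.inv_mem (h1 y hy (fun b hb => ?_) x hx)
  rw [← commutatorElement_inv b y]
  exact N.inv_mem (h1 b (subset_closure hb) (h b hb) y hy)

variable [Finite G] {p : ℕ} [hp : Fact p.Prime]

omit [Finite G] in
theorem pow_lt_pow_of_lt {a b : ℕ} (h : a < b) : p ^ a < p ^ b :=
  Nat.pow_lt_pow_right hp.out.one_lt h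

/-- A group generated by exponent-`p` elements with central commutators has exponent `p`. -/
theorem exp_of_closure (hp2 : p ≠ 2) {T : Set G} {N : Subgroup G}
    (hN : ∀ n ∈ N, ∀ x ∈ closure T, x * n = n * x) (hNp : ∀ n ∈ N, n ^ p = 1)
    (h : ∀ x ∈ closure T, ∀ y ∈ closure T, ⁅x, y⁆ ∈ N) (hT : ∀ a ∈ T, a ^ p = 1) :
    ∀ x ∈ closure T, x ^ p = 1 := by
  intro x hx
  induction hx using Subgroup.closure_induction with
  | mem x hx => exact hT x hx
  | one => exact one_pow p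
  | mul x y hx hy ix iy =>
    rw [RankThree.mul_pow_prime hp2 (hN _ (h y hy x hx) x hx) (hN _ (h y hy x hx) y hy)
      (hNp _ (h y hy x hx)), ix, iy, one_mul]
  | inv x _ ix => rw [inv_pow, ix, inv_one]

/-- The common data: an elementary plane `V` inside elementary cubes normal in `L`. -/
def IsCube (p : ℕ) (L V B : Subgroup G) : Prop :=
  EA p B ∧ Nat.card B = p ^ 3 ∧ V ≤ B ∧ B ≤ L ∧ ∀ l ∈ L, ∀ y ∈ B, l * y * l⁻¹ ∈ B

theorem IsCube.comm_mem {L V B : Subgroup G} (hB : IsCube p L V B) {l b : G} (hl : l ∈ L)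
    (hb : b ∈ B) : ⁅l, b⁆ ∈ B ∧ ⁅b, l⁆ ∈ B := by
  have h : ⁅l, b⁆ ∈ B := B.mul_mem (hB.2.2.2.2 l hl b hb) (B.inv_mem hb)
  exact ⟨h, by rw [← commutatorElement_inv]; exact B.inv_mem h⟩

section Two

variable (hG : IsPGroup p G) {L V B U : Subgroup G} (hV : Nat.card V = p ^ 2)
  (hB : IsCube p L V B) (hU : IsCube p L V U) (hne : B ≠ U)
include hG hV hB

theorem cube_eq_sup {b : G} (hb : b ∈ B) (hbV : b ∉ V) : V ⊔ zpowers b = B :=
  (eq_or_eq_of_card hG le_sup_left (sup_le hB.2.2.1 (zpowers_le.2 hb))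
    (by rw [hB.2.1, hV]; ring)).resolve_left fun h => hbV (h.le (mem_sup_right (mem_zpowers b)))

theorem exists_cube_not_mem : ∃ b ∈ B, b ∉ V :=
  SetLike.exists_of_lt (lt_of_le_of_ne hB.2.2.1 fun h => by
    have h1 := hV
    rw [h, hB.2.1] at h1
    exact (pow_lt_pow_of_lt (p := p) (show 2 < 3 by norm_num)).ne' h1)

include hU hne

theorem cube_inf : B ⊓ U = V :=
  (eq_or_eq_of_card hG (le_inf hB.2.2.1 hU.2.2.1) inf_le_left
    (by rw [hB.2.1, hV]; ring)).resolve_right fun h =>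
      hne (eq_of_card_le (inf_eq_left.1 h) (by rw [hB.2.1, hU.2.1]))

/-- Coordinates of an element of `⟨b, u, c⟩` lying in `V` are divisible by `p`. -/
theorem cube_indep {b u c : G} (hb : b ∈ B) (hbV : b ∉ V) (hu : u ∈ U) (huV : u ∉ V)
    (hcp : c ^ p = 1) (hc : c ∉ B ⊔ U) (i j k : ℕ) (h : b ^ i * u ^ j * c ^ k ∈ V) :
    p ∣ i ∧ p ∣ j ∧ p ∣ k := by
  have hk : p ∣ k := by
    by_contra hk
    refine hc (Plane.mem_of_pow_mem (p := p) (k := 1) (by rw [pow_one]; exact hcp) hk ?_)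
    have h1 : c ^ k = (b ^ i * u ^ j)⁻¹ * (b ^ i * u ^ j * c ^ k) := (inv_mul_cancel_left _ _).symm
    rw [h1]
    exact mul_mem (inv_mem (mul_mem_sup (pow_mem hb i) (pow_mem hu j)))
      (mem_sup_left (hB.2.2.1 h))
  rw [RankThree.pow_prime_mul_eq_one hcp hk, mul_one] at h
  have hj : p ∣ j := by
    by_contra hj
    refine huV (Plane.mem_of_pow_mem (p := p) (k := 1) (by rw [pow_one]; exact hU.1.2 u hu) hj ?_)
    rw [← cube_inf hG hV hB hU hne]
    refine ⟨?_, pow_mem hu j⟩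
    have := B.mul_mem (B.inv_mem (pow_mem hb i)) (hB.2.2.1 h)
    rwa [inv_mul_cancel_left] at this
  rw [RankThree.pow_prime_mul_eq_one (hU.1.2 u hu) hj, mul_one] at h
  refine ⟨?_, hj, hk⟩
  by_contra hi
  exact hbV (Plane.mem_of_pow_mem (p := p) (k := 1) (by rw [pow_one]; exact hB.1.2 b hb) hi h)

/-- Two cubes generate a group of order `p ^ 4` with one commutator. -/
theorem cube_sup (hsr : Cfsg.SectionalPRankLE p 3 G) (hp2 : p ≠ 2) {b u : G} (hb : b ∈ B)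
    (hbV : b ∉ V) (hu : u ∈ U) (huV : u ∉ V) :
    ⁅b, u⁆ ∈ V ∧ ⁅b, u⁆ ≠ 1 ∧ Nat.card ↥(B ⊔ U) = p ^ 4 ∧ (∀ x ∈ B ⊔ U, x ^ p = 1) ∧
      (∀ v ∈ V, ∀ x ∈ B ⊔ U, x * v = v * x) ∧
      ∀ x ∈ B ⊔ U, ∀ y ∈ B ⊔ U, ⁅x, y⁆ ∈ zpowers ⁅b, u⁆ := by
  have hinf := cube_inf hG hV hB hU hne
  have hm : ⁅b, u⁆ ∈ V := by
    rw [← hinf]
    exact ⟨(hB.comm_mem (hU.2.2.2.1 hu) hb).2, (hU.comm_mem (hB.2.2.2.1 hb) hu).1⟩
  have hcen : ∀ v ∈ V, ∀ x ∈ B ⊔ U, x * v = v * x := by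
    intro v hv x hx
    have hle : B ⊔ U ≤ centralizer ({v} : Set G) := sup_le
      (fun y hy => mem_centralizer_singleton_iff.2 (hB.1.1 y hy v (hB.2.2.1 hv)))
      (fun y hy => mem_centralizer_singleton_iff.2 (hU.1.1 y hy v (hU.2.2.1 hv)))
    exact mem_centralizer_singleton_iff.1 (hle hx)
  have hVu : V ⊔ zpowers b ⊔ zpowers u = B ⊔ U := by
    refine le_antisymm (sup_le (sup_le (hB.2.2.1.trans le_sup_left)
      (zpowers_le.2 (mem_sup_left hb))) (zpowers_le.2 (mem_sup_right hu))) (sup_le ?_ ?_)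
    · rw [cube_eq_sup hG hV hB hb hbV]; exact le_sup_left
    · rw [← cube_eq_sup hG hV hU hu huV]
      exact sup_le (le_sup_left.trans le_sup_left) le_sup_right
  set T : Set G := (V : Set G) ∪ {b, u} with hT
  have hcl : closure T = B ⊔ U := by
    rw [hT, Subgroup.closure_union, closure_eq, ← hVu, sup_assoc,
      zpowers_eq_closure, zpowers_eq_closure, ← Subgroup.closure_union, Set.singleton_union]
  have hNc : ∀ n ∈ zpowers ⁅b, u⁆, ∀ x ∈ closure T, x * n = n * x := fun n hn x hx =>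
    hcen n (zpowers_le.2 hm hn) x (hcl ▸ hx)
  have hTc : ∀ a ∈ T, ∀ c ∈ T, ⁅a, c⁆ ∈ zpowers ⁅b, u⁆ := by
    have hbm : b ∈ B ⊔ U := mem_sup_left hb
    have hum : u ∈ B ⊔ U := mem_sup_right hu
    intro a ha c hc
    have haS : a ∈ B ⊔ U := hcl ▸ subset_closure ha
    have hcS : c ∈ B ⊔ U := hcl ▸ subset_closure hc
    rcases ha with ha | ha | ha
    · rw [comm_eq_one.2 (hcen a ha c hcS).symm]; exact one_mem _
    all_goals rcases hc with hc | hc | hc
    all_goals first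
      | (rw [comm_eq_one.2 (hcen c hc _ haS)]; exact one_mem _)
      | (subst ha; subst hc; rw [commutatorElement_self]; exact one_mem _)
      | (subst ha; subst hc; exact mem_zpowers _)
      | (subst ha; subst hc; refine inv_mem_iff.1 ?_; rw [commutatorElement_inv]; exact mem_zpowers _)
  have hall := comm_mem_closure hNc hTc
  have hexp := exp_of_closure hp2 hNc (fun n hn => hB.1.2 n (hB.2.2.1 (zpowers_le.2 hm hn))) hall
    (by
      rintro a (ha | rfl | rfl)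
      exacts [hB.1.2 a (hB.2.2.1 ha), hB.1.2 _ hb, hU.1.2 _ hu])
  rw [hcl] at hall hexp
  have hcard : Nat.card ↥(B ⊔ U) = p ^ 4 := by
    refine le_antisymm ?_ ?_
    · set L' := B ⊔ U with hL'
      haveI : (B.subgroupOf L').Normal := normal_subgroupOf_iff_le_normalizer le_sup_left |>.2
        (sup_le Subgroup.le_normalizer fun y hy =>
          mem_normalizer_fintype fun n hn => hB.2.2.2.2 y (hU.2.2.2.1 hy) n hn)
      have h1 := card_sup_le (U := B.subgroupOf L') (W := U.subgroupOf L')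
      have e1 : B.subgroupOf L' ⊔ U.subgroupOf L' = ⊤ := by
        rw [← subgroupOf_sup le_sup_left le_sup_right]; exact subgroupOf_self _
      have e2 : B.subgroupOf L' ⊓ U.subgroupOf L' = V.subgroupOf L' := by
        rw [← hinf]; exact (comap_inf _ _ _).symm
      rw [e1, e2, card_top] at h1
      rw [Nat.card_congr (subgroupOfEquivOfLe (hB.2.2.1.trans le_sup_left)).toEquiv,
        Nat.card_congr (subgroupOfEquivOfLe le_sup_left).toEquiv,
        Nat.card_congr (subgroupOfEquivOfLe le_sup_right).toEquiv, hB.2.1, hU.2.1, hV] at h1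
      refine le_of_mul_le_mul_right ?_ (pow_pos hp.out.pos 2)
      rw [h1]; exact le_of_eq (by ring)
    · have h2 := RankThree.card_mul_le_of_lt hG (show B < B ⊔ U from lt_of_le_of_ne le_sup_left
        fun h => hne (eq_of_card_le (sup_eq_left.1 h.symm) (by rw [hB.2.1, hU.2.1])).symm)
      rw [hB.2.1, ← pow_succ'] at h2
      exact h2
  refine ⟨hm, fun h1 => ?_, hcard, hexp, hcen, hall⟩
  have hEA : EA p (B ⊔ U) := ⟨fun x hx y hy => comm_eq_one.1 (by
    have h2 := hall x hx y hy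
    rwa [h1, zpowers_one_eq_bot, mem_bot] at h2), hexp⟩
  have h3 := hEA.card_le hsr
  rw [hcard] at h3
  exact absurd h3 (not_le.2 (pow_lt_pow_of_lt (by norm_num)))

/-- A third cube lies inside the join of two. -/
theorem cube_le (hsr : Cfsg.SectionalPRankLE p 3 G) (hp2 : p ≠ 2) (hVea : EA p V) {X : Subgroup G}
    (hX : IsCube p L V X) : X ≤ B ⊔ U := by
  intro c hc
  by_contra hcn
  have hXB : B ≠ X := fun h => hcn (mem_sup_left (h ▸ hc))
  have hXU : U ≠ X := fun h => hcn (mem_sup_right (h ▸ hc))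
  obtain ⟨b, hb, hbV⟩ := exists_cube_not_mem hG hV hB
  obtain ⟨u, hu, huV⟩ := exists_cube_not_mem hG hV hU
  refine triple_false hp2 hG hsr hVea hV (hB.1.2 b hb) (hU.1.2 u hu) (hX.1.2 c hc)
    (fun v hv => hB.1.1 v (hB.2.2.1 hv) b hb) (fun v hv => hU.1.1 v (hU.2.2.1 hv) u hu)
    (fun v hv => hX.1.1 v (hX.2.2.1 hv) c hc) ?_ ?_ ?_
    (cube_indep hG hV hB hU hne hb hbV hu huV (hX.1.2 c hc) hcn)
  · rw [← cube_inf hG hV hB hU hne]
    exact ⟨(hB.comm_mem (hU.2.2.2.1 hu) hb).2, (hU.comm_mem (hB.2.2.2.1 hb) hu).1⟩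
  · rw [← cube_inf hG hV hB hX hXB]
    exact ⟨(hB.comm_mem (hX.2.2.2.1 hc) hb).2, (hX.comm_mem (hB.2.2.2.1 hb) hc).1⟩
  · rw [← cube_inf hG hV hU hX hXU]
    exact ⟨(hU.comm_mem (hX.2.2.2.1 hc) hu).2, (hX.comm_mem (hU.2.2.2.1 hu) hc).1⟩

end Two

omit hp in
theorem IsCube.img {E L V B : Subgroup G} (hB : IsCube p L V B) (hLE : L = E) (a : MulAut E)
    (hinv : ∀ v ∈ V, ap a⁻¹ v ∈ V) : IsCube p L V (img a B) := by
  subst hLE
  refine ⟨hB.1.img_ea a, by rw [card_img a hB.2.2.2.1]; exact hB.2.1, fun v hv => ?_, img_le a,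
    conj_mem_img a hB.2.2.2.2⟩
  have hvL := hB.2.2.2.1 (hB.2.2.1 hv)
  rw [← ap_ap_inv a hvL]
  exact ap_mem_img a (hB.2.2.1 (hinv v hv)) (ap_mem _ hvL)

omit hp in
theorem img_cube_sup {E V B U : Subgroup G} (hB : IsCube p E V B) (hU : IsCube p E V U)
    {W : Subgroup G} (a : MulAut E) (h1 : img a B ≤ W) (h2 : img a U ≤ W) :
    img a (B ⊔ U) ≤ W := by
  rw [img_sup a hB.2.2.2.1 hU.2.2.2.1]
  exact sup_le h1 h2

end Cfsg.Lib.FusionSys.SecThree
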