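import Cfsg.Agent.Lib.FusionSys.SecThree.Frat
import Cfsg.Agent.Lib.FusionSys.SecThree.Cubes

/-!
# An invariant subgroup and the action on its Frattini quotient
-/

set_option linter.style.haveILetI false
set_option linter.unusedSectionVars false
set_option autoImplicit false

namespace Cfsg.Lib.FusionSys.SecThree

open Subgroup RankThree
open scoped commutatorElement

variable {G : Type*} [Group G] [Finite G] {p : ℕ} [hp : Fact p.Prime]

namespace Pre

variable (P : Pre p G) {E T : Subgroup G}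

/-- A normal `p`-group of automorphisms contains no outer conjugation. -/
theorem radical_false (hE : E ∈ P.ess) {g : G} (hg : g ∉ E) {α : MulAut E}
    (hα : ∀ x ∈ E, ap α x = g * x * g⁻¹) {N : Subgroup (MulAut E)} (hN : N ≤ P.aut E)
    (hNn : ∀ a ∈ P.aut E, ∀ n ∈ N, a * n * a⁻¹ ∈ N) (hNp : IsPGroup p N) (hαN : α ∈ N) : False :=
  hg (P.conj_eq_of_mem hE (P.radical E hE N hN hNn hNp hαN) hα)

theorem exists_outer (hE : E ∈ P.ess) : ∃ g, g ∉ E := by
  by_contra h
  push Not at h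
  have h1 : E.index = 1 := index_eq_one.2 ((eq_top_iff' E).2 h)
  rw [P.index_eq E hE] at h1
  exact hp.out.ne_one h1

/-- A normal subgroup `T` inside an essential `E`, invariant under the automorphisms of `E`. -/
structure Inv (E T : Subgroup G) : Prop where
  ess : E ∈ P.ess
  normal : T.Normal
  le : T ≤ E
  inv : ∀ a ∈ P.aut E, ∀ t ∈ T, ap a t ∈ T

/-- The automorphisms of `E` agreeing modulo `T` with a conjugation. -/
def conjMod (E T : Subgroup G) : Subgroup (MulAut E) :=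
  inner E ⊤ ⊔ (P.aut E ⊓ moves E E T le_rfl)

/-- The commutator map of an element on the Frattini quotient of `T`. -/
noncomputable def disp (hG : IsPGroup p G) (T : Subgroup G) [T.Normal] (e : G) :
    T →* G ⧸ frattiniIn T :=
  MonoidHom.mk' (fun t => QuotientGroup.mk' _ ⁅e, (t : G)⁆) fun s t => by
    have hst : ⁅e, (t : G)⁆ ∈ T := by
      rw [commutatorElement_def]
      exact mul_mem ((inferInstance : T.Normal).conj_mem _ t.2 e) (inv_mem t.2)
    show QuotientGroup.mk' _ ⁅e, (s : G) * t⁆ = _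
    rw [commutatorElement_mul_right_eq_mul_conj]
    have h : QuotientGroup.mk' (frattiniIn T) ⁅(s : G), ⁅e, (t : G)⁆⁆ = 1 :=
      (QuotientGroup.eq_one_iff _).2 (comm_mem_frattiniIn hG s.2 hst)
    rw [map_commutatorElement, commutatorElement_eq_one_iff_mul_comm] at h
    simp only [map_mul, map_inv]
    rw [mul_assoc (QuotientGroup.mk' (frattiniIn T) ⁅e, (s : G)⁆), h, mul_assoc, mul_inv_cancel_right]

variable {P} (I : P.Inv E T)
include I

theorem Inv.moves_normal {a : MulAut E} (ha : a ∈ P.aut E) {k : MulAut E}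
    (hk : k ∈ P.aut E ⊓ moves E E T le_rfl) : a * k * a⁻¹ ∈ P.aut E ⊓ moves E E T le_rfl :=
  ⟨mul_mem (mul_mem ha hk.1) ((P.aut E).inv_mem ha),
    moves_conj a (fun t ht _ => I.inv a ha t ht) (fun t ht _ => I.inv _ (inv_mem ha) t ht)
      (fun _ hx => ap_mem _ hx) hk.2⟩

theorem Inv.conjMod_le : P.conjMod E T ≤ P.aut E := sup_le (P.conj_mem E I.ess) inf_le_left

theorem Inv.exists_of_mem {a : MulAut E} (ha : a ∈ P.conjMod E T) :
    ∃ i ∈ inner E ⊤, ∃ k ∈ P.aut E ⊓ moves E E T le_rfl, a = i * k := by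
  haveI := finite_mulAut E
  rw [conjMod, ← SetLike.mem_coe, Subgroup.coe_mul_of_left_le_normalizer_right] at ha
  · obtain ⟨i, hi, k, hk, rfl⟩ := Set.mem_mul.1 ha
    exact ⟨i, hi, k, hk, rfl⟩
  · exact fun i hi => mem_normalizer_fintype fun k hk => I.moves_normal (P.conj_mem E I.ess hi) hk

/-- An element of `conjMod` is a conjugation modulo `T`. -/
theorem Inv.exists_conjMod {a : MulAut E} (ha : a ∈ P.conjMod E T) :
    ∃ h : G, ∀ e ∈ E, (h * e * h⁻¹)⁻¹ * ap a e ∈ T := by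
  obtain ⟨i, ⟨h, -, hi⟩, k, hk, rfl⟩ := I.exists_of_mem ha
  refine ⟨h, fun e he => ?_⟩
  rw [ap_mul_apply _ _ he, hi _ (ap_mem k he)]
  haveI := I.normal
  have h1 : e⁻¹ * ap k e ∈ T := by
    have h2 := Normal.conj_mem inferInstance _ (hk.2.2 e he) e⁻¹
    simpa [mul_assoc] using h2
  have h3 := Normal.conj_mem inferInstance _ h1 h
  convert h3 using 1
  group

theorem Inv.mem_conjMod {a : MulAut E} (ha : a ∈ P.aut E) {h : G}
    (he : ∀ e ∈ E, (h * e * h⁻¹)⁻¹ * ap a e ∈ T) : a ∈ P.conjMod E T := by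
  obtain ⟨i, hiA, hiI, hi⟩ := P.exists_conj I.ess h
  rw [show a = i * (i⁻¹ * a) by group]
  refine mul_mem_sup hiI ⟨mul_mem ((P.aut E).inv_mem hiA) ha,
    fun t ht _ => I.inv _ (mul_mem (inv_mem hiA) ha) t ht, fun e he' => ?_⟩
  haveI := I.normal
  haveI := P.normal E I.ess
  have hhe : h * e * h⁻¹ ∈ E := Normal.conj_mem inferInstance e he' h
  have h1 : ap i⁻¹ (h * e * h⁻¹) = e := by rw [← hi e he', ap_inv_ap i he']
  have h2 := I.inv i⁻¹ (inv_mem hiA) _ (he e he')
  rw [ap_map_mul _ (E.inv_mem hhe) (ap_mem a he'), ap_map_inv _ hhe, h1,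
    ← ap_mul_apply _ _ he'] at h2
  simpa [mul_assoc] using Normal.conj_mem inferInstance _ h2 e

/-- A power of an element of `conjMod` moves `E` into `T`. -/
theorem Inv.pow_moves {a : MulAut E} (ha : a ∈ P.conjMod E T) :
    ∃ n : ℕ, a ^ p ^ n ∈ moves E E T le_rfl := by
  obtain ⟨i, hi, k, hk, rfl⟩ := I.exists_of_mem ha
  have key : ∀ n : ℕ, ∃ k' ∈ P.aut E ⊓ moves E E T le_rfl, (i * k) ^ n = i ^ n * k' := by
    intro n
    induction n with
    | zero => exact ⟨1, one_mem _, by simp⟩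
    | succ n ih =>
      obtain ⟨k', hk', he⟩ := ih
      refine ⟨i⁻¹ * k' * i⁻¹⁻¹ * k,
        mul_mem (I.moves_normal (inv_mem (P.conj_mem E I.ess hi)) hk') hk, ?_⟩
      rw [pow_succ, he, pow_succ]
      group
  obtain ⟨n, hn⟩ := P.isPGroup_inner I.ess ⟨i, hi⟩
  obtain ⟨k', hk', he⟩ := key (p ^ n)
  refine ⟨n, ?_⟩
  rw [he, show i ^ p ^ n = 1 from congrArg Subtype.val hn, one_mul]
  exact hk'.2

theorem Inv.inner_le : inner E ⊤ ≤ P.conjMod E T := le_sup_left

/-- Normality of `conjMod` reduces to one outer conjugation. -/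
theorem Inv.conjMod_normal {g : G} (hg : g ∉ E) {α : MulAut E}
    (hα : ∀ x ∈ E, ap α x = g * x * g⁻¹) (h : ∀ a ∈ P.aut E, a * α * a⁻¹ ∈ P.conjMod E T) :
    ∀ a ∈ P.aut E, ∀ k ∈ P.conjMod E T, a * k * a⁻¹ ∈ P.conjMod E T := by
  intro a ha k hk
  have hle : P.conjMod E T ≤ (P.conjMod E T).comap (MulAut.conj a).toMonoidHom := by
    refine sup_le ((P.inner_le_sup I.ess hg hα (mem_zpowers α)).trans (sup_le (zpowers_le.2 (h a ha))
      fun n hn => ?_)) fun n hn => mem_sup_right (I.moves_normal ha hn)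
    exact I.inner_le (inner_mono le_top (P.inner_normalized I.ess a n hn))
  exact hle hk

/-- Invariance of the set of elements trivial on the Frattini quotient. -/
theorem Inv.ap_centM [T.Normal] {a : MulAut E} (ha : a ∈ P.aut E) {e : G} (he : e ∈ E)
    (hc : e ∈ centM T) : ap a e ∈ centM T :=
  SecThree.ap_centM P.isP I.le (I.inv a ha) (I.inv _ (inv_mem ha)) he hc

/-- A normal group of automorphisms, `p`-like modulo `T`, fixes no flag of the Frattini quotient. -/
theorem Inv.flag_false {K : Subgroup (MulAut E)} (hK : K ≤ P.aut E)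
    (hKn : ∀ a ∈ P.aut E, ∀ k ∈ K, a * k * a⁻¹ ∈ K)
    (hKp : ∀ a ∈ K, ∃ n : ℕ, a ^ p ^ n ∈ moves E E T le_rfl) (hRK : inner E ⊤ ≤ K)
    (L₁ L₂ : Subgroup G) [L₁.Normal] [L₂.Normal] [T.Normal] (h0 : frattiniIn T ≤ L₁) (h1 : L₁ ≤ L₂)
    (h2 : L₂ ≤ T) (hc1 : Nat.card L₁ ≤ p * Nat.card (frattiniIn T))
    (hc2 : Nat.card L₂ ≤ p * Nat.card L₁) (hc3 : Nat.card T ≤ p * Nat.card L₂)
    (hL1 : ∀ a ∈ K, ∀ x ∈ L₁, ap a x ∈ L₁) (hL2 : ∀ a ∈ K, ∀ x ∈ L₂, ap a x ∈ L₂) : False := by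
  have hG := P.isP
  have hTE := I.le
  have hPT := frattiniIn_le T
  set K1 := K ⊓ (moves E L₁ (frattiniIn T) ((h1.trans h2).trans hTE) ⊓
    moves E L₂ L₁ (h2.trans hTE) ⊓ moves E T L₂ hTE) with hK1
  have hmem : ∀ a ∈ K, (∃ k : ℕ, a ^ p ^ k = 1) → a ∈ K1 := fun a ha hp' =>
    ⟨ha, ⟨moves_of_step hG h0 _ hc1 (fun x hx => ap_phi hG hTE (I.inv a (hK ha)) hx) (hL1 a ha) hp',
      moves_of_step hG h1 _ hc2 (hL1 a ha) (hL2 a ha) hp'⟩,
      moves_of_step hG h2 _ hc3 (hL2 a ha) (I.inv a (hK ha)) hp'⟩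
  have hK1p : IsPGroup p K1 := by
    obtain ⟨N, hN⟩ := exists_pow_card (p := p) hG
    rintro ⟨a, haK, ⟨h01, h12⟩, h2T⟩
    obtain ⟨n, hn⟩ := hKp a haK
    -- two steps of exponent `p`
    have step : ∀ (b : MulAut E) (A B C : Subgroup G) [A.Normal] (hBC : B ≤ C) (hC : C ≤ E)
        (_ : frattiniIn T ≤ A) (_ : B ≤ T), b ∈ moves E B A (hBC.trans hC) → b ∈ moves E C B hC →
        b ^ p ∈ moves E C A hC := by
      intro b A B C _ hBC hC hPA hBT hb0 hb1
      refine ⟨(Subgroup.pow_mem _ hb0 p).1, fun x hx => ?_⟩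
      have hxE : x ∈ E := hC hx
      set π := QuotientGroup.mk' A
      have hfix : ∀ y ∈ B, π (ap b y) = π y := fun y hy => by
        rw [← mul_inv_eq_one, ← map_inv, ← map_mul]
        exact (QuotientGroup.eq_one_iff _).2 (hb0.2 y hy)
      set d := ap b x * x⁻¹ with hd
      have hdB : d ∈ B := hb1.2 x hx
      have hdE : d ∈ E := E.mul_mem (ap_mem b hxE) (E.inv_mem hxE)
      have key : ∀ m : ℕ, π (ap (b ^ m) x) = π d ^ m * π x := by
        intro m
        induction m with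
        | zero => rw [pow_zero, pow_zero, ap_one_apply, one_mul]
        | succ m ih =>
          have hy : (d ^ m * x)⁻¹ * ap (b ^ m) x ∈ A := by
            rw [← QuotientGroup.eq_one_iff]
            show π _ = 1
            rw [map_mul, map_inv, map_mul, map_pow, ih, inv_mul_cancel]
          have h3 : π (ap b ((d ^ m * x)⁻¹ * ap (b ^ m) x)) = 1 :=
            (QuotientGroup.eq_one_iff _).2 (hb0.1 _ hy
              (E.mul_mem (E.inv_mem (E.mul_mem (E.pow_mem hdE m) hxE)) (ap_mem _ hxE)))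
          rw [ap_map_mul b (E.inv_mem (E.mul_mem (E.pow_mem hdE m) hxE)) (ap_mem _ hxE),
            ap_map_inv b (E.mul_mem (E.pow_mem hdE m) hxE), ap_map_mul b (E.pow_mem hdE m) hxE,
            ap_map_pow b hdE, map_mul, map_inv, map_mul, map_pow, inv_mul_eq_one] at h3
          have hbx : ap b x = d * x := by rw [hd, inv_mul_cancel_right]
          rw [pow_succ', ap_mul_apply _ _ hxE, ← h3, hfix d hdB, hbx]
          clear_value d
          rw [map_mul, ← mul_assoc, pow_succ]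
      refine (QuotientGroup.eq_one_iff _).1 ?_
      show π (ap (b ^ p) x * x⁻¹) = 1
      rw [map_mul, map_inv, key, mul_inv_cancel_right, ← map_pow]
      exact (QuotientGroup.eq_one_iff _).2 (hPA (pow_mem_frattiniIn hG (hBT hdB)))
    have h02 : a ^ p ∈ moves E L₂ (frattiniIn T) (h2.trans hTE) :=
      step a _ L₁ L₂ h1 _ le_rfl (h1.trans h2) h01 h12
    have h03 : (a ^ p) ^ p ∈ moves E T (frattiniIn T) hTE :=
      step (a ^ p) _ L₂ T h2 _ le_rfl h2 h02 (pow_mem h2T p)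
    have hb : ((a ^ p) ^ p) ^ p ^ n ∈ moves E E T le_rfl := by
      rw [← pow_mul, ← pow_mul, show p * (p * p ^ n) = p ^ n * (p * p) by ring, pow_mul]
      exact pow_mem hn _
    obtain ⟨m, hm⟩ := fix_of_moves_phi hG hTE (I.inv _ (pow_mem (pow_mem (pow_mem (hK haK) _) _) _))
      (pow_mem h03 (p ^ n))
    refine ⟨1 + 1 + n + m + N, Subtype.ext (ap_ext _ _ fun x hx => ?_)⟩
    rw [SubmonoidClass.coe_pow, OneMemClass.coe_one, ap_one_apply, pow_add, pow_add, pow_add,
      pow_add, pow_one, pow_mul, pow_mul, pow_mul, pow_mul]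
    exact fix_step le_rfl (fun t ht _ => hm t ht) (stab_pow le_rfl hb.1 hb.2 _) _ (fun t _ => hN t) x hx
  obtain ⟨g, hg⟩ := P.exists_outer I.ess
  obtain ⟨α, -, hαI, hα⟩ := P.exists_conj I.ess g
  refine P.radical_false I.ess hg hα (inf_le_left.trans hK) (fun a ha n hn => ?_) hK1p ?_
  · obtain ⟨k, hk⟩ := hK1p ⟨n, hn⟩
    refine hmem _ (hKn a ha n hn.1) ⟨k, ?_⟩
    rw [conj_pow, show n ^ p ^ k = 1 from congrArg Subtype.val hk, mul_one, mul_inv_cancel]
  · obtain ⟨k, hk⟩ := P.isPGroup_inner I.ess ⟨α, hαI⟩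
    exact hmem α (hRK hαI) ⟨k, congrArg Subtype.val hk⟩

/-- In a degenerate situation `E` acts trivially on the Frattini quotient of `T`. -/
theorem Inv.le_centM [T.Normal] (hdeg : ∀ a ∈ P.aut E, ∀ k ∈ P.conjMod E T, a * k * a⁻¹ ∈ P.conjMod E T) :
    E ≤ centM T := by
  have hG := P.isP
  haveI := P.normal E I.ess
  by_contra hnle
  have hlt : E ⊓ centM T < E := lt_of_le_of_ne inf_le_left fun h => hnle (inf_eq_left.1 h)
  haveI : (E ⊓ centM T).Normal := Subgroup.normal_inf_normal E (centM T)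
  obtain ⟨e, heE, heN, -, hec⟩ := exists_central_between hG hlt
  have hec' : ∀ g : G, ⁅g, e⁆ ∈ centM T := fun g => (hec g).2
  have heC : e ∉ centM T := fun h => heN ⟨heE, h⟩
  set Φ := frattiniIn T with hΦ
  set π := QuotientGroup.mk' Φ with hπ
  have hπ1 : ∀ y, π y = 1 ↔ y ∈ Φ := fun y => QuotientGroup.eq_one_iff y
  set f := disp hG T e with hf
  have hfval : ∀ t : T, f t = π ⁅e, (t : G)⁆ := fun t => rfl
  have hst : ∀ t ∈ T, ⁅e, t⁆ ∈ T := fun t ht => by
    rw [commutatorElement_def]; exact mul_mem (I.normal.conj_mem _ ht e) (inv_mem ht)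
  set C : Subgroup G := f.ker.map T.subtype with hC
  have hCmem : ∀ t : G, t ∈ C ↔ t ∈ T ∧ ⁅e, t⁆ ∈ Φ := fun t => by
    rw [hC]
    constructor
    · rintro ⟨s, hs, rfl⟩; exact ⟨s.2, (hπ1 _).1 hs⟩
    · rintro ⟨ht, h⟩; exact ⟨⟨t, ht⟩, (hπ1 _).2 h, rfl⟩
  set J : Subgroup G := f.range.comap π with hJ
  have hJmem : ∀ y : G, y ∈ J ↔ ∃ t ∈ T, ⁅e, t⁆⁻¹ * y ∈ Φ := fun y => by
    rw [hJ, mem_comap, MonoidHom.mem_range]
    constructor
    · rintro ⟨t, ht⟩
      refine ⟨t, t.2, (hπ1 _).1 ?_⟩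
      rw [map_mul, map_inv, ← ht, hfval, inv_mul_cancel]
    · rintro ⟨t, ht, h⟩
      refine ⟨⟨t, ht⟩, ?_⟩
      rw [hfval, ← inv_mul_eq_one, ← map_inv, ← map_mul]
      exact (hπ1 _).2 h
  have hPJ : Φ ≤ J := fun y hy => (hJmem y).2 ⟨1, one_mem T, by
    rw [commutatorElement_one_right, inv_one, one_mul]; exact hy⟩
  have hJT : J ≤ T := fun y hy => by
    obtain ⟨t, ht, h⟩ := (hJmem y).1 hy
    have h2 := mul_mem (hst t ht) (frattiniIn_le T h)
    rwa [mul_inv_cancel_left] at h2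
  have hPC : Φ ≤ C := fun y hy => (hCmem y).2 ⟨frattiniIn_le T hy, by
    rw [commutatorElement_def]
    exact mul_mem ((inferInstance : Φ.Normal).conj_mem _ hy e) (inv_mem hy)⟩
  have hCT : C ≤ T := fun y hy => ((hCmem y).1 hy).1
  -- conjugation and the automorphisms in `conjMod` permute `C` and `J`
  have hconj : ∀ g : G, ∀ t ∈ T, (g * ⁅e, t⁆ * g⁻¹)⁻¹ * ⁅e, g * t * g⁻¹⁆ ∈ Φ := fun g t ht => by
    rw [conj_comm]
    refine comm_congr ?_ (I.normal.conj_mem _ ht g)
    have h := (inferInstance : (centM T).Normal).conj_mem _ (inv_mem (hec' g)) e⁻¹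
    convert h using 1
    rw [commutatorElement_def]
    group
  haveI hCn : C.Normal := ⟨fun t ht g => by
    obtain ⟨htT, hte⟩ := (hCmem t).1 ht
    refine (hCmem _).2 ⟨I.normal.conj_mem _ htT g, ?_⟩
    have h := mul_mem ((inferInstance : Φ.Normal).conj_mem _ hte g) (hconj g t htT)
    rwa [mul_inv_cancel_left] at h⟩
  haveI hJn : J.Normal := ⟨fun y hy g => by
    obtain ⟨t, ht, h⟩ := (hJmem y).1 hy
    refine (hJmem _).2 ⟨g * t * g⁻¹, I.normal.conj_mem _ ht g, ?_⟩
    have h2 := mul_mem (inv_mem (hconj g t ht)) ((inferInstance : Φ.Normal).conj_mem _ h g)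
    convert h2 using 1
    group⟩
  have hK : ∀ a ∈ P.conjMod E T, ∀ t ∈ T, (ap a ⁅e, t⁆)⁻¹ * ⁅e, ap a t⁆ ∈ Φ := fun a ha t ht => by
    rw [comm_map a heE (I.le ht)]
    refine comm_congr ?_ (I.inv a (I.conjMod_le ha) t ht)
    obtain ⟨h, hh⟩ := I.exists_conjMod ha
    have h1 := SecThree.le_centM hG T (inv_mem (hh e heE))
    have h2 := (inferInstance : (centM T).Normal).conj_mem _ (inv_mem (hec' h)) e⁻¹
    have h3 := mul_mem h1 h2
    convert h3 using 1
    rw [commutatorElement_def]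
    group
  have hKC : ∀ a ∈ P.conjMod E T, ∀ y ∈ C, ap a y ∈ C := fun a ha y hy => by
    obtain ⟨hyT, hye⟩ := (hCmem y).1 hy
    refine (hCmem _).2 ⟨I.inv a (I.conjMod_le ha) y hyT, ?_⟩
    have h := mul_mem (ap_phi hG I.le (I.inv a (I.conjMod_le ha)) hye) (hK a ha y hyT)
    rwa [mul_inv_cancel_left] at h
  have hKJ : ∀ a ∈ P.conjMod E T, ∀ y ∈ J, ap a y ∈ J := fun a ha y hy => by
    obtain ⟨t, ht, h⟩ := (hJmem y).1 hy
    refine (hJmem _).2 ⟨ap a t, I.inv a (I.conjMod_le ha) t ht, ?_⟩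
    have h2 := mul_mem (inv_mem (hK a ha t ht)) (ap_phi hG I.le (I.inv a (I.conjMod_le ha)) h)
    rw [ap_map_mul a (E.inv_mem (I.le (hst t ht))) (I.le (hJT hy)), ap_map_inv a (I.le (hst t ht))] at h2
    convert h2 using 1
    group
  -- counting
  have hcard : Nat.card T * Nat.card Φ = Nat.card C * Nat.card J := by
    have h1 : Nat.card C = Nat.card f.ker := card_map_of_injective T.subtype_injective
    have h2 : Nat.card J = Nat.card f.range * Nat.card Φ := by
      have h4 := Subgroup.card_mul_index ((π.domRestrict J).ker)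
      rw [Subgroup.index_ker, MonoidHom.domRestrict_range, hJ,
        map_comap_eq_self_of_surjective (QuotientGroup.mk'_surjective Φ), ← hJ,
        MonoidHom.ker_domRestrict, hπ, QuotientGroup.ker_mk',
        Nat.card_congr (subgroupOfEquivOfLe hPJ).toEquiv] at h4
      rw [mul_comm]
      exact h4.symm
    rw [h1, h2, ← mul_assoc, ← Subgroup.card_mul_index f.ker, Subgroup.index_ker]
  have hPJ' : Φ < J := lt_of_le_of_ne hPJ fun h => heC fun t ht => h.ge ((hJmem _).2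
    ⟨t, ht, by rw [inv_mul_cancel]; exact one_mem _⟩)
  -- a fixed element of the image lies in the kernel
  obtain ⟨w, hwJ, hwP, -, hwc⟩ := exists_central_between hG hPJ'
  have hwC : w ∈ C := (hCmem w).2 ⟨hJT hwJ, hwc e⟩
  have hPC' : Φ < C := lt_of_le_of_ne hPC fun h => hwP (h.ge hwC)
  have hJT' : Nat.card J < Nat.card T := by
    by_contra hge
    push Not at hge
    have h1 := Nat.mul_le_mul_left (Nat.card C) hge
    rw [← hcard] at h1
    have h2 := card_mul_le_of_lt hG hPC'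
    have h3 := hp.out.two_le
    have h4 : 0 < Nat.card Φ := Nat.card_pos
    have h5 : 0 < Nat.card T := Nat.card_pos
    have h6 := Nat.mul_le_mul_left (Nat.card T) h2
    have h7 : 0 < Nat.card T * Nat.card Φ := Nat.mul_pos h5 h4
    nlinarith
  obtain ⟨a, ha⟩ := IsPGroup.iff_card.mp (hG.to_subgroup Φ)
  obtain ⟨b, hb⟩ := IsPGroup.iff_card.mp (hG.to_subgroup J)
  obtain ⟨c, hc⟩ := IsPGroup.iff_card.mp (hG.to_subgroup C)
  obtain ⟨d, hd⟩ := IsPGroup.iff_card.mp (hG.to_subgroup T)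
  have h1 := card_mul_le_of_lt hG hPJ'
  have h2 := card_mul_le_of_lt hG hPC'
  have h3 := card_le_phi hG P.sec T
  rw [← hΦ] at h3
  rw [ha, hd] at hcard h3
  rw [hb, hc, ← pow_add, ← pow_add] at hcard
  rw [ha, hb, ← pow_succ'] at h1
  rw [ha, hc, ← pow_succ'] at h2
  rw [hb, hd] at hJT'
  rw [← pow_add] at h3
  have e1 := Nat.pow_right_injective hp.out.two_le hcard
  have e2 := (Nat.pow_le_pow_iff_right hp.out.one_lt).1 h1
  have e3 := (Nat.pow_le_pow_iff_right hp.out.one_lt).1 h2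
  have e4 := (Nat.pow_le_pow_iff_right hp.out.one_lt).1 h3
  have e5 := (Nat.pow_lt_pow_iff_right hp.out.one_lt).1 hJT'
  have hle : ∀ {U W : Subgroup G} {u v : ℕ}, Nat.card U = p ^ u → Nat.card W = p ^ v → v ≤ u + 1 →
      Nat.card W ≤ p * Nat.card U := fun hU hW h => by
    rw [hU, hW, ← pow_succ']
    exact Nat.pow_le_pow_right hp.out.pos h
  -- the smaller one lies in the larger one
  have hcomp : J ≤ C ∨ C ≤ J := by
    by_contra hnot
    push Not at hnot
    obtain ⟨m, hm⟩ := IsPGroup.iff_card.mp (hG.to_subgroup (J ⊓ C))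
    have hlt : Φ < J ⊓ C := lt_of_le_of_ne (le_inf hPJ hPC) fun h => hwP (h.ge ⟨hwJ, hwC⟩)
    have h4 := card_mul_le_of_lt hG hlt
    have h5 := card_mul_le_of_lt hG (lt_of_le_of_ne (inf_le_left : J ⊓ C ≤ J) fun h =>
      hnot.1 (inf_eq_left.1 h))
    have h6 := card_mul_le_of_lt hG (lt_of_le_of_ne (inf_le_right : J ⊓ C ≤ C) fun h =>
      hnot.2 (inf_eq_right.1 h))
    rw [ha, hm, ← pow_succ'] at h4
    rw [hm, hb, ← pow_succ'] at h5
    rw [hm, hc, ← pow_succ'] at h6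
    have e6 := (Nat.pow_le_pow_iff_right hp.out.one_lt).1 h4
    have e7 := (Nat.pow_le_pow_iff_right hp.out.one_lt).1 h5
    have e8 := (Nat.pow_le_pow_iff_right hp.out.one_lt).1 h6
    omega
  rcases hcomp with h | h
  · have hbc : b ≤ c := by
      have h7 := card_le_of_le h
      rw [hb, hc] at h7
      exact (Nat.pow_le_pow_iff_right hp.out.one_lt).1 h7
    exact I.flag_false I.conjMod_le hdeg (fun a ha => I.pow_moves ha) I.inner_le J C hPJ h hCT
      (hle ha hb (by omega)) (hle hb hc (by omega)) (hle hc hd (by omega)) hKJ hKC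
  · have hbc : c ≤ b := by
      have h7 := card_le_of_le h
      rw [hb, hc] at h7
      exact (Nat.pow_le_pow_iff_right hp.out.one_lt).1 h7
    exact I.flag_false I.conjMod_le hdeg (fun a ha => I.pow_moves ha) I.inner_le C J hPC h hJT
      (hle ha hc (by omega)) (hle hc hb (by omega)) (hle hb hd (by omega)) hKC hKJ

/-- Some element acts nontrivially on the Frattini quotient of `T`. -/
theorem Inv.exists_not_centM [T.Normal]
    (hdeg : ∀ a ∈ P.aut E, ∀ k ∈ P.conjMod E T, a * k * a⁻¹ ∈ P.conjMod E T) :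
    ∃ g : G, g ∉ centM T := by
  by_contra h
  push Not at h
  set K := P.conjMod E T ⊓ moves E T (frattiniIn T) I.le with hK
  obtain ⟨g, hg⟩ := P.exists_outer I.ess
  obtain ⟨α, hαA, hαI, hα⟩ := P.exists_conj I.ess g
  refine P.radical_false I.ess hg hα (inf_le_left.trans I.conjMod_le : K ≤ _) (fun a ha n hn => ?_)
    (isPGroup_bottom P.isP I.le (fun a ha => I.inv a (I.conjMod_le ha.1)) inf_le_right
      fun a ha => I.pow_moves ha.1) ?_
  · exact ⟨hdeg a ha n hn.1, moves_conj a (fun x hx _ => ap_phi P.isP I.le (I.inv a ha) hx)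
      (fun x hx _ => ap_phi P.isP I.le (I.inv _ (inv_mem ha)) hx) (fun x hx => I.inv _ (inv_mem ha) x hx)
      hn.2⟩
  · refine ⟨I.inner_le hαI, fun x hx _ => ap_phi P.isP I.le (I.inv α hαA) hx, fun t ht => ?_⟩
    rw [hα t (I.le ht), ← commutatorElement_def]
    exact h g t ht

end Pre

end Cfsg.Lib.FusionSys.SecThree
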