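import Cfsg.Agent.Lib.FusionSys.SecThree.CardM

/-!
# Image and kernel of one element on the Frattini quotient of a normal subgroup
-/

set_option linter.style.haveILetI false
set_option linter.unusedSectionVars false
set_option autoImplicit false

namespace Cfsg.Lib.FusionSys.SecThree

open Subgroup RankThree
open scoped commutatorElement

variable {G : Type*} [Group G] [Finite G] {p : ℕ} [hp : Fact p.Prime]

/-- The image of `t ↦ ⁅e, t⁆` on `T`, above the Frattini subgroup. -/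
noncomputable def dispImg (hG : IsPGroup p G) (T : Subgroup G) [T.Normal] (e : G) : Subgroup G :=
  (Pre.disp hG T e).range.comap (QuotientGroup.mk' (frattiniIn T))

/-- The kernel of `t ↦ ⁅e, t⁆` on the Frattini quotient of `T`. -/
noncomputable def dispKer (hG : IsPGroup p G) (T : Subgroup G) [T.Normal] (e : G) : Subgroup G :=
  (Pre.disp hG T e).ker.map T.subtype

variable (hG : IsPGroup p G) {T : Subgroup G} [T.Normal] {e : G}

theorem disp_apply (t : T) :
    Pre.disp hG T e t = QuotientGroup.mk' (frattiniIn T) ⁅e, (t : G)⁆ := rfl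

theorem mem_dispKer {t : G} : t ∈ dispKer hG T e ↔ t ∈ T ∧ ⁅e, t⁆ ∈ frattiniIn T := by
  constructor
  · rintro ⟨s, hs, rfl⟩
    exact ⟨s.2, (QuotientGroup.eq_one_iff _).1 hs⟩
  · rintro ⟨ht, h⟩
    exact ⟨⟨t, ht⟩, (QuotientGroup.eq_one_iff _).2 h, rfl⟩

theorem mem_dispImg {y : G} :
    y ∈ dispImg hG T e ↔ ∃ t ∈ T, ⁅e, t⁆⁻¹ * y ∈ frattiniIn T := by
  rw [dispImg, mem_comap, MonoidHom.mem_range]
  constructor
  · rintro ⟨t, ht⟩
    refine ⟨t, t.2, QuotientGroup.eq.1 ?_⟩
    exact ht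
  · rintro ⟨t, ht, h⟩
    exact ⟨⟨t, ht⟩, QuotientGroup.eq.2 h⟩

theorem comm_mem_T (e : G) {t : G} (ht : t ∈ T) : ⁅e, t⁆ ∈ T := by
  rw [commutatorElement_def]
  exact mul_mem ((inferInstance : T.Normal).conj_mem _ ht e) (inv_mem ht)

theorem comm_mem_dispImg {t : G} (ht : t ∈ T) : ⁅e, t⁆ ∈ dispImg hG T e :=
  (mem_dispImg hG).2 ⟨t, ht, by rw [inv_mul_cancel]; exact one_mem _⟩

theorem phi_le_dispImg : frattiniIn T ≤ dispImg hG T e := fun y hy => (mem_dispImg hG).2 ⟨1, one_mem T,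
  by rw [commutatorElement_one_right, inv_one, one_mul]; exact hy⟩

theorem dispImg_le : dispImg hG T e ≤ T := fun y hy => by
  obtain ⟨t, ht, h⟩ := (mem_dispImg hG).1 hy
  have h2 := mul_mem (comm_mem_T e ht) (frattiniIn_le T h)
  rwa [mul_inv_cancel_left] at h2

theorem phi_le_dispKer : frattiniIn T ≤ dispKer hG T e := fun y hy =>
  (mem_dispKer hG).2 ⟨frattiniIn_le T hy, by
    rw [commutatorElement_def]
    exact mul_mem ((inferInstance : (frattiniIn T).Normal).conj_mem _ hy e) (inv_mem hy)⟩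

theorem dispKer_le : dispKer hG T e ≤ T := fun _ hy => ((mem_dispKer hG).1 hy).1

theorem card_disp : Nat.card (dispKer hG T e) * Nat.card (dispImg hG T e) =
    Nat.card T * Nat.card (frattiniIn T) := by
  set π := QuotientGroup.mk' (frattiniIn T) with hπ
  set f := Pre.disp hG T e with hf
  have h1 : Nat.card (dispKer hG T e) = Nat.card f.ker := card_map_of_injective T.subtype_injective
  have h2 : Nat.card (dispImg hG T e) = Nat.card f.range * Nat.card (frattiniIn T) := by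
    rw [← card_map_mk (frattiniIn T) (dispImg hG T e) (phi_le_dispImg hG), dispImg,
      map_comap_eq_self_of_surjective (QuotientGroup.mk'_surjective _)]
  rw [h1, h2, ← mul_assoc, ← Subgroup.card_mul_index f.ker, Subgroup.index_ker]

variable (hec : ∀ g : G, ⁅g, e⁆ ∈ centM T)
include hec

theorem conj_disp (g : G) {t : G} (ht : t ∈ T) :
    (g * ⁅e, t⁆ * g⁻¹)⁻¹ * ⁅e, g * t * g⁻¹⁆ ∈ frattiniIn T := by
  rw [conj_comm]
  refine comm_congr ?_ ((inferInstance : T.Normal).conj_mem _ ht g)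
  have h := (inferInstance : (centM T).Normal).conj_mem _ (inv_mem (hec g)) e⁻¹
  convert h using 1
  rw [commutatorElement_def]
  group

theorem dispKer_normal : (dispKer hG T e).Normal := ⟨fun t ht g => by
  obtain ⟨htT, hte⟩ := (mem_dispKer hG).1 ht
  refine (mem_dispKer hG).2 ⟨(inferInstance : T.Normal).conj_mem _ htT g, ?_⟩
  have h := mul_mem ((inferInstance : (frattiniIn T).Normal).conj_mem _ hte g) (conj_disp hec g htT)
  rwa [mul_inv_cancel_left] at h⟩

theorem dispImg_normal : (dispImg hG T e).Normal := ⟨fun y hy g => by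
  obtain ⟨t, ht, h⟩ := (mem_dispImg hG).1 hy
  refine (mem_dispImg hG).2 ⟨g * t * g⁻¹, (inferInstance : T.Normal).conj_mem _ ht g, ?_⟩
  have h2 := mul_mem (inv_mem (conj_disp hec g ht))
    ((inferInstance : (frattiniIn T).Normal).conj_mem _ h g)
  convert h2 using 1
  group⟩

omit hec in
theorem phi_lt_dispImg (he : e ∉ centM T) : frattiniIn T < dispImg hG T e :=
  lt_of_le_of_ne (phi_le_dispImg hG) fun h => he fun _ ht => h.ge (comm_mem_dispImg hG ht)

/-- The image and the kernel meet above the Frattini subgroup. -/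
theorem phi_lt_inf (he : e ∉ centM T) : frattiniIn T < dispImg hG T e ⊓ dispKer hG T e := by
  haveI := dispImg_normal hG hec
  obtain ⟨w, hw, hwP, -, hwc⟩ := exists_central_between hG (phi_lt_dispImg hG he)
  exact lt_of_le_of_ne (le_inf (phi_le_dispImg hG) (phi_le_dispKer hG)) fun h =>
    hwP (h.ge ⟨hw, (mem_dispKer hG).2 ⟨dispImg_le hG hw, hwc e⟩⟩)

/-- If the group acts on the Frattini quotient by more than `p ^ 2`, a central element moving it has
one-dimensional image inside its kernel. -/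
theorem disp_rank_one (hsr : Cfsg.SectionalPRankLE p 3 G) (he : e ∉ centM T)
    (hbig : p ^ 2 < (centM T).index) :
    Nat.card T = p ^ 3 * Nat.card (frattiniIn T) ∧
      Nat.card (dispImg hG T e) = p * Nat.card (frattiniIn T) ∧
      Nat.card (dispKer hG T e) = p ^ 2 * Nat.card (frattiniIn T) ∧
      dispImg hG T e ≤ dispKer hG T e := by
  haveI hJn := dispImg_normal hG hec
  haveI hCn := dispKer_normal hG hec
  set Φ := frattiniIn T with hΦ
  set J := dispImg hG T e with hJ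
  set C := dispKer hG T e with hC
  have hT3 : Nat.card T = p ^ 3 * Nat.card Φ := by
    refine le_antisymm (card_le_phi hG hsr T) ?_
    obtain ⟨d, hd⟩ := IsPGroup.iff_card.mp (hG.to_subgroup T)
    obtain ⟨a, ha⟩ := IsPGroup.iff_card.mp (hG.to_subgroup Φ)
    by_contra h
    push Not at h
    refine absurd ((index_centM_le hG hsr T).2 ?_) (not_le.2 hbig)
    rw [← hΦ]
    rw [hd, ha, ← pow_add] at h ⊢
    exact Nat.pow_le_pow_right hp.out.pos (by
      have := (Nat.pow_lt_pow_iff_right hp.out.one_lt).1 h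
      omega)
  obtain ⟨a, ha⟩ := IsPGroup.iff_card.mp (hG.to_subgroup Φ)
  obtain ⟨b, hb⟩ := IsPGroup.iff_card.mp (hG.to_subgroup J)
  obtain ⟨c, hc⟩ := IsPGroup.iff_card.mp (hG.to_subgroup C)
  obtain ⟨m, hm⟩ := IsPGroup.iff_card.mp (hG.to_subgroup (J ⊓ C))
  have h0 := card_disp hG (T := T) (e := e)
  rw [← hJ, ← hC, ← hΦ, hT3, ha, hb, hc, ← pow_add, ← pow_add, ← pow_add] at h0
  have e0 := Nat.pow_right_injective hp.out.two_le h0
  have hlt := phi_lt_inf hG hec he
  have h1 := card_mul_le_of_lt hG hlt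
  rw [← hΦ, ← hJ, ← hC, ha, hm, ← pow_succ'] at h1
  have e1 := (Nat.pow_le_pow_iff_right hp.out.one_lt).1 h1
  have h2 := card_le_of_le (inf_le_left : J ⊓ C ≤ J)
  rw [hm, hb] at h2
  have e2 := (Nat.pow_le_pow_iff_right hp.out.one_lt).1 h2
  have h3 := card_le_of_le (inf_le_right : J ⊓ C ≤ C)
  rw [hm, hc] at h3
  have e3 := (Nat.pow_le_pow_iff_right hp.out.one_lt).1 h3
  rcases (show b = a + 1 ∨ b = a + 2 by omega) with rfl | rfl
  · have hJC : J ≤ C := inf_eq_left.1
      (eq_of_card_le inf_le_left (by rw [hm, hb]; exact Nat.pow_le_pow_right hp.out.pos e1))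
    refine ⟨hT3, by rw [hb, ha, pow_succ'], ?_, hJC⟩
    rw [hc, ha, ← pow_add]
    congr 1
    omega
  exfalso
  have hC1 : c = a + 1 := by omega
  have hCJ : C ≤ J := inf_eq_right.1
    (eq_of_card_le inf_le_right (by rw [hm, hc, hC1]; exact Nat.pow_le_pow_right hp.out.pos e1))
  set π := QuotientGroup.mk' Φ with hπ
  have hπ1 : ∀ y, π y = 1 ↔ y ∈ Φ := fun y => QuotientGroup.eq_one_iff y
  have hJT : J ≤ T := dispImg_le hG
  have hTJ : Nat.card T = p * Nat.card J := by rw [hT3, hb, ha]; ring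
  obtain ⟨t₀, ht₀, ht₀J⟩ : ∃ t ∈ T, t ∉ J := SetLike.exists_of_lt (lt_of_le_of_ne hJT fun h => by
    rw [h] at hTJ
    have := hp.out.two_le
    have h4 : 0 < Nat.card T := Nat.card_pos
    nlinarith)
  have hJt : J ⊔ zpowers t₀ = T :=
    (eq_or_eq_of_card hG le_sup_left (sup_le hJT (zpowers_le.2 ht₀)) hTJ).resolve_left
      fun h => ht₀J (h.le (mem_sup_right (mem_zpowers t₀)))
  -- an element fixing `t₀` fixes `T`
  have hkill : ∀ k : G, ⁅k, t₀⁆ ∈ Φ → k ∈ centM T := by
    intro k hk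
    let X : Subgroup G := T ⊓ (centralizer ({π k} : Set (G ⧸ Φ))).comap π
    have hX : ∀ y, y ∈ X ↔ y ∈ T ∧ ⁅k, y⁆ ∈ Φ := fun y => by
      show y ∈ T ∧ π y ∈ centralizer {π k} ↔ _
      rw [mem_centralizer_singleton_iff, ← hπ1, map_commutatorElement,
        commutatorElement_eq_one_iff_mul_comm]
      exact and_congr_right fun _ => eq_comm
    have hcl : ∀ y ∈ X, ⁅e, y⁆ ∈ X := by
      intro y hy
      obtain ⟨hyT, hyk⟩ := (hX y).1 hy
      refine (hX _).2 ⟨comm_mem_T e hyT, ?_⟩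
      rw [← hπ1, map_commutatorElement, commutatorElement_eq_one_iff_mul_comm]
      have h4 : π ⁅e, k * y * k⁻¹⁆ = π ⁅e, y⁆ := by
        rw [map_commutatorElement, map_commutatorElement]
        congr 1
        have h5 : π ⁅k, y⁆ = 1 := (hπ1 _).2 hyk
        rw [map_commutatorElement, commutatorElement_eq_one_iff_mul_comm] at h5
        rw [map_mul, map_mul, map_inv, h5, mul_inv_cancel_right]
      have h6 : π (k * ⁅e, y⁆ * k⁻¹) = π ⁅e, k * y * k⁻¹⁆ :=
        QuotientGroup.eq.2 (conj_disp hec k hyT)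
      rw [h4, map_mul, map_mul, map_inv, mul_inv_eq_iff_eq_mul] at h6
      exact h6
    have ht₀X : t₀ ∈ X := (hX _).2 ⟨ht₀, hk⟩
    have hPX : Φ ≤ X := fun y hy => (hX y).2 ⟨frattiniIn_le T hy, by
      rw [commutatorElement_def]
      exact mul_mem ((inferInstance : Φ.Normal).conj_mem _ hy k) (inv_mem hy)⟩
    have hstep : ∀ y ∈ J, ⁅e, y⁆ ∈ C := fun y hy =>
      comm_mem_of_card_step hG hCn hJn hCJ (by rw [hb, hc, hC1]; ring) e hy
    have himg : ∀ y : G, ∀ hy : y ∈ T, ∃ i : ℕ, ∃ z ∈ J, Pre.disp hG T e ⟨y, hy⟩ =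
        π ⁅e, t₀⁆ ^ i * π ⁅e, z⁆ := by
      intro y hy
      obtain ⟨i, hi⟩ := exists_pow_of_mem_sup J (hJt.ge hy)
      refine ⟨i, _, hi, ?_⟩
      rw [show (⟨y, hy⟩ : T) = (⟨t₀, ht₀⟩ : T) ^ i * ⟨_, hJT hi⟩ from
        Subtype.ext (mul_inv_cancel_left _ _).symm, map_mul, map_pow]
      rfl
    have hJX : J ≤ X := by
      intro y hy
      obtain ⟨t, ht, h⟩ := (mem_dispImg hG).1 hy
      obtain ⟨i, z, hz, hzi⟩ := himg t ht
      have hzX : ⁅e, z⁆ ∈ X := by
        obtain ⟨t', ht', h'⟩ := (mem_dispImg hG).1 hz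
        obtain ⟨j, z', hz', hzj⟩ := himg t' ht'
        have e4 : π ⁅e, z⁆ = π ⁅e, ⁅e, t₀⁆⁆ ^ j := by
          have e5 : π z = π ⁅e, t₀⁆ ^ j * π ⁅e, z'⁆ := by
            rw [← hzj]; exact (QuotientGroup.eq.2 h').symm
          have e6 : π ⁅e, z'⁆ ∈ C.map π := mem_map_of_mem π (hstep z' hz')
          obtain ⟨v, hv, hve⟩ := e6
          have e7 : Pre.disp hG T e ⟨z, hJT hz⟩ =
              Pre.disp hG T e (⟨⁅e, t₀⁆, comm_mem_T e ht₀⟩ ^ j * ⟨v, dispKer_le hG hv⟩) := by
            rw [disp_apply, disp_apply, Subgroup.coe_mul, SubmonoidClass.coe_pow,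
              map_commutatorElement, map_commutatorElement, e5, map_mul, map_pow, hve]
          rw [map_mul, map_pow] at e7
          have e8 : Pre.disp hG T e ⟨v, dispKer_le hG hv⟩ = 1 :=
            (hπ1 _).2 ((mem_dispKer hG).1 hv).2
          rw [e8, mul_one] at e7
          exact e7
        have e9 : ⁅e, ⁅e, t₀⁆⁆ ^ j ∈ X := X.pow_mem (hcl _ (hcl _ ht₀X)) j
        have e10 : (⁅e, ⁅e, t₀⁆⁆ ^ j)⁻¹ * ⁅e, z⁆ ∈ Φ := by
          rw [← hπ1, map_mul, map_inv, map_pow, e4, inv_mul_cancel]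
        have := X.mul_mem e9 (hPX e10)
        rwa [mul_inv_cancel_left] at this
      have e11 : (⁅e, t₀⁆ ^ i * ⁅e, z⁆)⁻¹ * y ∈ Φ := by
        have e12 : π (⁅e, t₀⁆ ^ i * ⁅e, z⁆) = π ⁅e, t⁆ := by
          rw [map_mul, map_pow, ← hzi]; rfl
        rw [← hπ1, map_mul, map_inv, e12, ← map_inv, ← map_mul, hπ1]
        exact h
      have := X.mul_mem (X.mul_mem (X.pow_mem (hcl _ ht₀X) i) hzX) (hPX e11)
      rwa [mul_inv_cancel_left] at this
    intro y hy
    have hTX : T ≤ X := hJt.ge.trans (sup_le hJX (zpowers_le.2 ht₀X))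
    exact ((hX y).1 (hTX hy)).2
  -- so the index is at most `p ^ 2`
  refine absurd ?_ (not_le.2 hbig)
  let F : G ⧸ centM T → ↥(J.map π) := fun q => ⟨π ⁅q.out, t₀⁆,
    mem_map_of_mem π (comm_mem_of_card_step hG hJn inferInstance hJT hTJ q.out ht₀)⟩
  have hinj : Function.Injective F := by
    intro q r h
    simp only [F, Subtype.mk.injEq] at h
    rw [← Quotient.out_eq q, ← Quotient.out_eq r]
    refine QuotientGroup.eq.2 (hkill _ ?_)
    rw [← hπ1, map_commutatorElement, commutatorElement_eq_one_iff_mul_comm, map_mul, map_inv]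
    rw [map_commutatorElement, map_commutatorElement, commutatorElement_def, commutatorElement_def,
      mul_left_inj] at h
    calc (π q.out)⁻¹ * π r.out * π t₀ =
          (π q.out)⁻¹ * (π r.out * π t₀ * (π r.out)⁻¹) * π r.out := by group
      _ = (π q.out)⁻¹ * (π q.out * π t₀ * (π q.out)⁻¹) * π r.out := by rw [h]
      _ = π t₀ * ((π q.out)⁻¹ * π r.out) := by group
  have h5 := Nat.card_le_card_of_injective F hinj
  have h6 := card_map_mk Φ J (phi_le_dispImg hG)
  rw [← hπ, hb, ha, pow_add, mul_comm (p ^ a)] at h6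
  rw [Nat.eq_of_mul_eq_mul_right (pow_pos hp.out.pos a) h6] at h5
  exact h5

end Cfsg.Lib.FusionSys.SecThree
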