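import Cfsg.Agent.Lib.FusionSys.RankThreeTools
import Cfsg.Agent.Lib.FusionSys.PlaneAction

/-!
# Elementary abelian subgroups and small commutator facts
-/

set_option linter.style.haveILetI false
set_option autoImplicit false

namespace Cfsg.Lib.FusionSys.SecThree

open Subgroup
open scoped commutatorElement

variable {G : Type*} [Group G] {p : ℕ}

/-- A commutative subgroup of exponent `p`. -/
def EA (p : ℕ) (U : Subgroup G) : Prop :=
  (∀ a ∈ U, ∀ b ∈ U, a * b = b * a) ∧ ∀ a ∈ U, a ^ p = 1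

theorem EA.mono {U W : Subgroup G} (h : EA p W) (hUW : U ≤ W) : EA p U :=
  ⟨fun a ha b hb => h.1 a (hUW ha) b (hUW hb), fun a ha => h.2 a (hUW ha)⟩

theorem ea_zpowers {v : G} (hv : v ^ p = 1) : EA p (zpowers v) := by
  refine ⟨fun a ha b hb => ?_, fun a ha => ?_⟩
  · obtain ⟨i, rfl⟩ := mem_zpowers_iff.mp ha
    obtain ⟨j, rfl⟩ := mem_zpowers_iff.mp hb
    rw [← zpow_add, ← zpow_add, add_comm]
  · obtain ⟨i, rfl⟩ := mem_zpowers_iff.mp ha
    rw [← zpow_natCast, ← zpow_mul, mul_comm, zpow_mul, zpow_natCast, hv, one_zpow]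

theorem mem_sup_zpowers_of_commute {U : Subgroup G} {v w : G} (hv : ∀ a ∈ U, a * v = v * a) :
    w ∈ U ⊔ zpowers v ↔ ∃ u ∈ U, ∃ i : ℤ, w = u * v ^ i := by
  constructor
  · intro hw
    rw [← SetLike.mem_coe, Subgroup.coe_mul_of_right_le_normalizer_left] at hw
    · obtain ⟨u, hu, z, hz, rfl⟩ := Set.mem_mul.mp hw
      obtain ⟨i, rfl⟩ := mem_zpowers_iff.mp hz
      exact ⟨u, hu, i, rfl⟩
    · refine zpowers_le.mpr (mem_normalizer_iff.mpr fun a => ?_)
      constructor
      · intro ha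
        rw [← hv a ha, mul_inv_cancel_right]
        exact ha
      · intro ha
        have h := hv _ ha
        rw [inv_mul_cancel_right] at h
        rwa [← mul_left_cancel h] at ha
  · rintro ⟨u, hu, i, rfl⟩
    exact mul_mem_sup hu (zpow_mem (mem_zpowers v) i)

theorem EA.sup_zpowers {U : Subgroup G} (hU : EA p U) {v : G} (hv : ∀ a ∈ U, a * v = v * a)
    (hvp : v ^ p = 1) : EA p (U ⊔ zpowers v) := by
  refine ⟨fun a ha b hb => ?_, fun a ha => ?_⟩
  · obtain ⟨x, hx, i, rfl⟩ := (mem_sup_zpowers_of_commute hv).1 ha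
    obtain ⟨y, hy, j, rfl⟩ := (mem_sup_zpowers_of_commute hv).1 hb
    have h1 : Commute (v ^ i) y := ((show Commute y v from hv y hy).zpow_right i).symm
    have h2 : Commute x (v ^ j) := (show Commute x v from hv x hx).zpow_right j
    have h3 : Commute x y := hU.1 x hx y hy
    exact ((h3.mul_right h2).mul_left (h1.mul_right ((Commute.refl v).zpow_zpow i j))).eq
  · obtain ⟨x, hx, i, rfl⟩ := (mem_sup_zpowers_of_commute hv).1 ha
    rw [((show Commute x v from hv x hx).zpow_right i).mul_pow, hU.2 x hx,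
      (ea_zpowers hvp).2 _ (zpow_mem (mem_zpowers v) i), one_mul]

theorem EA.sup {U W : Subgroup G} (hU : EA p U) (hW : EA p W)
    (hc : ∀ a ∈ U, ∀ b ∈ W, a * b = b * a) : EA p (U ⊔ W) := by
  rw [sup_eq_closure]
  have hcomm : ∀ a ∈ (U : Set G) ∪ W, ∀ b ∈ (U : Set G) ∪ W, a * b = b * a := by
    rintro a (ha | ha) b (hb | hb)
    exacts [hU.1 a ha b hb, hc a ha b hb, (hc b hb a ha).symm, hW.1 a ha b hb]
  have hco := Subgroup.isMulCommutative_closure hcomm
  refine ⟨fun a ha b hb => congrArg Subtype.val (hco.is_comm.comm ⟨a, ha⟩ ⟨b, hb⟩), fun a ha => ?_⟩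
  induction ha using Subgroup.closure_induction with
  | mem x hx => exact hx.elim (hU.2 x) (hW.2 x)
  | one => exact one_pow p
  | mul x y hx hy h1 h2 =>
    rw [(show Commute x y from congrArg Subtype.val (hco.is_comm.comm ⟨x, hx⟩ ⟨y, hy⟩)).mul_pow,
      h1, h2, one_mul]
  | inv x _ h1 => rw [inv_pow, h1, inv_one]

theorem EA.card_le (hsr : Cfsg.SectionalPRankLE p 3 G) {U : Subgroup G} (hU : EA p U) :
    Nat.card U ≤ p ^ 3 := by
  have h := RankThree.section_bound hsr U ⊥ bot_le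
    (fun a ha b hb => mem_bot.2 (commutatorElement_eq_one_iff_mul_comm.2 (hU.1 a ha b hb)))
    fun a ha => mem_bot.2 (hU.2 a ha)
  rwa [card_bot, mul_one] at h

variable [Finite G]

theorem eq_of_card_le {U W : Subgroup G} (h : U ≤ W) (hc : Nat.card W ≤ Nat.card U) : U = W :=
  eq_of_le_of_card_ge h hc

variable [hp : Fact p.Prime]

theorem eq_or_eq_of_card (hG : IsPGroup p G) {U K W : Subgroup G} (hUK : U ≤ K) (hKW : K ≤ W)
    (hc : Nat.card W = p * Nat.card U) : K = U ∨ K = W := by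
  rcases eq_or_lt_of_le hUK with h | h
  · exact Or.inl h.symm
  · exact Or.inr (eq_of_card_le hKW (hc.trans_le (RankThree.card_mul_le_of_lt hG h)))

omit [Finite G] in
theorem card_eq_of_index {E F' : Subgroup G} (hE : E.index = p) (hF : F' ⊔ E = ⊤) [E.Normal] :
    Nat.card F' = p * Nat.card ↥(F' ⊓ E) := by
  have h1 : E.relIndex F' = p := by
    rw [← Subgroup.relIndex_sup_right (H := F') (K := E), hF, relIndex_top_right, hE]
  rw [← h1, ← Subgroup.inf_relIndex_left F' E]
  exact (Subgroup.card_mul_index ((F' ⊓ E).subgroupOf F')).symm.trans (by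
    rw [Nat.card_congr (subgroupOfEquivOfLe inf_le_left).toEquiv, mul_comm]; rfl)

theorem comm_mem_of_card_step (hG : IsPGroup p G) {U W : Subgroup G} (hU : U.Normal) (hW : W.Normal)
    (hUW : U ≤ W) (hc : Nat.card W = p * Nat.card U) (g : G) {w : G} (hw : w ∈ W) : ⁅g, w⁆ ∈ U := by
  haveI := hU
  set π := QuotientGroup.mk' U
  haveI : (W.map π).Normal := hW.map π (QuotientGroup.mk'_surjective U)
  have hcard : Nat.card ↥(W.map π) = p := by
    rw [← Subgroup.relIndex_ker, QuotientGroup.ker_mk']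
    have h2 := Subgroup.card_mul_index (U.subgroupOf W)
    rw [Nat.card_congr (subgroupOfEquivOfLe hUW).toEquiv, hc, mul_comm p] at h2
    exact Nat.eq_of_mul_eq_mul_left Nat.card_pos h2
  have hcen := Cfsg.Lib.PGroup.le_center_of_card_eq_prime (hG.to_quotient U) hcard
    (mem_map_of_mem π hw)
  rw [← QuotientGroup.ker_mk' U, MonoidHom.mem_ker, map_commutatorElement]
  exact commutatorElement_eq_one_iff_mul_comm.2 (mem_center_iff.1 hcen _)

omit hp in
theorem card_sup_le {U W : Subgroup G} [U.Normal] :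
    Nat.card ↥(U ⊔ W) * Nat.card ↥(U ⊓ W) = Nat.card U * Nat.card W := by
  have h1 := Subgroup.card_mul_index (U.subgroupOf (U ⊔ W))
  have h2 := Subgroup.card_mul_index ((U ⊓ W).subgroupOf W)
  rw [Nat.card_congr (subgroupOfEquivOfLe le_sup_left).toEquiv] at h1
  rw [Nat.card_congr (subgroupOfEquivOfLe inf_le_right).toEquiv] at h2
  have h3 : (U.subgroupOf (U ⊔ W)).index = ((U ⊓ W).subgroupOf W).index := by
    show U.relIndex (U ⊔ W) = (U ⊓ W).relIndex W
    rw [Subgroup.inf_relIndex_right, Subgroup.relIndex_sup_left]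
  rw [← h1, ← h2, h3]
  ring

/-- Two elements spanning at most a line satisfy a nontrivial relation; otherwise they span. -/
theorem relation_or_span {V : Subgroup G} (hV : EA p V) (hc : Nat.card V = p ^ 2) {x y : G}
    (hx : x ∈ V) (hy : y ∈ V) :
    (∃ i j : ℕ, ¬ (p ∣ i ∧ p ∣ j) ∧ x ^ i * y ^ j = 1) ∨ ∀ z ∈ V, ∃ i j : ℕ, z = x ^ i * y ^ j := by
  by_cases hx1 : x = 1
  · exact Or.inl ⟨1, 0, fun h => hp.out.one_lt.ne' (Nat.dvd_one.1 h.1), by simp [hx1]⟩
  by_cases hyx : y ∈ zpowers x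
  · obtain ⟨i, hi⟩ := mem_powers_iff_mem_zpowers.2 hyx
    have hi' : x ^ i = y := hi
    refine Or.inl ⟨i, p - 1, fun h => ?_, ?_⟩
    · have h1 := hp.out.one_lt
      have h2 := Nat.le_of_dvd (by omega) h.2
      omega
    · rw [hi', ← pow_succ', Nat.sub_add_cancel hp.out.one_le, hV.2 y hy]
  · refine Or.inr fun z hz => ?_
    obtain ⟨i, j, h⟩ := Plane.exists_coords (V := V) hc (fun v => Subtype.ext (hV.2 v v.2))
      (e := ⟨x, hx⟩) (f := ⟨y, hy⟩) (fun h => hx1 (congrArg Subtype.val h)) (fun h => hyx (by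
        obtain ⟨k, hk⟩ := mem_zpowers_iff.1 h
        exact mem_zpowers_iff.2 ⟨k, by simpa using congrArg Subtype.val hk⟩)) ⟨z, hz⟩
    exact ⟨i, j, by simpa using congrArg Subtype.val h⟩

omit [Finite G] hp in
theorem comm_eq_one {a b : G} : ⁅a, b⁆ = 1 ↔ a * b = b * a :=
  commutatorElement_eq_one_iff_mul_comm

/-- There is no elementary section with three generators over a plane of centralised commutators. -/
theorem triple_false (hp2 : p ≠ 2) (hG : IsPGroup p G) (hsr : Cfsg.SectionalPRankLE p 3 G)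
    {V : Subgroup G} (hV : EA p V) (hc : Nat.card V = p ^ 2) {a b c : G}
    (hap : a ^ p = 1) (hbp : b ^ p = 1) (hcp : c ^ p = 1)
    (ha : ∀ v ∈ V, v * a = a * v) (hb : ∀ v ∈ V, v * b = b * v) (hc' : ∀ v ∈ V, v * c = c * v)
    (hab : ⁅a, b⁆ ∈ V) (hac : ⁅a, c⁆ ∈ V) (hbc : ⁅b, c⁆ ∈ V)
    (hind : ∀ i j k : ℕ, a ^ i * b ^ j * c ^ k ∈ V → p ∣ i ∧ p ∣ j ∧ p ∣ k) : False := by
  -- commuting elements independent over `V`
  have pair : ∀ u v : G, u ^ p = 1 → v ^ p = 1 → (∀ w ∈ V, w * u = u * w) →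
      (∀ w ∈ V, w * v = v * w) → u * v = v * u → u ∉ V → v ∉ V ⊔ zpowers u → False := by
    intro u v hu hv hVu hVv huv huV hvV
    have hU := hV.sup_zpowers hVu hu
    have hW := hU.sup_zpowers (v := v) (fun w hw => by
      obtain ⟨x, hx, i, rfl⟩ := (mem_sup_zpowers_of_commute hVu).1 hw
      exact ((show Commute x v from hVv x hx).mul_left
        ((show Commute u v from huv).zpow_left i)).eq) hv
    have h1 := RankThree.card_lt_sup_zpowers hG V huV
    have h2 := RankThree.card_lt_sup_zpowers hG _ hvV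
    have h3 := hW.card_le hsr
    have h4 : p * (p * p ^ 2) ≤ p ^ 3 := (Nat.mul_le_mul_left p (hc ▸ h1)).trans (h2.trans h3)
    nlinarith [hp.out.two_le, pow_pos hp.out.pos 3]
  have hconj : ∀ g x : G, x ∈ V → (∀ w ∈ V, w * g = g * w) → g * x * g⁻¹ = x := fun g x hx hg => by
    rw [← hg x hx, mul_inv_cancel_right]
  rcases relation_or_span hV hc hab hac with ⟨i, j, hij, hrel⟩ | hspan
  · refine pair a (b ^ i * c ^ j) hap ?_ ha (fun w hw => ((show Commute w b from hb w hw).pow_right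
      i |>.mul_right ((show Commute w c from hc' w hw).pow_right j)).eq) ?_ ?_ ?_
    · have h1 : ⁅c ^ j, b ^ i⁆ = (⁅b, c⁆⁻¹ ^ i) ^ j := by
        have h2 : ⁅c, b ^ i⁆ = ⁅b, c⁆⁻¹ ^ i := by
          rw [RankThree.comm_pow_right, commutatorElement_inv]
          rw [← commutatorElement_inv]
          exact ((show Commute ⁅b, c⁆ b from hb _ hbc).inv_left).symm
        rw [RankThree.comm_pow_left, h2]
        rw [h2]
        exact ((show Commute ⁅b, c⁆ c from hc' _ hbc).inv_left.pow_left i).symm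
      have hz : ⁅c ^ j, b ^ i⁆ ∈ V := by
        rw [h1]; exact V.pow_mem (V.pow_mem (V.inv_mem hbc) i) j
      rw [RankThree.mul_pow_prime hp2 (((show Commute _ b from hb _ hz).symm.pow_left i))
        (((show Commute _ c from hc' _ hz).symm.pow_left j)) (hV.2 _ hz), ← pow_mul, ← pow_mul,
        mul_comm i, mul_comm j, pow_mul, pow_mul, hbp, hcp, one_pow, one_pow, one_mul]
    · rw [← comm_eq_one, commutatorElement_mul_right_eq_mul_conj,
        RankThree.comm_pow_right (show Commute b ⁅a, b⁆ from (hb _ hab).symm),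
        RankThree.comm_pow_right (show Commute c ⁅a, c⁆ from (hc' _ hac).symm), mul_assoc,
        mul_assoc, ← mul_assoc (b ^ i), hconj (b ^ i) _ (V.pow_mem hac j)
          fun w hw => ((show Commute w b from hb w hw).pow_right i).eq]
      exact hrel
    · intro haV
      exact hp.out.one_lt.ne' (Nat.dvd_one.1 (hind 1 0 0 (by simpa using haV)).1)
    · intro hmem
      obtain ⟨x, hx, k, hk⟩ := (mem_sup_zpowers_of_commute ha).1 hmem
      obtain ⟨m, hm⟩ := mem_powers_iff_mem_zpowers.2 (zpow_mem (mem_zpowers a) (-k))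
      have hm' : a ^ m = a ^ (-k) := hm
      have h5 : a ^ m * b ^ i * c ^ j ∈ V := by
        rw [mul_assoc, hm', hk, (show Commute x a from ha x hx).zpow_right k |>.eq, ← mul_assoc,
          ← zpow_add, neg_add_cancel, zpow_zero, one_mul]
        exact hx
      exact hij (hind m i j h5).2
  · have hspan0 := hspan
    obtain ⟨i, j, hij⟩ := hspan _ hbc
    -- `u = b a^s`, `v = c a^r`
    set r := i with hr
    set s := j * (p - 1) with hs
    have hsV : ∀ w ∈ V, w * a ^ s = a ^ s * w := fun w hw =>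
      ((show Commute w a from ha w hw).pow_right s).eq
    have hrV : ∀ w ∈ V, w * a ^ r = a ^ r * w := fun w hw =>
      ((show Commute w a from ha w hw).pow_right r).eq
    have h1 : ⁅b, a ^ r⁆ = ⁅a, b⁆⁻¹ ^ r := by
      rw [RankThree.comm_pow_right, commutatorElement_inv]
      rw [← commutatorElement_inv]
      exact ((show Commute ⁅a, b⁆ a from ha _ hab).inv_left).symm
    have h2 : ⁅a ^ s, c⁆ = ⁅a, c⁆ ^ s :=
      RankThree.comm_pow_left (show Commute a ⁅a, c⁆ from (ha _ hac).symm) s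
    have hpw : ∀ (x : G) (n : ℕ), x ^ p = 1 → (∀ w ∈ V, w * x = x * w) → ⁅a, x⁆ ∈ V →
        (x * a ^ n) ^ p = 1 := by
      intro x n hx hxV hax
      have hz : ⁅a ^ n, x⁆ ∈ V := by
        rw [RankThree.comm_pow_left (show Commute a ⁅a, x⁆ from (ha _ hax).symm)]
        exact V.pow_mem hax n
      rw [RankThree.mul_pow_prime hp2 (show Commute x _ from (hxV _ hz).symm)
        (((show Commute _ a from ha _ hz).symm.pow_left n)) (hV.2 _ hz), hx, ← pow_mul, mul_comm,
        pow_mul, hap, one_pow, one_mul]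
    refine pair (b * a ^ s) (c * a ^ r) (hpw b s hbp hb hab) (hpw c r hcp hc' hac)
      (fun w hw => ((show Commute w b from hb w hw).mul_right (hsV w hw)).eq)
      (fun w hw => ((show Commute w c from hc' w hw).mul_right (hrV w hw)).eq) ?_ ?_ ?_
    · rw [← comm_eq_one, commutatorElement_mul_left_eq_conj_mul,
        commutatorElement_mul_right_eq_mul_conj, commutatorElement_mul_right_eq_mul_conj]
      have h3 : ⁅a ^ s, a ^ r⁆ = 1 := comm_eq_one.2 ((Commute.refl a).pow_pow s r).eq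
      rw [h1, h2, h3, mul_one, mul_inv_cancel_right,
        hconj b _ (V.pow_mem hac s) hb]
      rw [show ∀ x y : G, x * c * y * c⁻¹ = x * (c * y * c⁻¹) from fun x y => by
        simp only [mul_assoc], hconj c _ (V.pow_mem (V.inv_mem hab) r) hc', hij]
      have hcm : Commute (⁅a, c⁆ ^ s) (⁅a, b⁆ ^ i * ⁅a, c⁆ ^ j * ⁅a, b⁆⁻¹ ^ r) :=
        hV.1 _ (V.pow_mem hac s) _ (V.mul_mem (V.mul_mem (V.pow_mem hab i) (V.pow_mem hac j))
          (V.pow_mem (V.inv_mem hab) r))
      have hcm2 : Commute (⁅a, b⁆ ^ i) (⁅a, c⁆ ^ j) :=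
        hV.1 _ (V.pow_mem hab i) _ (V.pow_mem hac j)
      rw [hcm.eq, hr, inv_pow, hcm2.eq, mul_inv_cancel_right, ← pow_add, hs,
        ← mul_one_add, Nat.add_comm, Nat.sub_add_cancel hp.out.one_le, mul_comm, pow_mul,
        hV.2 _ hac, one_pow]
    · intro h
      have h5 : a ^ s * b ^ 1 * c ^ 0 ∈ V := by
        rw [pow_one, pow_zero, mul_one]
        have : a ^ s * b = a ^ s * (b * a ^ s) * (a ^ s)⁻¹ := by group
        rw [this, hconj _ _ h hsV]
        exact h
      exact hp.out.one_lt.ne' (Nat.dvd_one.1 (hind s 1 0 h5).2.1)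
    · intro hmem
      have hVu : ∀ w ∈ V, w * (b * a ^ s) = b * a ^ s * w := fun w hw =>
        ((show Commute w b from hb w hw).mul_right (hsV w hw)).eq
      obtain ⟨x, hx, k, hk⟩ := (mem_sup_zpowers_of_commute hVu).1 hmem
      obtain ⟨m, hm⟩ := mem_powers_iff_mem_zpowers.2 (zpow_mem (mem_zpowers (b * a ^ s)) k)
      have hm' : (b * a ^ s) ^ m = (b * a ^ s) ^ k := hm
      have e0 : ∀ (y : G) (n : ℕ), ⁅a, y * a ^ n⁆ = ⁅a, y⁆ := fun y n => by
        rw [commutatorElement_mul_right_eq_mul_conj, comm_eq_one.2 (Commute.self_pow a n).eq, mul_one,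
          mul_inv_cancel_right]
      have h1 : ⁅a, c⁆ = ⁅a, b⁆ ^ m := by
        rw [← e0 c r, hk, ← hm', commutatorElement_mul_right_eq_mul_conj,
          comm_eq_one.2 (ha x hx).symm, one_mul,
          RankThree.comm_pow_right (by rw [e0]; exact (hVu _ hab).symm), e0,
          hconj x _ (V.pow_mem hab m) fun w hw => hV.1 w hw x hx]
      have hle : V ≤ zpowers ⁅a, b⁆ := fun z hz => by
        obtain ⟨i', j', rfl⟩ := hspan0 z hz
        rw [h1, ← pow_mul, ← pow_add]
        exact pow_mem (mem_zpowers _) _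
      have h8 := card_le_of_le hle
      rw [hc, Nat.card_zpowers] at h8
      have h9 := Nat.le_of_dvd hp.out.pos (orderOf_dvd_of_pow_eq_one (hV.2 _ hab))
      nlinarith [hp.out.two_le]

end Cfsg.Lib.FusionSys.SecThree
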