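import Cfsg.Agent.Lib.FusionSys.SecThree.HeisFacts
import Cfsg.Agent.Lib.FusionSys.SecThree.Disp

/-!
# The quotient does not act faithfully on the Frattini quotient of the core
-/

set_option linter.style.haveILetI false
set_option linter.unusedSectionVars false
set_option autoImplicit false

namespace Cfsg.Lib.FusionSys.SecThree

open Subgroup RankThree
open scoped commutatorElement

variable {G : Type*} [Group G] [Finite G] {p : ℕ} [hp : Fact p.Prime]

/-- Two elements mapping `T` into `W` and killing `W` commute on the Frattini quotient. -/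
theorem comm_mem_centM (hG : IsPGroup p G) {T W : Subgroup G} [T.Normal] {g k : G}
    (hg : ∀ t ∈ T, ⁅g, t⁆ ∈ W) (hk : ∀ t ∈ T, ⁅k, t⁆ ∈ W)
    (hgW : ∀ w ∈ W, ⁅g, w⁆ ∈ frattiniIn T) (hkW : ∀ w ∈ W, ⁅k, w⁆ ∈ frattiniIn T) (hWT : W ≤ T) :
    ⁅g, k⁆ ∈ centM T := by
  suffices hsuff : (k * g)⁻¹ * (g * k) ∈ centM T by
    rw [show ⁅g, k⁆ = k * g * ((k * g)⁻¹ * (g * k)) * (k * g)⁻¹ by rw [commutatorElement_def]; group]
    exact (inferInstance : (centM T).Normal).conj_mem _ hsuff _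
  intro t ht
  set π := QuotientGroup.mk' (frattiniIn T) with hπ
  have hπ1 : ∀ y, π y = 1 ↔ y ∈ frattiniIn T := fun y => QuotientGroup.eq_one_iff y
  have hTc : ∀ a ∈ T, ∀ b ∈ T, Commute (π a) (π b) := fun a ha b hb => by
    rw [Commute, SemiconjBy, ← commutatorElement_eq_one_iff_mul_comm, ← map_commutatorElement, hπ1]
    exact comm_mem_frattiniIn hG ha hb
  have hfix : ∀ u : G, (∀ w ∈ W, ⁅u, w⁆ ∈ frattiniIn T) → ∀ w ∈ W, π u * π w * (π u)⁻¹ = π w :=
    fun u hu w hw => by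
    rw [mul_inv_eq_iff_eq_mul, ← commutatorElement_eq_one_iff_mul_comm, ← map_commutatorElement, hπ1]
    exact hu w hw
  have e1 : π ⁅g * k, t⁆ = π ⁅k * g, t⁆ := by
    rw [commutatorElement_mul_left_eq_conj_mul, commutatorElement_mul_left_eq_conj_mul, map_mul,
      map_mul, map_mul, map_mul, map_mul, map_mul, map_inv, map_inv,
      hfix g hgW _ (hk t ht), hfix k hkW _ (hg t ht)]
    exact (hTc _ (hWT (hk t ht)) _ (hWT (hg t ht))).eq
  rw [map_commutatorElement, map_commutatorElement, map_mul, map_mul, commutatorElement_def,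
    commutatorElement_def, mul_left_inj] at e1
  rw [← hπ1, map_commutatorElement, commutatorElement_eq_one_iff_mul_comm, map_mul, map_inv, map_mul,
    map_mul]
  calc (π k * π g)⁻¹ * (π g * π k) * π t
      = (π k * π g)⁻¹ * (π g * π k * π t * (π g * π k)⁻¹) * (π g * π k) := by group
    _ = (π k * π g)⁻¹ * (π k * π g * π t * (π k * π g)⁻¹) * (π g * π k) := by rw [e1]
    _ = π t * ((π k * π g)⁻¹ * (π g * π k)) := by group

namespace Pre

variable {P : Pre p G} {E₁ E₂ : Subgroup G} [P.invCore.Normal] (H : P.IsPair E₁ E₂)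
  (h : HeisRels p (G ⧸ P.invCore))
include H h

omit [Finite G] in
theorem IsPair.le_of_sup {T D E : Subgroup G} {w e : G} (hTw : T ⊔ zpowers w = D)
    (hs : D ⊔ zpowers e = E) {K : Subgroup G} (hT : T ≤ K) (hw : w ∈ K) (he : e ∈ K) : E ≤ K := by
  rw [← hs, ← hTw]
  exact sup_le (sup_le hT (zpowers_le.2 hw)) (zpowers_le.2 he)

set_option maxHeartbeats 1000000 in
/-- An essential subgroup with a single centre on the Frattini quotient gives a section of rank four. -/
theorem IsPair.single_centre_false {E : Subgroup G} (hE : E ∈ P.ess) {w e : G}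
    (hTw : P.invCore ⊔ zpowers w = E₁ ⊓ E₂) (hw : w ∈ E₁ ⊓ E₂) (hwc : ∀ g : G, ⁅g, w⁆ ∈ centM P.invCore)
    (hT3 : Nat.card P.invCore = p ^ 3 * Nat.card (frattiniIn P.invCore))
    (hV1c : Nat.card (dispImg P.isP P.invCore w) = p * Nat.card (frattiniIn P.invCore))
    (hV2c : Nat.card (dispKer P.isP P.invCore w) = p ^ 2 * Nat.card (frattiniIn P.invCore))
    (hV12 : dispImg P.isP P.invCore w ≤ dispKer P.isP P.invCore w)
    (hs : (E₁ ⊓ E₂) ⊔ zpowers e = E)
    (hA : ∀ t ∈ P.invCore, ⁅e, t⁆ ∈ dispImg P.isP P.invCore w)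
    (hB : ∃ v ∈ dispKer P.isP P.invCore w, ⁅e, v⁆ ∉ frattiniIn P.invCore) : False := by
  have hG := P.isP
  have hp2 := P.odd
  set T := P.invCore with hTdef
  set Φ := frattiniIn T with hΦ
  set U := dispImg hG T w with hU
  set V₂ := dispKer hG T w with hV2
  haveI hUn : U.Normal := dispImg_normal hG hwc
  haveI hV2n : V₂.Normal := dispKer_normal hG hwc
  haveI := P.normal E hE
  haveI := P.normal E₁ H.left
  haveI := P.normal E₂ H.right
  haveI : (E₁ ⊓ E₂).Normal := Subgroup.normal_inf_normal E₁ E₂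
  set π := QuotientGroup.mk' Φ with hπ
  have hπ1 : ∀ y, π y = 1 ↔ y ∈ Φ := fun y => QuotientGroup.eq_one_iff y
  set ρ := QuotientGroup.mk' U with hρ
  have hρ1 : ∀ y, ρ y = 1 ↔ y ∈ U := fun y => QuotientGroup.eq_one_iff y
  have hTE : T ≤ E := (P.inv_invCore hE).le
  have hinvT : ∀ a ∈ P.aut E, ∀ t ∈ T, ap a t ∈ T := (P.inv_invCore hE).inv
  have hDE : E₁ ⊓ E₂ ≤ E := hs ▸ le_sup_left
  have heE : e ∈ E := hs ▸ mem_sup_right (mem_zpowers e)
  have hPU : Φ ≤ U := phi_le_dispImg hG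
  have hUT : U ≤ T := dispImg_le hG
  have hUstep : ∀ g : G, ∀ v ∈ U, ⁅g, v⁆ ∈ Φ := fun g v hv =>
    comm_mem_of_card_step hG inferInstance hUn hPU hV1c g hv
  -- `E` maps `T` into `U`
  have hET : ∀ x ∈ E, ∀ t ∈ T, ⁅x, t⁆ ∈ U := by
    intro x hx t ht
    have hle := H.le_of_sup h hTw hs (K := (centralizer ((T.map ρ : Subgroup _) : Set (G ⧸ U))).comap ρ)
    have hmem : ∀ y : G, (∀ t ∈ T, ⁅y, t⁆ ∈ U) →
        y ∈ (centralizer ((T.map ρ : Subgroup _) : Set (G ⧸ U))).comap ρ := by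
      rintro y hy _ ⟨s, hs', rfl⟩
      refine (commutatorElement_eq_one_iff_mul_comm.1 ?_).symm
      rw [← map_commutatorElement, hρ1]
      exact hy s hs'
    have := hle (fun y hy => hmem y fun s hs' => hPU (comm_mem_frattiniIn hG hy hs'))
      (hmem w fun s hs' => comm_mem_dispImg hG hs') (hmem e hA) hx
    rw [← hρ1, map_commutatorElement, commutatorElement_eq_one_iff_mul_comm]
    exact (this _ (mem_map_of_mem ρ ht)).symm
  have hUinv : ∀ a ∈ P.aut E, ∀ u ∈ U, ap a u ∈ U := by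
    intro a ha u hu
    obtain ⟨t, ht, h'⟩ := (mem_dispImg hG).1 hu
    have h1 := U.mul_mem (hET _ (ap_mem a (hDE hw)) _ (hinvT a ha t ht))
      (hPU (ap_phi hG hTE (hinvT a ha) h'))
    have h2 : ⁅w, t⁆ ∈ T := comm_mem_T w ht
    rwa [ap_map_mul a (E.inv_mem (hTE h2)) (hTE (hUT hu)), ap_map_inv a (hTE h2),
      ap_map_comm a (hDE hw) (hTE ht), mul_inv_cancel_left] at h1
  -- `U` is all that `E` fixes
  have hfixU : ∀ v ∈ T, (∀ x ∈ E, ⁅x, v⁆ ∈ Φ) → v ∈ U := by
    obtain ⟨v₀, hv₀, hv₀e⟩ := hB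
    intro v hv hfix
    have hvV : v ∈ V₂ := (mem_dispKer hG).2 ⟨hv, hfix w (hDE hw)⟩
    by_contra hvU
    have hUv : U ⊔ zpowers v = V₂ :=
      (eq_or_eq_of_card hG le_sup_left (sup_le hV12 (zpowers_le.2 hvV))
        (by rw [hV2c, hV1c]; ring)).resolve_left fun h' => hvU (h'.le (mem_sup_right (mem_zpowers v)))
    refine hv₀e ?_
    obtain ⟨i, hi⟩ := exists_pow_of_mem_sup U (hUv.ge hv₀)
    rw [← hπ1, map_commutatorElement, commutatorElement_eq_one_iff_mul_comm]
    have hc : ∀ y, ⁅e, y⁆ ∈ Φ → Commute (π e) (π y) := fun y hy => by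
      rw [Commute, SemiconjBy, ← commutatorElement_eq_one_iff_mul_comm, ← map_commutatorElement, hπ1]
      exact hy
    rw [show v₀ = v ^ i * ((v ^ i)⁻¹ * v₀) by rw [mul_inv_cancel_left], map_mul, map_pow]
    exact (((hc v (hfix e heE)).pow_right i).mul_right (hc _ (hUstep e _ hi))).eq
  obtain ⟨γ, hγ, d, hd, hγd⟩ := H.heis_inf_moved h hE
  set K := P.aut E ⊓ moves E U Φ (hUT.trans hTE) with hK
  have hcE : Nat.card E = p * Nat.card ↥(E₁ ⊓ E₂) := by
    rw [H.heis_card h hE, H.heis_card_inf h]; ring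
  obtain ⟨t, htK, -, htinv, -⟩ := P.exists_invert_top hE (U := T) (D := E₁ ⊓ E₂)
    (le_inf (P.inv_invCore H.left).le (P.inv_invCore H.right).le) hDE (H.heis_card_inf h) hcE
    (H.heis_pow h hE) K inf_le_left
    (fun a ha k hk => ⟨(P.aut E).mul_mem ((P.aut E).mul_mem ha hk.1) ((P.aut E).inv_mem ha),
      moves_conj a (fun x hx _ => ap_phi hG hTE (hinvT a ha) hx)
        (fun x hx _ => ap_phi hG hTE (hinvT _ (inv_mem ha)) hx)
        (fun x hx => hUinv _ (inv_mem ha) x hx) hk.2⟩)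
    (fun a ha => by
      have haA := P.conj_mem E hE ha
      obtain ⟨g, -, hg⟩ := ha
      refine ⟨haA, fun x hx _ => ap_phi hG hTE (hinvT a haA) hx, fun x hx => ?_⟩
      rw [hg x (hTE (hUT hx)), ← commutatorElement_def]
      exact hUstep g x hx)
    hinvT (H.heis_cent h hE) ⟨γ, hγ, d, hd, hγd⟩
  -- central facts modulo `Φ` and `U`
  have hUc : ∀ u ∈ U, π u ∈ center (G ⧸ Φ) := fun u hu => mem_center_iff.2 fun q =>
    QuotientGroup.induction_on q fun g => by
      show π g * π u = π u * π g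
      rw [← commutatorElement_eq_one_iff_mul_comm, ← map_commutatorElement, hπ1]
      exact hUstep g u hu
  have hρc : ∀ x ∈ E, ∀ s ∈ T, ρ x * ρ s = ρ s * ρ x := fun x hx s hs' => by
    rw [← commutatorElement_eq_one_iff_mul_comm, ← map_commutatorElement, hρ1]
    exact hET x hx s hs'
  have hte : ∀ x ∈ E, ∃ a ∈ T, ap t x = a * x⁻¹ := fun x hx =>
    ⟨_, htinv x hx, (mul_inv_cancel_right _ _).symm⟩
  have hstep1 : ∀ v ∈ T, ap t v * v ∈ U := by
    intro v hv
    have htv := hinvT t htK.1 v hv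
    refine hfixU _ (T.mul_mem htv hv) fun x hx => ?_
    obtain ⟨a, ha, hta⟩ := hte x hx
    have h1 : π (ap t ⁅x, v⁆) = π ⁅x, v⁆ := QuotientGroup.eq.2 (by
      have h2 := htK.2.2 _ (hET x hx v hv)
      have h3 := (inferInstance : Φ.Normal).conj_mem _ (inv_mem h2) (ap t ⁅x, v⁆)⁻¹
      convert h3 using 1
      group)
    have hc1 : ∀ s ∈ T, π ⁅x, s⁆ ∈ center (G ⧸ Φ) := fun s hs' => hUc _ (hET x hx s hs')
    have hax : π ⁅a, ap t v⁆ = 1 := (hπ1 _).2 (comm_mem_frattiniIn hG ha htv)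
    have hxv : π ⁅x⁻¹, ap t v⁆ = (π ⁅x, ap t v⁆)⁻¹ := by
      have hcx := hc1 (ap t v) htv
      rw [map_commutatorElement] at hcx ⊢
      rw [map_inv, map_commutatorElement]
      refine eq_inv_of_mul_eq_one_left ?_
      rw [← RankThree.comm_mul_left_central hcx, inv_mul_cancel, commutatorElement_one_left]
    rw [ap_map_comm t hx (hTE hv), hta, commutatorElement_mul_left_eq_conj_mul, map_mul, hax, mul_one,
      map_mul, map_mul, map_inv, hxv, mem_center_iff.1 (inv_mem (hc1 _ htv)) (π a),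
      mul_inv_cancel_right] at h1
    rw [← hπ1, map_commutatorElement, map_mul, RankThree.comm_mul_right_central
      (by rw [← map_commutatorElement]; exact hc1 _ hv), ← map_commutatorElement,
      ← map_commutatorElement, ← h1, mul_inv_cancel]
  have hcomm : ∀ x ∈ E, ∀ y ∈ E, ⁅x, y⁆ ∈ U := by
    intro x hx y hy
    have hxy : ⁅x, y⁆ ∈ T := H.heis_comm h hE x hx y hy
    refine mem_of_sq_mem hG hp2 ?_
    obtain ⟨a, ha, hta⟩ := hte x hx
    obtain ⟨b, hb, htb⟩ := hte y hy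
    have h2 : ρ (ap t ⁅x, y⁆) * ρ ⁅x, y⁆ = 1 := by
      rw [← map_mul, hρ1]; exact hstep1 _ hxy
    have hc : ∀ u ∈ E, ∀ v ∈ E, ∀ z ∈ E, Commute (ρ z) ⁅ρ u, ρ v⁆ := fun u hu v hv z hz => by
      rw [← map_commutatorElement]
      exact hρc z hz _ (H.heis_comm h hE u hu v hv)
    have h3 : ρ (ap t ⁅x, y⁆) = ρ ⁅x, y⁆ := by
      rw [ap_map_comm t hx hy, hta, htb, map_commutatorElement, map_mul, map_mul, map_inv, map_inv,
        map_commutatorElement]
      have ha' : ∀ z ∈ E, Commute (ρ z) (ρ a) := fun z hz => hρc z hz a ha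
      have hb' : ∀ z ∈ E, Commute (ρ z) (ρ b) := fun z hz => hρc z hz b hb
      have hab : ⁅ρ a * (ρ x)⁻¹, ρ b * (ρ y)⁻¹⁆ = ⁅(ρ x)⁻¹, (ρ y)⁻¹⁆ := by
        have hA1 : ⁅ρ a, ρ b * (ρ y)⁻¹⁆ = 1 := commutatorElement_eq_one_iff_mul_comm.2
          ((hb' a (hTE ha)).mul_right (ha' y hy).symm.inv_right).eq
        have hA2 : ⁅(ρ x)⁻¹, ρ b⁆ = 1 :=
          commutatorElement_eq_one_iff_mul_comm.2 (hb' x hx).inv_left.eq
        have hA3 : Commute (ρ a) ⁅(ρ x)⁻¹, (ρ y)⁻¹⁆ := by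
          rw [← map_inv, ← map_inv]
          exact hc _ (E.inv_mem hx) _ (E.inv_mem hy) a (hTE ha)
        have hA4 : Commute (ρ b) ⁅(ρ x)⁻¹, (ρ y)⁻¹⁆ := by
          rw [← map_inv, ← map_inv]
          exact hc _ (E.inv_mem hx) _ (E.inv_mem hy) b (hTE hb)
        rw [commutatorElement_mul_left_eq_conj_mul, hA1, mul_one,
          commutatorElement_mul_right_eq_mul_conj, hA2, one_mul, hA4.eq, mul_inv_cancel_right,
          hA3.eq, mul_inv_cancel_right]
      rw [hab]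
      have h5 := hc x hx y hy
      have e5 : ⁅(ρ x)⁻¹, (ρ y)⁻¹⁆ = (ρ y * ρ x)⁻¹ * ⁅ρ x, ρ y⁆ * (ρ y * ρ x) := by
        rw [commutatorElement_def, commutatorElement_def]; group
      rw [e5, mul_assoc, ← ((h5 y hy).mul_left (h5 x hx)).eq, inv_mul_cancel_left]
    rw [h3] at h2
    rw [← hρ1, map_pow, sq]
    exact h2
  have hpow : ∀ x ∈ E, x ^ p ∈ U := by
    intro x hx
    refine hfixU _ (H.heis_pow h hE x hx) fun y hy => ?_
    have hz := hUc _ (hcomm y hy x hx)
    rw [map_commutatorElement] at hz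
    rw [← hπ1, map_commutatorElement, map_pow,
      RankThree.comm_pow_right (show Commute (π x) ⁅π y, π x⁆ from mem_center_iff.1 hz _),
      ← map_commutatorElement, ← map_pow, hπ1]
    exact pow_mem_frattiniIn hG (hUT (hcomm y hy x hx))
  have h4 := section_bound P.sec E U (hUT.trans hTE) hcomm hpow
  rw [H.heis_card h hE, hT3, hV1c] at h4
  have h5 : 0 < p ^ 4 * Nat.card Φ := Nat.mul_pos (pow_pos hp.out.pos 4) Nat.card_pos
  nlinarith [hp.out.two_le]

set_option maxHeartbeats 1000000 in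
/-- The group does not act faithfully on the Frattini quotient of the core. -/
theorem IsPair.faithful_false (hCM : centM P.invCore = P.invCore) : False := by
  have hG := P.isP
  set T := P.invCore with hTdef
  set D := E₁ ⊓ E₂ with hDdef
  haveI := P.normal E₁ H.left
  haveI := P.normal E₂ H.right
  haveI hDn : D.Normal := Subgroup.normal_inf_normal E₁ E₂
  have hTD : T ≤ D := le_inf (P.inv_invCore H.left).le (P.inv_invCore H.right).le
  have hcD : Nat.card D = p * Nat.card T := H.heis_card_inf h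
  obtain ⟨w, hw, hwT⟩ : ∃ w ∈ D, w ∉ T := SetLike.exists_of_lt (lt_of_le_of_ne hTD fun h' => by
    rw [← h'] at hcD
    have := hp.out.two_le
    have h2 : 0 < Nat.card T := Nat.card_pos
    nlinarith)
  have hTw : T ⊔ zpowers w = D :=
    (eq_or_eq_of_card hG le_sup_left (sup_le hTD (zpowers_le.2 hw)) hcD).resolve_left
      fun h' => hwT (h'.le (mem_sup_right (mem_zpowers w)))
  have hwc : ∀ g : G, ⁅g, w⁆ ∈ centM T := fun g => hCM.ge (H.heis_inf_central h g hw)
  have hidx : p ^ 2 < (centM T).index := by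
    rw [hCM, show T.index = Nat.card (G ⧸ T) from rfl, h.1]
    exact Nat.pow_lt_pow_right hp.out.one_lt (by norm_num)
  have hwM : w ∉ centM T := fun h' => hwT (hCM.le h')
  obtain ⟨hT3, hV1c, hV2c, hV12⟩ := disp_rank_one hG hwc P.sec hwM hidx
  set Φ := frattiniIn T with hΦ
  set V₁ := dispImg hG T w with hV1
  set V₂ := dispKer hG T w with hV2
  haveI hV1n : V₁.Normal := dispImg_normal hG hwc
  haveI hV2n : V₂.Normal := dispKer_normal hG hwc
  set π := QuotientGroup.mk' Φ with hπ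
  have hπ1 : ∀ y, π y = 1 ↔ y ∈ Φ := fun y => QuotientGroup.eq_one_iff y
  have hV1step : ∀ g : G, ∀ v ∈ V₁, ⁅g, v⁆ ∈ Φ := fun g v hv =>
    comm_mem_of_card_step hG inferInstance hV1n (phi_le_dispImg hG) hV1c g hv
  have hV2T : V₂ ≤ T := dispKer_le hG
  have hV1T : V₁ ≤ T := hV12.trans hV2T
  have hTc : ∀ a ∈ T, ∀ b ∈ T, Commute (π a) (π b) := fun a ha b hb => by
    rw [Commute, SemiconjBy, ← commutatorElement_eq_one_iff_mul_comm, ← map_commutatorElement, hπ1]
    exact comm_mem_frattiniIn hG ha hb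
  have hD : ∀ x ∈ D, ∃ i : ℕ, (w ^ i)⁻¹ * x ∈ T := fun x hx =>
    exists_pow_of_mem_sup T (hTw.ge hx)
  -- the dichotomy for one essential subgroup
  have key : ∀ E ∈ P.ess, ∃ e ∈ E, D ⊔ zpowers e = E ∧
      ((∀ t ∈ T, ⁅e, t⁆ ∈ V₂) ∧ (∀ v ∈ V₂, ⁅e, v⁆ ∈ Φ) ∨
        (∀ t ∈ T, ⁅e, t⁆ ∈ V₁) ∧ ∃ v ∈ V₂, ⁅e, v⁆ ∉ Φ) := by
    intro E hE
    have hTE := (P.inv_invCore hE).le
    rw [← hTdef] at hTE
    haveI := P.normal E hE
    have hDE : D ≤ E := by
      rcases H.eq E hE with rfl | rfl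
      exacts [inf_le_left, inf_le_right]
    have hwE : w ∈ E := hDE hw
    obtain ⟨a, ha, d, hd, had⟩ := H.heis_inf_moved h hE
    obtain ⟨i, hi⟩ := hD d hd
    set e := ap a w with he
    have heD : e ∉ D := by
      intro h'
      refine had ?_
      rw [show d = w ^ i * ((w ^ i)⁻¹ * d) by rw [mul_inv_cancel_left],
        ap_map_mul a (E.pow_mem hwE i) (hTE hi), ap_map_pow a hwE]
      exact D.mul_mem (D.pow_mem h' i) (hTD ((P.inv_invCore hE).inv a ha _ hi))
    have heE : e ∈ E := ap_mem a hwE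
    have hinvT := (P.inv_invCore hE).inv
    rw [← hTdef] at hinvT
    refine ⟨e, heE, (eq_or_eq_of_card hG le_sup_left (sup_le hDE (zpowers_le.2 heE))
      (by rw [hcD, H.heis_card h hE]; ring)).resolve_left
        fun h' => heD (h'.le (mem_sup_right (mem_zpowers e))), ?_⟩
    set W₁ := img a V₁ with hW1
    set W₂ := img a V₂ with hW2
    have hPW1 : Φ ≤ W₁ := fun y hy => (mem_img a).2 ⟨ap a⁻¹ y, phi_le_dispImg hG
      (ap_phi hG hTE (hinvT _ (inv_mem ha)) hy), ap_mem _ (hTE (frattiniIn_le T hy)),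
      ap_ap_inv a (hTE (frattiniIn_le T hy))⟩
    have hW1T : W₁ ≤ T := fun y hy => by
      obtain ⟨x, hx, -, rfl⟩ := (mem_img a).1 hy
      exact hinvT a ha x (hV1T hx)
    have hW2T : W₂ ≤ T := fun y hy => by
      obtain ⟨x, hx, -, rfl⟩ := (mem_img a).1 hy
      exact hinvT a ha x (hV2T hx)
    have hW1c : Nat.card W₁ = p * Nat.card Φ := by rw [hW1, card_img a (hV1T.trans hTE), hV1c]
    have hW2c : Nat.card W₂ = p ^ 2 * Nat.card Φ := by rw [hW2, card_img a (hV2T.trans hTE), hV2c]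
    have himg : ∀ t ∈ T, ⁅e, t⁆ ∈ W₁ := fun t ht => by
      have ht' := hinvT _ (inv_mem ha) t ht
      rw [he, ← ap_ap_inv a (hTE ht), ← ap_map_comm a hwE (hTE ht')]
      exact ap_mem_img a (comm_mem_dispImg hG ht') (hTE (comm_mem_T w ht'))
    have hker : ∀ t ∈ W₂, ⁅e, t⁆ ∈ Φ := by
      intro t ht
      obtain ⟨x, hx, hxE, rfl⟩ := (mem_img a).1 ht
      rw [he, ← ap_map_comm a hwE hxE]
      exact ap_phi hG hTE (hinvT a ha) ((mem_dispKer hG).1 hx).2
    have hker' : ∀ t ∈ T, ⁅e, t⁆ ∈ Φ → t ∈ W₂ := fun t ht h' => by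
      have ht' := hinvT _ (inv_mem ha) t ht
      refine (mem_img a).2 ⟨_, (mem_dispKer hG).2 ⟨ht', ?_⟩, hTE ht', ap_ap_inv a (hTE ht)⟩
      rw [show w = ap a⁻¹ e by rw [he, ap_inv_ap a hwE], ← ap_map_comm a⁻¹ heE (hTE ht)]
      exact ap_phi hG hTE (hinvT _ (inv_mem ha)) h'
    by_cases hW : W₁ = V₁
    · by_cases hk : ∀ v ∈ V₂, ⁅e, v⁆ ∈ Φ
      · exact Or.inl ⟨fun t ht => hV12 (hW.le (himg t ht)), hk⟩
      · push Not at hk
        exact Or.inr ⟨fun t ht => hW.le (himg t ht), hk⟩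
    -- `w` fixes the image, `e` fixes `V₁`
    obtain ⟨α, hαA, hαI, hα⟩ := P.exists_conj hE w
    obtain ⟨k, hk⟩ := P.isPGroup_inner hE ⟨α, hαI⟩
    have hαW : ∀ y ∈ W₁, ap α y ∈ W₁ := fun y hy => by
      rw [hα y (hTE (hW1T hy))]
      exact conj_mem_img a (fun e' _ x hx => hV1n.conj_mem x hx e') w hwE y hy
    have hmv := (moves_of_step hG hPW1 (hW1T.trans hTE) hW1c.le
      (fun x hx => ap_phi hG hTE (hinvT α hαA) hx) hαW ⟨k, congrArg Subtype.val hk⟩).2
    have hW1V2 : W₁ ≤ V₂ := fun y hy => (mem_dispKer hG).2 ⟨hW1T hy, by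
      rw [commutatorElement_def, ← hα y (hTE (hW1T hy))]; exact hmv y hy⟩
    have hV1W2 : V₁ ≤ W₂ := fun y hy => hker' y (hV1T hy) (hV1step e y hy)
    have hW12 : W₁ ≤ W₂ := img_mono a hV12
    have hsup : W₁ ⊔ V₁ = V₂ := by
      refine eq_of_card_le (sup_le hW1V2 hV12) ?_
      have h1 := card_mul_le_of_lt hG (N := V₁) (L := W₁ ⊔ V₁) (lt_of_le_of_ne le_sup_right fun h' =>
        hW (eq_of_card_le (sup_eq_right.1 h'.symm) (by rw [hV1c, hW1c])))
      rw [hV1c] at h1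
      rw [hV2c]
      exact le_of_eq_of_le (by ring) h1
    have hVW : W₂ = V₂ :=
      (eq_of_card_le (hsup.ge.trans (sup_le hW12 hV1W2)) (by rw [hW2c, hV2c])).symm
    exact Or.inl ⟨fun t ht => hW1V2 (himg t ht), fun v hv => hker v (hVW.ge hv)⟩
  -- the common centre is not both
  obtain ⟨e₁, he₁, hs₁, c₁⟩ := key E₁ H.left
  obtain ⟨e₂, he₂, hs₂, c₂⟩ := key E₂ H.right
  rcases c₁ with c₁ | c₁
  rcases c₂ with c₂ | c₂
  · -- both kill `V₂`: then the quotient would be abelian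
    have hc : ⁅e₁, e₂⁆ ∈ T := hCM.le (comm_mem_centM hG c₁.1 c₂.1 c₁.2 c₂.2 hV2T)
    obtain ⟨-, u, v, huv⟩ := id h
    refine huv ?_
    obtain ⟨u, rfl⟩ := QuotientGroup.mk'_surjective T u
    obtain ⟨v, rfl⟩ := QuotientGroup.mk'_surjective T v
    set q := QuotientGroup.mk' T
    have hq : ∀ x y : G, ⁅x, y⁆ ∈ T → q x * q y = q y * q x := fun x y hxy => by
      rw [← commutatorElement_eq_one_iff_mul_comm, ← map_commutatorElement]
      exact (QuotientGroup.eq_one_iff _).2 hxy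
    have hDc : ∀ d ∈ D, ∀ y : G, q d * q y = q y * q d := fun d hd y =>
      (hq y d (H.heis_inf_central h y hd)).symm
    have hall : ∀ z : G, q z ∈ center (G ⧸ T) := by
      have hgen : ∀ x ∈ ({e₁, e₂} : Set G), (⊤ : Subgroup G) ≤
          (centralizer ({q x} : Set (G ⧸ T))).comap q := by
        intro x hx
        rw [← H.sup_eq_top, ← hs₁, ← hs₂]
        refine sup_le (sup_le (fun d hd => mem_centralizer_singleton_iff.2 (hDc d hd x))
          (zpowers_le.2 (mem_centralizer_singleton_iff.2 ?_)))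
          (sup_le (fun d hd => mem_centralizer_singleton_iff.2 (hDc d hd x))
          (zpowers_le.2 (mem_centralizer_singleton_iff.2 ?_)))
        · rcases hx with rfl | rfl
          exacts [rfl, hq e₁ _ hc]
        · rcases hx with rfl | rfl
          exacts [(hq _ e₂ hc).symm, rfl]
      intro z
      have hc' : (⊤ : Subgroup G) ≤ (center (G ⧸ T)).comap q := by
        rw [← H.sup_eq_top, ← hs₁, ← hs₂]
        refine sup_le (sup_le (fun d hd => ?_) (zpowers_le.2 ?_)) (sup_le (fun d hd => ?_)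
          (zpowers_le.2 ?_))
        all_goals refine mem_center_iff.2 fun r => ?_
        all_goals obtain ⟨r, rfl⟩ := QuotientGroup.mk'_surjective T r
        exacts [(hDc d hd r).symm, mem_centralizer_singleton_iff.1 (hgen e₁ (Or.inl rfl) (mem_top r)),
          (hDc d hd r).symm, mem_centralizer_singleton_iff.1 (hgen e₂ (Or.inr rfl) (mem_top r))]
      exact hc' (mem_top z)
    rw [commutatorElement_eq_one_iff_mul_comm]
    exact mem_center_iff.1 (hall v) (q u)
  · exact H.single_centre_false h H.right hTw hw hwc hT3 hV1c hV2c hV12 hs₂ c₂.1 c₂.2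
  · exact H.single_centre_false h H.left hTw hw hwc hT3 hV1c hV2c hV12 hs₁ c₁.1 c₁.2

end Pre

end Cfsg.Lib.FusionSys.SecThree
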