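import Cfsg.Agent.Lib.FusionSys.SecThree.Sys
import Cfsg.Agent.Lib.PGroup.FrattiniStab

/-!
# Action on the Frattini quotient of an invariant subgroup
-/

set_option linter.style.haveILetI false
set_option autoImplicit false

namespace Cfsg.Lib.FusionSys.SecThree

open Subgroup RankThree
open scoped commutatorElement

variable {G : Type*} [Group G] [Finite G] {p : ℕ} [hp : Fact p.Prime]

omit [Finite G] hp in
theorem comm_map {E : Subgroup G} (a : MulAut E) {x y : G} (hx : x ∈ E) (hy : y ∈ E) :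
    ap a ⁅x, y⁆ = ⁅ap a x, ap a y⁆ := ap_map_comm a hx hy

omit [Finite G] hp in
/-- Conjugates of a commutator. -/
theorem conj_comm (g x y : G) : g * ⁅x, y⁆ * g⁻¹ = ⁅g * x * g⁻¹, g * y * g⁻¹⁆ := by
  rw [commutatorElement_def, commutatorElement_def]
  group

/-- The Frattini subgroup of `T` is invariant under automorphisms preserving `T`. -/
theorem ap_phi (hG : IsPGroup p G) {E T : Subgroup G} (hTE : T ≤ E) {a : MulAut E}
    (ha : ∀ t ∈ T, ap a t ∈ T) {x : G} (hx : x ∈ frattiniIn T) : ap a x ∈ frattiniIn T := by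
  have hPE : frattiniIn T ≤ E := (frattiniIn_le T).trans hTE
  have h1 : frattiniIn T ≤ img a⁻¹ (frattiniIn T) := by
    refine frattiniIn_le_of hG (fun v hv w hw => ?_) fun v hv => ?_
    · refine (mem_img a⁻¹).2 ⟨_, comm_mem_frattiniIn hG (ha v hv) (ha w hw),
        hPE (comm_mem_frattiniIn hG (ha v hv) (ha w hw)), ?_⟩
      rw [comm_map a⁻¹ (ap_mem a (hTE hv)) (ap_mem a (hTE hw)), ap_inv_ap a (hTE hv),
        ap_inv_ap a (hTE hw)]
    · refine (mem_img a⁻¹).2 ⟨_, pow_mem_frattiniIn hG (ha v hv),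
        hPE (pow_mem_frattiniIn hG (ha v hv)), ?_⟩
      rw [ap_map_pow a⁻¹ (ap_mem a (hTE hv)), ap_inv_ap a (hTE hv)]
  obtain ⟨y, hy, hyE, rfl⟩ := (mem_img a⁻¹).1 (h1 hx)
  rw [ap_ap_inv a hyE]
  exact hy

/-- The elements acting trivially on the Frattini quotient of `T`. -/
def centM (T : Subgroup G) [T.Normal] : Subgroup G where
  carrier := {g | ∀ t ∈ T, ⁅g, t⁆ ∈ frattiniIn T}
  one_mem' := fun t _ => by rw [commutatorElement_one_left]; exact one_mem _
  mul_mem' := fun {g h} hg hh t ht => by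
    rw [commutatorElement_mul_left_eq_conj_mul]
    exact mul_mem ((inferInstance : (frattiniIn T).Normal).conj_mem _ (hh t ht) g) (hg t ht)
  inv_mem' := fun {g} hg t ht => by
    rw [show ⁅g⁻¹, t⁆ = g⁻¹ * ⁅g, t⁆⁻¹ * g⁻¹⁻¹ by rw [commutatorElement_def, commutatorElement_def]; group]
    exact (inferInstance : (frattiniIn T).Normal).conj_mem _ (inv_mem (hg t ht)) g⁻¹

omit [Finite G] hp in
theorem mem_centM {T : Subgroup G} [T.Normal] {g : G} :
    g ∈ centM T ↔ ∀ t ∈ T, ⁅g, t⁆ ∈ frattiniIn T := Iff.rfl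

omit [Finite G] hp in
instance centM_normal (T : Subgroup G) [T.Normal] : (centM T).Normal := by
  refine ⟨fun n hn g t ht => ?_⟩
  rw [show t = g * (g⁻¹ * t * g) * g⁻¹ by group, ← conj_comm]
  exact (inferInstance : (frattiniIn T).Normal).conj_mem _
    (hn _ ((inferInstance : T.Normal).conj_mem' t ht g)) g

theorem le_centM (hG : IsPGroup p G) (T : Subgroup G) [T.Normal] : T ≤ centM T :=
  fun _ hv _ ht => comm_mem_frattiniIn hG hv ht

omit [Finite G] hp in
theorem comm_congr {T : Subgroup G} [T.Normal] {g h : G} (hh : g⁻¹ * h ∈ centM T) {t : G}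
    (ht : t ∈ T) : ⁅g, t⁆⁻¹ * ⁅h, t⁆ ∈ frattiniIn T := by
  have h1 := hh t ht
  rw [show h = g * (g⁻¹ * h) by group, commutatorElement_mul_left_eq_conj_mul]
  have h2 := (inferInstance : (frattiniIn T).Normal).conj_mem _
    ((inferInstance : (frattiniIn T).Normal).conj_mem _ h1 g) ⁅g, t⁆⁻¹
  simpa [mul_assoc] using h2

/-- An automorphism of `E` preserving `T` maps elements of `E` trivial on the quotient to such. -/
theorem ap_centM (hG : IsPGroup p G) {E T : Subgroup G} [T.Normal] (hTE : T ≤ E) {a : MulAut E}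
    (ha : ∀ t ∈ T, ap a t ∈ T) (ha' : ∀ t ∈ T, ap a⁻¹ t ∈ T) {e : G} (he : e ∈ E)
    (hc : e ∈ centM T) : ap a e ∈ centM T := fun t ht => by
  rw [← ap_ap_inv a (hTE ht), ← comm_map a he (ap_mem _ (hTE ht))]
  exact ap_phi hG hTE ha (hc _ (ha' t ht))

/-- The quotient of `T` by its Frattini subgroup has order at most `p ^ 3`. -/
theorem card_le_phi (hG : IsPGroup p G) (hsr : Cfsg.SectionalPRankLE p 3 G) (T : Subgroup G)
    [T.Normal] : Nat.card T ≤ p ^ 3 * Nat.card (frattiniIn T) :=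
  section_bound hsr T (frattiniIn T) (frattiniIn_le T)
    (fun _ ha _ hb => comm_mem_frattiniIn hG ha hb) fun _ ha => pow_mem_frattiniIn hG ha

/-- A proper pair of normal subgroups has a central element between them. -/
theorem exists_central_between (hG : IsPGroup p G) {N W : Subgroup G} [N.Normal] [W.Normal]
    (h : N < W) : ∃ w ∈ W, w ∉ N ∧ w ^ p ∈ N ∧ ∀ g : G, ⁅g, w⁆ ∈ N := by
  set π := QuotientGroup.mk' N
  haveI : (W.map π).Normal := Normal.map inferInstance π (QuotientGroup.mk'_surjective N)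
  obtain ⟨z, ⟨w, hw, rfl⟩, hzc, hz⟩ := Cfsg.Lib.PGroup.exists_mem_center_orderOf_eq
    (hG.to_quotient N) (N := W.map π) fun hb => h.not_ge fun x hx => by
      have h1 : π x ∈ W.map π := mem_map_of_mem π hx
      rw [hb, mem_bot] at h1
      exact (QuotientGroup.eq_one_iff x).1 h1
  refine ⟨w, hw, fun hN => ?_, ?_, fun g => ?_⟩
  · rw [show π w = 1 from (QuotientGroup.eq_one_iff w).2 hN, orderOf_one] at hz
    exact hp.out.ne_one hz.symm
  · refine (QuotientGroup.eq_one_iff _).1 ?_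
    show π (w ^ p) = 1
    rw [map_pow, ← hz, pow_orderOf_eq_one]
  · rw [← QuotientGroup.ker_mk' N, MonoidHom.mem_ker, map_commutatorElement]
    exact commutatorElement_eq_one_iff_mul_comm.2 (mem_center_iff.1 hzc _)

/-- An element acting trivially on the Frattini quotient of `T` has a `p`-power fixing `T`. -/
theorem fix_of_moves_phi (hG : IsPGroup p G) {E T : Subgroup G} (hTE : T ≤ E) {a : MulAut E}
    (haT : ∀ t ∈ T, ap a t ∈ T) (ha : a ∈ moves E T (frattiniIn T) hTE) :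
    ∃ n : ℕ, ∀ t ∈ T, ap (a ^ p ^ n) t = t := by
  let M : Subgroup (MulAut E) := zpowers a
  have hM : ∀ b ∈ M, ∀ t ∈ T, ap b t ∈ T := by
    haveI := finite_mulAut E
    intro b hb
    obtain ⟨n, hn⟩ := mem_powers_iff_mem_zpowers.2 hb
    rw [← (show a ^ n = b from hn)]
    clear hn
    induction n with
    | zero => intro t ht; rw [pow_zero, ap_one_apply]; exact ht
    | succ n ih =>
      intro t ht
      rw [pow_succ, ap_mul_apply _ _ (hTE ht)]
      exact ih _ (haT t ht)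
  set r := res T hTE M hM ⟨a, mem_zpowers a⟩ with hr
  have hst : r ∈ Cfsg.Lib.PGroup.frattiniStab T := by
    intro x
    obtain ⟨y, hy, hyx⟩ := ha.2 x x.2
    have h1 : y = r x * x⁻¹ := Subtype.ext (by simpa [hr, res] using hyx)
    rw [show x⁻¹ * r x = x⁻¹ * (r x * x⁻¹) * x⁻¹⁻¹ by group, ← h1]
    exact (inferInstance : (frattini T).Normal).conj_mem y hy _
  obtain ⟨n, hn⟩ := Cfsg.Lib.PGroup.isPGroup_frattiniStab (hG.to_subgroup T) ⟨r, hst⟩
  refine ⟨n, fun t ht => ?_⟩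
  have h2 : r ^ p ^ n = 1 := congrArg Subtype.val hn
  rw [hr, ← map_pow] at h2
  have h3 := congrArg (fun b : MulAut T => ((b ⟨t, ht⟩ : T) : G)) h2
  simpa [res] using h3

/-- Automorphisms trivial on the Frattini quotient of `T`, with a `p`-power moving `E` into `T`,
form a `p`-group. -/
theorem isPGroup_bottom (hG : IsPGroup p G) {E T : Subgroup G} (hTE : T ≤ E)
    {M : Subgroup (MulAut E)} (hMT : ∀ a ∈ M, ∀ t ∈ T, ap a t ∈ T)
    (hM : M ≤ moves E T (frattiniIn T) hTE)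
    (htop : ∀ a ∈ M, ∃ n : ℕ, a ^ p ^ n ∈ moves E E T le_rfl) : IsPGroup p M := by
  obtain ⟨N, hN⟩ := exists_pow_card (p := p) hG
  rintro ⟨a, ha⟩
  obtain ⟨n, hn⟩ := htop a ha
  have hb : a ^ p ^ n ∈ M := M.pow_mem ha _
  obtain ⟨m, hm⟩ := fix_of_moves_phi hG hTE (hMT _ hb) (hM hb)
  refine ⟨n + m + N, Subtype.ext (ap_ext _ _ fun x hx => ?_)⟩
  rw [SubmonoidClass.coe_pow, OneMemClass.coe_one, ap_one_apply, pow_add, pow_add, pow_mul, pow_mul]
  exact fix_step le_rfl (fun t ht _ => hm t ht) (stab_pow le_rfl hn.1 hn.2 _) _ (fun t _ => hN t) x hx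

omit hp in
/-- An element of `p`-power order acts trivially on an invariant step of order `p`. -/
theorem moves_of_step [Fact p.Prime] (hG : IsPGroup p G) {E L₀ L₁ : Subgroup G} [L₀.Normal]
    (h0 : L₀ ≤ L₁) (h1 : L₁ ≤ E) (hc : Nat.card L₁ ≤ p * Nat.card L₀) {a : MulAut E}
    (ha0 : ∀ x ∈ L₀, ap a x ∈ L₀) (ha1 : ∀ x ∈ L₁, ap a x ∈ L₁) (hp' : ∃ k : ℕ, a ^ p ^ k = 1) :
    a ∈ moves E L₁ L₀ h1 := by
  refine ⟨fun x hx _ => ha0 x hx, fun x hx => ?_⟩
  by_cases hxL : x ∈ L₀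
  · exact mul_mem (ha0 x hxL) (inv_mem hxL)
  have hsup : L₀ ⊔ zpowers x = L₁ :=
    eq_of_card_le (sup_le h0 (zpowers_le.2 hx)) (hc.trans (card_lt_sup_zpowers hG L₀ hxL))
  obtain ⟨k, hk⟩ := hp'
  set π := QuotientGroup.mk' L₀ with hπ
  have hxE : x ∈ E := h1 hx
  have hxp : π x ^ p = 1 := by
    have hcard : Nat.card ↥(L₁.map π) = p := by
      rw [← Subgroup.relIndex_ker, hπ, QuotientGroup.ker_mk']
      have h2 := Subgroup.card_mul_index (L₀.subgroupOf L₁)
      have h3 : Nat.card L₁ = p * Nat.card L₀ :=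
        le_antisymm hc ((card_lt_sup_zpowers hG L₀ hxL).trans (card_le_of_le hsup.le))
      rw [Nat.card_congr (subgroupOfEquivOfLe h0).toEquiv, h3, mul_comm p] at h2
      exact Nat.eq_of_mul_eq_mul_left Nat.card_pos h2
    have h := congrArg Subtype.val (pow_card_eq_one' (x := (⟨π x, mem_map_of_mem π hx⟩ : L₁.map π)))
    rw [hcard] at h
    exact h
  obtain ⟨j, hj⟩ := exists_pow_of_mem_sup L₀ (hsup.ge (ha1 x hx))
  have hj' : π (ap a x) = π x ^ j := by
    rw [← map_pow, eq_comm, ← inv_mul_eq_one, ← map_inv, ← map_mul]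
    exact (QuotientGroup.eq_one_iff _).2 hj
  have key : ∀ n : ℕ, π (ap (a ^ n) x) = π x ^ j ^ n := by
    intro n
    induction n with
    | zero => rw [pow_zero, pow_zero, pow_one, ap_one_apply]
    | succ n ih =>
      have h2 : π ((x ^ j ^ n)⁻¹ * ap (a ^ n) x) = 1 := by
        rw [map_mul, map_inv, map_pow, ih, inv_mul_cancel]
      have hy := (QuotientGroup.eq_one_iff _).1 h2
      have h3 : π (ap a ((x ^ j ^ n)⁻¹ * ap (a ^ n) x)) = 1 :=
        (QuotientGroup.eq_one_iff _).2 (ha0 _ hy)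
      rw [ap_map_mul a (E.inv_mem (E.pow_mem hxE _)) (ap_mem _ hxE), ap_map_inv a (E.pow_mem hxE _),
        ap_map_pow a hxE, map_mul, map_inv, map_pow, hj', inv_mul_eq_one] at h3
      rw [pow_succ' a, ap_mul_apply _ _ hxE, ← h3, ← pow_mul, pow_succ' j]
  have h4 := key (p ^ k)
  rw [hk, ap_one_apply] at h4
  have h5 : ((j ^ p ^ k : ℕ) : ZMod p) = (j : ZMod p) := by
    rw [Nat.cast_pow, ZMod.pow_card_pow]
  rw [Plane.pow_eq_pow_of_modEq hxp ((ZMod.natCast_eq_natCast_iff _ _ _).1 h5), ← hj'] at h4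
  refine (QuotientGroup.eq_one_iff _).1 ?_
  show π (ap a x * x⁻¹) = 1
  rw [map_mul, map_inv, ← h4, mul_inv_cancel]

end Cfsg.Lib.FusionSys.SecThree
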