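import Cfsg.Agent.Lib.FusionSys.SecThree.Faithful

/-!
# A quotient of order `p ^ 3` forces class two
-/

set_option linter.style.haveILetI false
set_option linter.unusedSectionVars false
set_option autoImplicit false

namespace Cfsg.Lib.FusionSys.SecThree

open Subgroup RankThree
open scoped commutatorElement

variable {G : Type*} [Group G] [Finite G] {p : ℕ} [hp : Fact p.Prime]

namespace Pre

variable {P : Pre p G} {E₁ E₂ : Subgroup G} [P.invCore.Normal] (H : P.IsPair E₁ E₂)
include H

/-- When `E` centralises the Frattini quotient of the core, one gets a torus inverting `E` modulo the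
core and fixing the core pointwise. -/
theorem IsPair.exists_torus_heis (h : HeisRels p (G ⧸ P.invCore))
    (htop : ∀ g : G, g ∈ centM P.invCore) {E : Subgroup G} (hE : E ∈ P.ess) :
    (∀ x ∈ E, ∀ u ∈ P.invCore, x * u = u * x) ∧
      ∃ τ ∈ P.autS, (∀ u ∈ P.invCore, τ u = u) ∧ ∀ x ∈ E, τ x * x ∈ P.invCore := by
  have hG := P.isP
  set T := P.invCore with hTdef
  have hTE : T ≤ E := (P.inv_invCore hE).le
  have hinvT : ∀ a ∈ P.aut E, ∀ t ∈ T, ap a t ∈ T := (P.inv_invCore hE).inv
  set D := E₁ ⊓ E₂ with hD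
  haveI := P.normal E₁ H.left
  haveI := P.normal E₂ H.right
  haveI : D.Normal := Subgroup.normal_inf_normal E₁ E₂
  have hTD : T ≤ D := le_inf (P.inv_invCore H.left).le (P.inv_invCore H.right).le
  have hDE : D ≤ E := by
    rcases H.eq E hE with rfl | rfl
    exacts [inf_le_left, inf_le_right]
  have hcE : Nat.card E = p * Nat.card D := by
    rw [H.heis_card h hE, H.heis_card_inf h]; ring
  obtain ⟨t, htK, ⟨n, hn⟩, htinv, τ, hτ, hτt⟩ := P.exists_invert_top hE (U := T) (D := D) hTD hDE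
    (H.heis_card_inf h) hcE (H.heis_pow h hE) (P.aut E ⊓ moves E T (frattiniIn T) hTE) inf_le_left
    (fun a ha k hk => ⟨(P.aut E).mul_mem ((P.aut E).mul_mem ha hk.1) ((P.aut E).inv_mem ha),
      moves_conj a (fun x hx _ => ap_phi hG hTE (hinvT a ha) hx)
        (fun x hx _ => ap_phi hG hTE (hinvT _ (inv_mem ha)) hx)
        (fun x hx => hinvT _ (inv_mem ha) x hx) hk.2⟩)
    (fun a ha => by
      have haA := P.conj_mem E hE ha
      obtain ⟨g, -, hg⟩ := ha
      refine ⟨haA, fun x hx _ => ap_phi hG hTE (hinvT a haA) hx, fun x hx => ?_⟩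
      rw [hg x (hTE hx), ← commutatorElement_def]
      exact htop g x hx)
    hinvT (H.heis_cent h hE) (H.heis_inf_moved h hE)
  have hfix := fix_of_two hG P.odd hTE (hinvT t htK.1) htK.2 hn
  exact ⟨(centralises_of_invert hG P.odd P.sec hTD hDE (H.heis_card_inf h) hcE (H.heis_pow h hE) hn
    hfix htinv).1, τ, hτ, fun u hu => by rw [hτt u (hTE hu)]; exact hfix u hu,
    fun x hx => by rw [hτt x hx]; exact htinv x hx⟩

/-- The group centralises the Frattini quotient of the core. -/
theorem IsPair.heis_centM (h : HeisRels p (G ⧸ P.invCore)) : ∀ g : G, g ∈ centM P.invCore := by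
  have hG := P.isP
  set T := P.invCore with hTdef
  have hC : ∀ E ∈ P.ess, E ⊓ centM T = T ∨ E ⊓ centM T = E := fun E hE =>
    H.heis_between h hE (le_inf (P.inv_invCore hE).le (SecThree.le_centM hG T)) inf_le_left
      fun a ha y hy => ⟨ap_mem a hy.1, (P.inv_invCore hE).ap_centM ha hy.1 hy.2⟩
  have hDT : ¬ E₁ ⊓ E₂ ≤ T := fun h' => by
    have h1 := card_le_of_le h'
    rw [H.heis_card_inf h] at h1
    have := hp.out.two_le
    have h2 : 0 < Nat.card T := Nat.card_pos
    nlinarith
  intro g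
  rcases hC E₁ H.left with h1 | h1 <;> rcases hC E₂ H.right with h2 | h2
  · exfalso
    refine H.faithful_false h (le_antisymm ?_ (SecThree.le_centM hG T))
    by_contra hne
    have hlt : T < centM T := lt_of_le_not_ge (SecThree.le_centM hG T) hne
    obtain ⟨w, hw, hwT, -, hwc⟩ := exists_central_between hG hlt
    exact hwT (h1.le ⟨H.heis_cent h H.left w (fun x _ => by
      rw [← inv_mem_iff, commutatorElement_inv]; exact hwc x), hw⟩)
  · exact absurd (fun x hx => h1.le ⟨hx.1, (inf_eq_left.1 h2) hx.2⟩) hDT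
  · exact absurd (fun x hx => h2.le ⟨hx.2, (inf_eq_left.1 h1) hx.1⟩) hDT
  · have h3 : (⊤ : Subgroup G) ≤ centM T := H.sup_eq_top ▸ sup_le (inf_eq_left.1 h1) (inf_eq_left.1 h2)
    exact h3 (mem_top g)

/-- The intersection commutes with `E₁`. -/
theorem IsPair.heis_inf_commute (h : HeisRels p (G ⧸ P.invCore)) {x d : G} (hx : x ∈ E₁)
    (hd : d ∈ E₁ ⊓ E₂) : x * d = d * x := by
  have hG := P.isP
  set T := P.invCore with hTdef
  set D := E₁ ⊓ E₂ with hD
  haveI := P.normal E₁ H.left
  haveI := P.normal E₂ H.right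
  haveI : D.Normal := Subgroup.normal_inf_normal E₁ E₂
  obtain ⟨hc1, -⟩ := H.exists_torus_heis h (H.heis_centM h) H.left
  obtain ⟨hc2, τ, hτ, hτT, hτinv⟩ := H.exists_torus_heis h (H.heis_centM h) H.right
  have hTc : T ≤ center G := fun u hu => mem_center_iff.2 fun k => by
    have hle : (⊤ : Subgroup G) ≤ centralizer ({u} : Set G) := H.sup_eq_top ▸ sup_le
      (fun y hy => mem_centralizer_singleton_iff.2 (hc1 y hy u hu))
      (fun y hy => mem_centralizer_singleton_iff.2 (hc2 y hy u hu))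
    exact mem_centralizer_singleton_iff.1 (hle (mem_top k))
  have hTD : T ≤ D := le_inf (P.inv_invCore H.left).le (P.inv_invCore H.right).le
  have hcD := H.heis_card_inf h
  rw [← hTdef, ← hD] at hcD
  obtain ⟨y, hy, hyD⟩ : ∃ y ∈ E₂, y ∉ D := SetLike.exists_of_lt (lt_of_le_of_ne inf_le_right
    fun h' => by
      have h1 := H.heis_card h H.right
      rw [← h', hcD, ← hTdef] at h1
      have := hp.out.two_le
      have h2 : 0 < Nat.card T := Nat.card_pos
      nlinarith [Nat.mul_lt_mul_of_pos_right (show p < p ^ 2 by nlinarith) h2])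
  have hDab : ∀ a ∈ D, ∀ b ∈ D, a * b = b * a := by
    obtain ⟨w, hw, hwT⟩ : ∃ w ∈ D, w ∉ T := SetLike.exists_of_lt (lt_of_le_of_ne hTD fun h' => by
      rw [← h'] at hcD
      have := hp.out.two_le
      have h2 : 0 < Nat.card T := Nat.card_pos
      nlinarith)
    have hTw : T ⊔ zpowers w = D :=
      (eq_or_eq_of_card hG le_sup_left (sup_le hTD (zpowers_le.2 hw)) hcD).resolve_left
        fun h' => hwT (h'.le (mem_sup_right (mem_zpowers w)))
    intro a ha b hb
    exact comm_sup_zpowers (fun u hu v _ => (mem_center_iff.1 (hTc hu) v).symm)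
      (fun u hu => (mem_center_iff.1 (hTc hu) w).symm) a (hTw.ge ha) b (hTw.ge hb)
  by_cases hxD : x ∈ D
  · exact hDab x hxD d hd
  -- `τ x ∈ x D`
  set π := QuotientGroup.mk' T with hπ
  have hπ1 : ∀ u, π u = 1 ↔ u ∈ T := fun u => QuotientGroup.eq_one_iff u
  have hinv : ∀ u ∈ E₂, π (τ u) = (π u)⁻¹ := fun u hu => by
    rw [← mul_eq_one_iff_eq_inv, ← map_mul, hπ1]; exact hτinv u hu
  have hDπ : ∀ u ∈ D, π u ∈ center (G ⧸ T) := fun u hu => mem_center_iff.2 fun q =>
    QuotientGroup.induction_on q fun k => by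
      show π k * π u = π u * π k
      rw [← commutatorElement_eq_one_iff_mul_comm, ← map_commutatorElement, hπ1]
      exact H.heis_inf_central h k hu
  have hDx : D ⊔ zpowers x = E₁ := (eq_or_eq_of_card hG le_sup_left (sup_le inf_le_left
    (zpowers_le.2 hx)) (by rw [H.heis_card h H.left, hcD]; ring)).resolve_left
      fun h' => hxD (h'.le (mem_sup_right (mem_zpowers x)))
  have hne : ⁅π x, π y⁆ ≠ 1 := by
    intro h'
    refine hxD ⟨hx, H.heis_cent h H.right x fun u hu => ?_⟩
    rw [← hπ1, map_commutatorElement, commutatorElement_eq_one_iff_mul_comm]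
    have hDy : D ⊔ zpowers y = E₂ := (eq_or_eq_of_card hG le_sup_left (sup_le inf_le_right
      (zpowers_le.2 hy)) (by rw [H.heis_card h H.right, hcD]; ring)).resolve_left
        fun h'' => hyD (h''.le (mem_sup_right (mem_zpowers y)))
    have hle : E₂ ≤ (centralizer ({π x} : Set (G ⧸ T))).comap π := hDy.ge.trans (sup_le
      (fun v hv => mem_centralizer_singleton_iff.2 (mem_center_iff.1 (hDπ v hv) (π x)).symm)
      (zpowers_le.2 (mem_centralizer_singleton_iff.2
        (commutatorElement_eq_one_iff_mul_comm.1 h').symm)))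
    exact (mem_centralizer_singleton_iff.1 (hle hu)).symm
  obtain ⟨k, hk⟩ := exists_pow_of_mem_sup D (hDx.ge (H.autS_ess τ hτ E₁ H.left x hx))
  have hτx : τ x = x ^ k * ((x ^ k)⁻¹ * τ x) := (mul_inv_cancel_left _ _).symm
  have hcc : ⁅π x, π y⁆ ∈ center (G ⧸ T) := by
    rw [← map_commutatorElement]; exact hDπ _ (H.comm_mem_inf h x y)
  have hmod : k ≡ 1 [MOD p] := by
    have h2 : π (τ ⁅x, y⁆) = ⁅π x, π y⁆⁻¹ := by
      rw [hinv _ (H.comm_mem_inf h x y).2, map_commutatorElement]
    rw [map_commutatorElement τ, map_commutatorElement, hinv y hy, hτx, map_mul,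
      RankThree.comm_mul_central_left (hDπ _ hk), map_pow] at h2
    have h4 : ⁅π x, (π y)⁻¹⁆ = ⁅π x, π y⁆⁻¹ := by
      have h5 := RankThree.comm_mul_right_central (b := (π y)⁻¹) hcc
      rw [inv_mul_cancel, commutatorElement_one_right] at h5
      exact eq_inv_of_mul_eq_one_left h5.symm
    rw [RankThree.comm_pow_left (by rw [h4]; exact mem_center_iff.1 (inv_mem hcc) _), h4] at h2
    have ho : orderOf ⁅π x, π y⁆⁻¹ = p := orderOf_eq_prime (by
      rw [inv_pow, inv_eq_one, ← map_commutatorElement, ← map_pow, hπ1]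
      exact H.heis_pow h H.left _ (H.comm_mem_inf h x y).1) (inv_ne_one.2 hne)
    rw [← ho]
    exact pow_eq_pow_iff_modEq.1 (h2.trans (pow_one _).symm)
  have hτx2 : x⁻¹ * τ x ∈ D := by
    have h1 : π (x ^ k) = π x := by
      rw [map_pow, Plane.pow_eq_pow_of_modEq (by rw [← map_pow, hπ1]; exact H.heis_pow h H.left x hx)
        hmod, pow_one]
    have h3 : x⁻¹ * x ^ k ∈ T := QuotientGroup.eq.1 h1.symm
    have h4 := D.mul_mem (hTD h3) hk
    rwa [mul_assoc, mul_inv_cancel_left] at h4
  have hw : ⁅x, d⁆ ∈ T := H.heis_inf_central h x hd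
  have hwfix := hτT _ hw
  have hτd : τ d ∈ D := ⟨H.autS_ess τ hτ E₁ H.left d hd.1, H.autS_ess τ hτ E₂ H.right d hd.2⟩
  have hdd : ⁅x⁻¹ * τ x, τ d⁆ = 1 :=
    commutatorElement_eq_one_iff_mul_comm.2 (hDab _ hτx2 _ hτd)
  rw [map_commutatorElement, show τ x = x * (x⁻¹ * τ x) by rw [mul_inv_cancel_left],
    commutatorElement_mul_left_eq_conj_mul, hdd, mul_one, mul_inv_cancel, one_mul,
    show τ d = (τ d * d) * d⁻¹ by rw [mul_inv_cancel_right],
    ← mem_center_iff.1 (hTc (hτinv d hd.2)) d⁻¹,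
    RankThree.comm_mul_central_right (hTc (hτinv d hd.2))] at hwfix
  have h3 : ⁅x, d⁻¹⁆ = ⁅x, d⁆⁻¹ := by
    have h4 := RankThree.comm_mul_right_central (b := d⁻¹) (hTc hw)
    rw [inv_mul_cancel, commutatorElement_one_right] at h4
    exact eq_inv_of_mul_eq_one_left h4.symm
  rw [h3, inv_eq_iff_mul_eq_one, ← sq] at hwfix
  rw [← commutatorElement_eq_one_iff_mul_comm]
  obtain ⟨N, hN⟩ := exists_pow_card (p := p) hG
  exact eq_one_of_two_pow P.odd (n := 1) (by simpa using hwfix) (hN _)

/-- The group has class at most two. -/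
theorem IsPair.heis_class_two (h : HeisRels p (G ⧸ P.invCore)) (a b c : G) : ⁅⁅a, b⁆, c⁆ = 1 := by
  have hab := H.comm_mem_inf h a b
  have hle : (⊤ : Subgroup G) ≤ centralizer ({⁅a, b⁆} : Set G) := by
    rw [← H.sup_eq_top]
    refine sup_le (fun y hy => mem_centralizer_singleton_iff.2 (H.heis_inf_commute h hy hab))
      (fun y hy => mem_centralizer_singleton_iff.2 (H.symm.heis_inf_commute h hy ?_))
    exact ⟨hab.2, hab.1⟩
  rw [commutatorElement_eq_one_iff_mul_comm]
  exact (mem_centralizer_singleton_iff.1 (hle (mem_top c))).symm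

end Pre

end Cfsg.Lib.FusionSys.SecThree
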