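import Cfsg.Agent.Lib.FusionSys.SecThree.Shapes

/-!
# Inversion of a natural top factor of an essential subgroup
-/

set_option linter.style.haveILetI false
set_option autoImplicit false

namespace Cfsg.Lib.FusionSys.SecThree

open Subgroup RankThree
open scoped commutatorElement

variable {G : Type*} [Group G] [Finite G] {p : ℕ} [hp : Fact p.Prime]

/-- An element of two-power order trivial on the Frattini quotient of `T` fixes `T`. -/
theorem fix_of_two (hG : IsPGroup p G) (hp2 : p ≠ 2) {E T : Subgroup G} (hTE : T ≤ E) {a : MulAut E}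
    (haT : ∀ t ∈ T, ap a t ∈ T) (ha : a ∈ moves E T (frattiniIn T) hTE) {n : ℕ} (hn : a ^ 2 ^ n = 1) :
    ∀ t ∈ T, ap a t = t := by
  obtain ⟨k, hk⟩ := fix_of_moves_phi hG hTE haT ha
  have hco : Nat.Coprime (2 ^ n) (p ^ k) :=
    ((Nat.coprime_primes Nat.prime_two hp.out).2 (Ne.symm hp2)).pow _ _
  obtain ⟨m, hm⟩ := exists_pow_eq_self_of_coprime
    ((hco.coprime_dvd_left (orderOf_dvd_of_pow_eq_one hn)).symm)
  intro t ht
  rw [← hm, ap_pow_fix _ (hTE ht) (hk t ht)]

namespace Pre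

variable (P : Pre p G)

/-- Inversion of the natural quotient `E / U` inside a normal group of automorphisms. -/
theorem exists_invert_top {E U D : Subgroup G} (hE : E ∈ P.ess) [U.Normal] [D.Normal] (hUD : U ≤ D)
    (hDE : D ≤ E) (hcD : Nat.card D = p * Nat.card U) (hcE : Nat.card E = p * Nat.card D)
    (hpow : ∀ x ∈ E, x ^ p ∈ U) (K : Subgroup (MulAut E)) (hK : K ≤ P.aut E)
    (hKn : ∀ a ∈ P.aut E, ∀ k ∈ K, a * k * a⁻¹ ∈ K) (hRK : inner E ⊤ ≤ K)
    (hUinv : ∀ a ∈ P.aut E, ∀ u ∈ U, ap a u ∈ U) (hcent : ∀ g : G, (∀ x ∈ E, ⁅g, x⁆ ∈ U) → g ∈ E)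
    (hDn : ∃ γ ∈ P.aut E, ∃ d ∈ D, ap γ d ∉ D) :
    ∃ t ∈ K, (∃ n : ℕ, t ^ 2 ^ n = 1) ∧ (∀ x ∈ E, ap t x * x ∈ U) ∧
      ∃ τ ∈ P.autS, ∀ x ∈ E, τ x = ap t x := by
  have hG := P.isP
  obtain ⟨g, hg⟩ := P.exists_outer hE
  obtain ⟨α, hαA, hαI, hα⟩ := P.exists_conj hE g
  have hu1 : ∃ x ∈ E, ap α x * x⁻¹ ∉ U := by
    by_contra h
    push Not at h
    exact hg (hcent g fun x hx => by rw [commutatorElement_def, ← hα x hx]; exact h x hx)
  obtain ⟨γ, hγ, d, hd, hγd⟩ := hDn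
  have hdU : d ∉ U := fun h => hγd (hUD (hUinv γ hγ d h))
  have hde : ap α d * d⁻¹ ∈ U := by
    rw [hα d (hDE hd), ← commutatorElement_def]
    exact comm_mem_of_card_step hG inferInstance inferInstance hUD hcD g hd
  have hlK : γ * α * γ⁻¹ ∈ K := hKn γ hγ α (hRK hαI)
  have hUd : U ⊔ zpowers d = D :=
    (eq_or_eq_of_card hG le_sup_left (sup_le hUD (zpowers_le.2 hd)) hcD).resolve_left
      fun h => hdU (h.le (mem_sup_right (mem_zpowers d)))
  have hle : ap (γ * α * γ⁻¹) d ∉ U ⊔ zpowers d := by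
    rw [hUd]
    intro hl
    obtain ⟨k, hk⟩ := P.isPGroup_inner hE ⟨α, hαI⟩
    have hpk : (γ * α * γ⁻¹) ^ p ^ k = 1 := by
      rw [conj_pow, show α ^ p ^ k = 1 from congrArg Subtype.val hk, mul_one, mul_inv_cancel]
    have hlA := hK hlK
    have hlD : ∀ y ∈ D, ap (γ * α * γ⁻¹) y ∈ D := fun y hy => by
      obtain ⟨i, hi⟩ := exists_pow_of_mem_sup U (hUd.ge hy)
      have h1 : ap (γ * α * γ⁻¹) ((d ^ i) * ((d ^ i)⁻¹ * y)) ∈ D := by
        rw [ap_map_mul _ (E.pow_mem (hDE hd) i) (hDE (hUD hi)), ap_map_pow _ (hDE hd)]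
        exact D.mul_mem (D.pow_mem hl i) (hUD (hUinv _ hlA _ hi))
      rwa [mul_inv_cancel_left] at h1
    have hmv := moves_of_step hG hUD hDE hcD.le (hUinv _ hlA) hlD ⟨k, hpk⟩
    -- so it moves all of `E` into `U`
    let W : Subgroup G :=
      { carrier := {x | x ∈ E ∧ ap (γ * α * γ⁻¹) x * x⁻¹ ∈ U}
        one_mem' := ⟨E.one_mem, by rw [ap_map_one, inv_one, mul_one]; exact U.one_mem⟩
        mul_mem' := fun {a b} ha hb => ⟨E.mul_mem ha.1 hb.1, by
          rw [ap_map_mul _ ha.1 hb.1, mul_inv_rev,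
            show ap (γ * α * γ⁻¹) a * ap (γ * α * γ⁻¹) b * (b⁻¹ * a⁻¹) =
              ap (γ * α * γ⁻¹) a * (ap (γ * α * γ⁻¹) b * b⁻¹) * (ap (γ * α * γ⁻¹) a)⁻¹ *
                (ap (γ * α * γ⁻¹) a * a⁻¹) by group]
          exact U.mul_mem ((inferInstance : U.Normal).conj_mem _ hb.2 _) ha.2⟩
        inv_mem' := fun {a} ha => ⟨E.inv_mem ha.1, by
          rw [ap_map_inv _ ha.1, inv_inv, show (ap (γ * α * γ⁻¹) a)⁻¹ * a =
            a⁻¹ * (ap (γ * α * γ⁻¹) a * a⁻¹)⁻¹ * a⁻¹⁻¹ by group]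
          exact (inferInstance : U.Normal).conj_mem _ (U.inv_mem ha.2) _⟩ }
    have hγ' := ap_mem γ (hDE hd)
    have hγW : ap γ d ∈ W := ⟨hγ', by
      rw [ap_mul_apply _ _ hγ', ap_inv_ap γ (hDE hd), ap_mul_apply _ _ (hDE hd), ← ap_map_inv γ (hDE hd),
        ← ap_map_mul γ (ap_mem α (hDE hd)) (E.inv_mem (hDE hd))]
      exact hUinv γ hγ _ hde⟩
    have hEW : E ≤ W := by
      refine ((eq_or_eq_of_card hG le_sup_left (sup_le hDE (zpowers_le.2 hγ')) hcE).resolve_left
        fun h => hγd (h.le (mem_sup_right (mem_zpowers _)))).ge.trans (sup_le (fun y hy => ?_)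
        (zpowers_le.2 hγW))
      exact ⟨hDE hy, hmv.2 y hy⟩
    obtain ⟨x, hx, hxU⟩ := hu1
    refine hxU ?_
    have h1 : ap γ (ap α x * x⁻¹) ∈ U := by
      have h := (hEW (ap_mem γ hx)).2
      rwa [ap_mul_apply _ _ (ap_mem γ hx), ap_inv_ap γ hx, ap_mul_apply _ _ hx, ← ap_map_inv γ hx,
        ← ap_map_mul γ (ap_mem α hx) (E.inv_mem hx)] at h
    have h2 := hUinv γ⁻¹ (inv_mem hγ) _ h1
    rwa [ap_inv_ap γ (E.mul_mem (ap_mem α hx) (E.inv_mem hx))] at h2
  obtain ⟨t, htK, htn, ⟨n, hn⟩, htinv⟩ := exists_inverter hG P.odd K (inner E ⊤) (P.isPGroup_inner hE)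
    hRK (fun P' hP' hp' hle' => le_antisymm (P.sylow E hE P' (hP'.trans hK) hp' hle') hle')
    (W := E) (U := U) (hUD.trans hDE) le_rfl (by rw [hcE, hcD]; ring) hpow
    (fun a _ x hx => ap_mem a hx) (fun a ha => hUinv a (hK ha)) hαI hu1 (hDE hd) hdU hde hlK hle
  exact ⟨t, htK, ⟨n, hn⟩, htinv, P.extend_of_conj hE (hK htK) hg hα (htn α hαI)⟩

end Pre

/-- A group inverted modulo a pointwise fixed subgroup `U` centralises `U`, and `U` is abelian. -/
theorem centralises_of_invert (hG : IsPGroup p G) (hp2 : p ≠ 2) (hsr : Cfsg.SectionalPRankLE p 3 G)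
    {E U D : Subgroup G} [U.Normal] (hUD : U ≤ D) (hDE : D ≤ E) (hcD : Nat.card D = p * Nat.card U)
    (hcE : Nat.card E = p * Nat.card D) (hpow : ∀ x ∈ E, x ^ p ∈ U)
    {t : MulAut E} {n : ℕ} (hn : t ^ 2 ^ n = 1) (hfix : ∀ u ∈ U, ap t u = u)
    (hinv : ∀ x ∈ E, ap t x * x ∈ U) :
    (∀ x ∈ E, ∀ u ∈ U, x * u = u * x) ∧ (∀ x ∈ E, ap t (ap t x) = x) ∧
      ∀ x ∈ E, ∃ c ∈ U, ∃ f ∈ E, x = c * f ∧ ap t f = f⁻¹ ∧ f ^ p = 1 := by
  have hUE : U ≤ E := hUD.trans hDE
  have hUn : U.Normal := inferInstance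
  obtain ⟨N, hN⟩ := exists_pow_card (p := p) hG
  have hodd : ∀ y : G, y ^ 2 = 1 → y = 1 := fun y hy =>
    eq_one_of_two_pow hp2 (n := 1) (by simpa using hy) (hN y)
  have htt : ∀ x ∈ E, ap t (ap t x) = x := by
    have hmv : ∀ x ∈ E, ap (t * t) x * x⁻¹ ∈ U := by
      intro x hx
      have hu := hinv x hx
      rw [ap_mul_apply _ _ hx, show ap t x = (ap t x * x) * x⁻¹ by rw [mul_inv_cancel_right],
        ap_map_mul t (hUE hu) (E.inv_mem hx), hfix _ hu, ap_map_inv t hx]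
      rw [show (ap t x * x) * (ap t x)⁻¹ * x⁻¹ =
        (ap t x * x) * (x * (ap t x * x)⁻¹ * x⁻¹) by group]
      exact U.mul_mem hu (hUn.conj_mem _ (U.inv_mem hu) x)
    have hq : (t * t) ^ p ^ N = 1 := ap_ext _ _ fun x hx => by
      rw [ap_one_apply]
      exact fix_step le_rfl (fun c hc hcE' => by rw [ap_mul_apply _ _ hcE', hfix c hc, hfix c hc]) hmv _
        (fun c _ => hN c) x hx
    have h1 : t * t = 1 := eq_one_of_two_pow hp2 (n := n)
      (by rw [← sq, ← pow_mul, mul_comm, pow_mul, hn, one_pow]) hq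
    intro x hx
    rw [← ap_mul_apply _ _ hx, h1, ap_one_apply]
  have hinvU : ∀ f ∈ E, ap t f = f⁻¹ → f ^ p = 1 ∧ ∀ c ∈ U, c * f = f * c := by
    intro f hf htf
    refine ⟨hodd _ ?_, fun c hc => ?_⟩
    · have h := hfix _ (hpow f hf)
      rw [ap_map_pow t hf, htf, inv_pow, inv_eq_iff_mul_eq_one, ← sq] at h
      exact h
    · have h := hfix _ (hUn.conj_mem c hc f)
      rw [ap_map_mul t (E.mul_mem hf (hUE hc)) (E.inv_mem hf), ap_map_mul t hf (hUE hc),
        ap_map_inv t hf, htf, hfix c hc, inv_inv] at h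
      have h2 : f ∈ centralizer ({c} : Set G) := by
        refine mem_of_sq_mem hG hp2 (mem_centralizer_singleton_iff.2 ?_)
        calc f ^ 2 * c = f * (f * c * f⁻¹) * f := by simp [sq, mul_assoc]
          _ = f * (f⁻¹ * c * f) * f := by rw [h]
          _ = c * f ^ 2 := by simp [sq, mul_assoc]
      exact (mem_centralizer_singleton_iff.1 h2).symm
  have hdec : ∀ x ∈ E, ∃ c ∈ U, ∃ f ∈ E, x = c * f ∧ ap t f = f⁻¹ ∧ f ^ p = 1 := by
    intro x hx
    obtain ⟨c, hcE', f, hfE, hxf, htc, htf, -, -⟩ := exists_fixed_inverted hG hp2 htt hx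
    refine ⟨c, ?_, f, hfE, hxf, htf, (hinvU f hfE htf).1⟩
    have h := hinv c hcE'
    rw [htc, ← sq] at h
    exact mem_of_sq_mem hG hp2 h
  -- `U` is abelian
  obtain ⟨d, hd, hdU⟩ : ∃ d ∈ D, d ∉ U := SetLike.exists_of_lt (lt_of_le_of_ne hUD fun h => by
    rw [← h] at hcD
    have h1 := hp.out.two_le
    have h2 : 0 < Nat.card U := Nat.card_pos
    nlinarith)
  obtain ⟨e, he, heD⟩ : ∃ e ∈ E, e ∉ D := SetLike.exists_of_lt (lt_of_le_of_ne hDE fun h => by
    rw [← h] at hcE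
    have h1 := hp.out.two_le
    have h2 : 0 < Nat.card D := Nat.card_pos
    nlinarith)
  obtain ⟨c₁, hc₁, f, hfE, hdf, htf, hfp⟩ := hdec d (hDE hd)
  obtain ⟨c₂, hc₂, g, hgE, heg, htg, hgp⟩ := hdec e he
  have hUf : U ⊔ zpowers f = D :=
    (eq_or_eq_of_card hG le_sup_left (sup_le hUD (zpowers_le.2 (by
      rw [show f = c₁⁻¹ * d by rw [hdf, inv_mul_cancel_left]]
      exact D.mul_mem (D.inv_mem (hUD hc₁)) hd))) hcD).resolve_left fun h => hdU (by
        rw [hdf]; exact U.mul_mem hc₁ (h.le (mem_sup_right (mem_zpowers f))))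
  have hDg : D ⊔ zpowers g = E :=
    (eq_or_eq_of_card hG le_sup_left (sup_le hDE (zpowers_le.2 hgE)) hcE).resolve_left fun h => heD (by
      rw [heg]; exact D.mul_mem (hUD hc₂) (h.le (mem_sup_right (mem_zpowers g))))
  have hfc := (hinvU f hfE htf).2
  have hgc := (hinvU g hgE htg).2
  have hUab : ∀ a ∈ U, ∀ b ∈ U, a * b = b * a := by
    set Z := U ⊓ centralizer (U : Set G) with hZ
    set N' := Z ⊔ frattiniIn U with hN'
    haveI : (centralizer (U : Set G)).Normal := by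
      refine ⟨fun y hy k u hu => ?_⟩
      have h := hy _ (hUn.conj_mem' u hu k)
      calc u * (k * y * k⁻¹) = k * ((k⁻¹ * u * k) * y) * k⁻¹ := by group
        _ = k * (y * (k⁻¹ * u * k)) * k⁻¹ := by rw [h]
        _ = k * y * k⁻¹ * u := by group
    haveI : Z.Normal := Subgroup.normal_inf_normal U _
    haveI : N'.Normal := Subgroup.sup_normal Z (frattiniIn U)
    have hN'U : N' ≤ U := sup_le inf_le_left (frattiniIn_le U)
    set π := QuotientGroup.mk' N' with hπ
    have hπ1 : ∀ y, π y = 1 ↔ y ∈ N' := fun y => QuotientGroup.eq_one_iff y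
    have hUπ : EA p (U.map π) := by
      constructor
      · rintro _ ⟨a, ha, rfl⟩ _ ⟨b, hb, rfl⟩
        rw [← commutatorElement_eq_one_iff_mul_comm, ← map_commutatorElement, hπ1]
        exact mem_sup_right (comm_mem_frattiniIn hG ha hb)
      · rintro _ ⟨a, ha, rfl⟩
        rw [← map_pow, hπ1]
        exact mem_sup_right (pow_mem_frattiniIn hG ha)
    have hD' : EA p (U.map π ⊔ zpowers (π f)) := hUπ.sup_zpowers (by
      rintro _ ⟨a, ha, rfl⟩
      rw [← map_mul, ← map_mul, hfc a ha]) (by rw [← map_pow, hfp, map_one])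
    have hfgN : ⁅f, g⁆ ∈ N' := by
      refine mem_sup_left ⟨?_, fun u hu => ?_⟩
      · exact comm_mem_of_card_sq hG hUE (by rw [hcE, hcD]; ring) f hfE g hgE
      · exact (((show Commute u f from hfc u hu).mul_right (show Commute u g from hgc u hu)).mul_right
          (show Commute u f from hfc u hu).inv_right).mul_right
          (show Commute u g from hgc u hu).inv_right |>.eq
    have hE' : EA p (U.map π ⊔ zpowers (π f) ⊔ zpowers (π g)) := hD'.sup_zpowers (by
      intro a ha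
      have hle : U.map π ⊔ zpowers (π f) ≤ centralizer ({π g} : Set (G ⧸ N')) := by
        refine sup_le ?_ (zpowers_le.2 (mem_centralizer_singleton_iff.2 ?_))
        · rintro _ ⟨u, hu, rfl⟩
          refine mem_centralizer_singleton_iff.2 ?_
          rw [← map_mul, ← map_mul, hgc u hu]
        · rw [← commutatorElement_eq_one_iff_mul_comm, ← map_commutatorElement, hπ1]
          exact hfgN
      exact mem_centralizer_singleton_iff.1 (hle ha)) (by rw [← map_pow, hgp, map_one])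
    have hEmap : E.map π = U.map π ⊔ zpowers (π f) ⊔ zpowers (π g) := by
      rw [← hDg, ← hUf, Subgroup.map_sup, Subgroup.map_sup, MonoidHom.map_zpowers,
        MonoidHom.map_zpowers]
    have hbound : Nat.card E ≤ p ^ 3 * Nat.card N' := by
      refine section_bound hsr E N' (hN'U.trans hUE) (fun a ha b hb => ?_) fun a ha => ?_
      · rw [← hπ1, map_commutatorElement]
        exact commutatorElement_eq_one_iff_mul_comm.2
          (hE'.1 _ (hEmap ▸ mem_map_of_mem π ha) _ (hEmap ▸ mem_map_of_mem π hb))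
      · rw [← hπ1, map_pow]
        exact hE'.2 _ (hEmap ▸ mem_map_of_mem π ha)
    have hUN : Nat.card U ≤ p * Nat.card N' := by
      rw [hcE, hcD] at hbound
      refine Nat.le_of_mul_le_mul_left ?_ (Nat.mul_pos hp.out.pos hp.out.pos)
      calc p * p * Nat.card U = p * (p * Nat.card U) := by ring
        _ ≤ p ^ 3 * Nat.card N' := hbound
        _ = p * p * (p * Nat.card N') := by ring
    obtain ⟨u, hu, hN'u⟩ : ∃ u ∈ U, N' ⊔ zpowers u = U := by
      rcases eq_or_lt_of_le hN'U with h | h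
      · exact ⟨1, one_mem U, by simp [h]⟩
      obtain ⟨u, hu, huN⟩ := SetLike.exists_of_lt h
      exact ⟨u, hu, eq_of_card_le (sup_le hN'U (zpowers_le.2 hu))
        (hUN.trans (card_lt_sup_zpowers hG N' huN))⟩
    have hgen : (Z ⊔ zpowers u).subgroupOf U ⊔ frattini U = ⊤ := by
      refine map_injective U.subtype_injective ?_
      rw [Subgroup.map_sup, subgroupOf_map_subtype, ← MonoidHom.range_eq_map, Subgroup.range_subtype]
      change (Z ⊔ zpowers u) ⊓ U ⊔ frattiniIn U = U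
      rw [inf_eq_left.2 (sup_le inf_le_left (zpowers_le.2 hu)), sup_right_comm]
      exact hN'u
    have hU' : U ≤ Z ⊔ zpowers u := fun y hy =>
      (show (⟨y, hy⟩ : U) ∈ (Z ⊔ zpowers u).subgroupOf U from
        (frattini_nongenerating hgen).ge (mem_top _))
    intro a ha b hb
    have hZu : ∀ z ∈ Z, z * u = u * z := fun z hz => (hz.2 u hu).symm
    obtain ⟨z, hz, i, rfl⟩ := (mem_sup_zpowers_of_commute hZu).1 (hU' ha)
    obtain ⟨z', hz', j, rfl⟩ := (mem_sup_zpowers_of_commute hZu).1 (hU' hb)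
    have h1 : Commute z z' := (hz'.2 z hz.1)
    have h2 : Commute z (u ^ j) := (show Commute z u from hZu z hz).zpow_right j
    have h3 : Commute (u ^ i) z' := ((show Commute z' u from hZu z' hz').zpow_right i).symm
    exact ((h1.mul_right h2).mul_left (h3.mul_right ((Commute.refl u).zpow_zpow i j))).eq
  refine ⟨fun x hx u hu => ?_, htt, hdec⟩
  have hle : E ≤ centralizer ({u} : Set G) := by
    rw [← hDg, ← hUf]
    refine sup_le (sup_le (fun a ha => mem_centralizer_singleton_iff.2 (hUab a ha u hu))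
      (zpowers_le.2 (mem_centralizer_singleton_iff.2 (hfc u hu).symm)))
      (zpowers_le.2 (mem_centralizer_singleton_iff.2 (hgc u hu).symm))
  exact mem_centralizer_singleton_iff.1 (hle hx)

end Cfsg.Lib.FusionSys.SecThree
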