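import Cfsg.Agent.Lib.FusionSys.SecThree.PairQuot
import Cfsg.Agent.Lib.FusionSys.SecThree.TopInvert
import Cfsg.Agent.Lib.FusionSys.SecThree.CardM

/-!
# The case where the quotient by the core has order `p ^ 3`
-/

set_option linter.style.haveILetI false
set_option linter.unusedSectionVars false
set_option autoImplicit false

namespace Cfsg.Lib.FusionSys.SecThree

open Subgroup RankThree
open scoped commutatorElement

variable {G : Type*} [Group G] [Finite G] {p : ℕ} [hp : Fact p.Prime]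

namespace Pre

variable {P : Pre p G} {E₁ E₂ : Subgroup G} [P.invCore.Normal] (H : P.IsPair E₁ E₂)
  (h : HeisRels p (G ⧸ P.invCore))
include H h

theorem IsPair.heis_card {E : Subgroup G} (hE : E ∈ P.ess) :
    Nat.card E = p ^ 2 * Nat.card P.invCore := by
  have h1 := P.card_eq hE
  rw [Subgroup.card_eq_card_quotient_mul_card_subgroup P.invCore, h.1] at h1
  exact Nat.eq_of_mul_eq_mul_left hp.out.pos (h1.symm.trans (by ring))

theorem IsPair.heis_comm {E : Subgroup G} (hE : E ∈ P.ess) :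
    ∀ u ∈ E, ∀ v ∈ E, ⁅u, v⁆ ∈ P.invCore :=
  comm_mem_of_card_sq P.isP (P.inv_invCore hE).le (H.heis_card h hE)

theorem IsPair.heis_card_inf : Nat.card ↥(E₁ ⊓ E₂) = p * Nat.card P.invCore := by
  have h1 := H.card_inf
  rw [H.heis_card h H.right] at h1
  exact Nat.eq_of_mul_eq_mul_left hp.out.pos (h1.symm.trans (by ring))

/-- The intersection of the two is invariant in neither. -/
theorem IsPair.heis_inf_moved {E : Subgroup G} (hE : E ∈ P.ess) :
    ∃ γ ∈ P.aut E, ∃ d ∈ E₁ ⊓ E₂, ap γ d ∉ E₁ ⊓ E₂ := by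
  by_contra hno
  push Not at hno
  have hle : E₁ ⊓ E₂ ≤ E := by
    rcases H.eq E hE with rfl | rfl
    exacts [inf_le_left, inf_le_right]
  have hp1 := hp.out.two_le
  have hT : 0 < Nat.card P.invCore := Nat.card_pos
  rcases H.heis_between h hE (le_inf (P.inv_invCore H.left).le (P.inv_invCore H.right).le) hle hno
    with h1 | h1
  · have h2 := H.heis_card_inf h
    rw [h1] at h2
    nlinarith
  · have h2 := H.heis_card_inf h
    rw [h1, H.heis_card h hE] at h2
    nlinarith [Nat.mul_lt_mul_of_pos_right (show p < p ^ 2 by nlinarith) hT]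

theorem IsPair.heis_pow {E : Subgroup G} (hE : E ∈ P.ess) : ∀ x ∈ E, x ^ p ∈ P.invCore := by
  have hG := P.isP
  set T := P.invCore with hT
  have hTE : T ≤ E := (P.inv_invCore hE).le
  set π := QuotientGroup.mk' T with hπ
  obtain ⟨γ, hγ, d, hd, hγd⟩ := H.heis_inf_moved h hE
  haveI := P.normal E₁ H.left
  haveI := P.normal E₂ H.right
  haveI : (E₁ ⊓ E₂).Normal := Subgroup.normal_inf_normal E₁ E₂
  have hDE : E₁ ⊓ E₂ ≤ E := by
    rcases H.eq E hE with rfl | rfl
    exacts [inf_le_left, inf_le_right]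
  have hTD : T ≤ E₁ ⊓ E₂ := le_inf (P.inv_invCore H.left).le (P.inv_invCore H.right).le
  have hc : Nat.card ↥(E₁ ⊓ E₂) = p * Nat.card T := H.heis_card_inf h
  have hDp : ∀ y ∈ E₁ ⊓ E₂, y ^ p ∈ T := by
    intro y hy
    have h1 := card_map_mk T (E₁ ⊓ E₂) hTD
    rw [hc] at h1
    have h2 := congrArg Subtype.val
      (pow_card_eq_one' (x := (⟨π y, mem_map_of_mem π hy⟩ : (E₁ ⊓ E₂).map π)))
    rw [Nat.eq_of_mul_eq_mul_right Nat.card_pos h1] at h2
    exact (QuotientGroup.eq_one_iff _).1 (show π (y ^ p) = 1 by rw [map_pow]; exact h2)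
  have hγp : ap γ d ^ p ∈ T := by
    rw [← ap_map_pow γ (hDE hd)]
    exact (P.inv_invCore hE).inv γ hγ _ (hDp d hd)
  intro x hx
  have hEle : E = (E₁ ⊓ E₂) ⊔ zpowers (ap γ d) :=
    ((eq_or_eq_of_card hG le_sup_left (sup_le hDE (zpowers_le.2 (ap_mem γ (hDE hd))))
      (by rw [hc, H.heis_card h hE]; ring)).resolve_left
      fun h' => hγd (h'.le (mem_sup_right (mem_zpowers _)))).symm
  obtain ⟨i, hi⟩ := exists_pow_of_mem_sup (E₁ ⊓ E₂) (hEle.le hx)
  have hcomm : Commute (π (ap γ d ^ i)) (π ((ap γ d ^ i)⁻¹ * x)) := by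
    rw [Commute, SemiconjBy, ← commutatorElement_eq_one_iff_mul_comm, ← map_commutatorElement]
    exact (QuotientGroup.eq_one_iff _).2 (H.heis_comm h hE _ (E.pow_mem (ap_mem γ (hDE hd)) i) _
      (hDE hi))
  refine (QuotientGroup.eq_one_iff _).1 ?_
  show π (x ^ p) = 1
  rw [show x = ap γ d ^ i * ((ap γ d ^ i)⁻¹ * x) by rw [mul_inv_cancel_left], map_pow, map_mul,
    hcomm.mul_pow, ← map_pow, ← map_pow, show π (((ap γ d ^ i)⁻¹ * x) ^ p) = 1 from
      (QuotientGroup.eq_one_iff _).2 (hDp _ hi), mul_one, ← pow_mul, mul_comm, pow_mul]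
  exact (QuotientGroup.eq_one_iff _).2 (T.pow_mem hγp i)

theorem IsPair.heis_cent {E : Subgroup G} (hE : E ∈ P.ess) (g : G)
    (hg : ∀ x ∈ E, ⁅g, x⁆ ∈ P.invCore) : g ∈ E :=
  P.isInvariant_invCore.q_cent (fun _ hE => H.not_degenerate hE) hE hg

/-- The elements of the intersection are central modulo the core. -/
theorem IsPair.heis_inf_central (g : G) {d : G} (hd : d ∈ E₁ ⊓ E₂) : ⁅g, d⁆ ∈ P.invCore := by
  haveI := P.normal E₁ H.left
  haveI := P.normal E₂ H.right
  exact comm_mem_of_card_step P.isP P.invCore_normal (Subgroup.normal_inf_normal E₁ E₂)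
    (le_inf (P.inv_invCore H.left).le (P.inv_invCore H.right).le) (H.heis_card_inf h) g hd

theorem IsPair.comm_mem_inf (u v : G) : ⁅u, v⁆ ∈ E₁ ⊓ E₂ := by
  haveI := P.normal E₁ H.left
  haveI := P.normal E₂ H.right
  exact ⟨comm_mem_of_index (P.index_eq E₁ H.left) u v, comm_mem_of_index (P.index_eq E₂ H.right) u v⟩

end Pre

end Cfsg.Lib.FusionSys.SecThree
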