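import Cfsg.Agent.Lib.FusionSys.PlaneAction
import Cfsg.Agent.Lib.FusionSys.SecThree.Auto

/-!
# An element inverting a plane that is moved irreducibly
-/

set_option linter.style.haveILetI false
set_option autoImplicit false

namespace Cfsg.Lib.FusionSys.SecThree

open Subgroup

variable {p : ℕ} [hp : Fact p.Prime]

/-- An element of `p`-power order preserving a line of exponent `p` fixes it. -/
theorem fix_of_line {Q : Type*} [Group Q] (α : MulAut Q) {k : ℕ} (hα : α ^ p ^ k = 1) {e : Q}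
    (hep : e ^ p = 1) (h : α e ∈ zpowers e) : α e = e := by
  obtain ⟨j, hj⟩ := mem_zpowers_iff.1 h
  have key : ∀ n : ℕ, (α ^ n) e = e ^ (j ^ n) := by
    intro n
    induction n with
    | zero => simp
    | succ n ih => rw [pow_succ', MulAut.mul_apply, ih, map_zpow, ← hj, ← zpow_mul, ← pow_succ']
  have h1 : e = e ^ (j ^ p ^ k) := by rw [← key, hα, MulAut.one_apply]
  by_cases he : e = 1
  · simp [he]
  have hd : ((p : ℤ)) ∣ j - j ^ p ^ k := by
    rw [← ZMod.intCast_eq_intCast_iff_dvd_sub]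
    simp [ZMod.pow_card_pow]
  obtain ⟨d, hd⟩ := hd
  rw [← hj, show j = j ^ p ^ k + p * d by rw [← hd]; ring, zpow_add, ← h1, zpow_mul, zpow_natCast,
    hep, one_zpow, mul_one]

/-- Inversion of a plane lifts to an element of two-power order normalising a Sylow subgroup. -/
theorem exists_inverting {Q : Type*} [Group Q] [Finite Q] (hc : Nat.card Q = p ^ 2)
    (hexp : ∀ v : Q, v ^ p = 1) (hp2 : p ≠ 2) {K : Type*} [Group K] [Finite K] (π : K →* MulAut Q)
    (P : Subgroup K) (hP : IsPGroup p P)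
    (hmax : ∀ P' : Subgroup K, IsPGroup p P' → P ≤ P' → P' = P)
    {u : K} (hu : u ∈ P) (hu1 : π u ≠ 1) {e : Q} (he1 : e ≠ 1) (hue : π u e = e) {l : K}
    (hl : π l e ∉ zpowers e) :
    ∃ t : K, (∀ x ∈ P, t * x * t⁻¹ ∈ P) ∧ (∃ n : ℕ, t ^ 2 ^ n = 1) ∧ ∀ v : Q, π t v = v⁻¹ := by
  have hcm : ∀ a b : Q, Commute a b := fun a b => Plane.comm hc a b
  obtain ⟨e₀, he₀, hfix₀, htriv₀⟩ := Plane.unipotent hc hexp hP (π.comp P.subtype)
  have hline : zpowers e = zpowers e₀ := by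
    by_cases h : e ∈ zpowers e₀
    · exact Plane.eq_zpowers_of_mem hc hexp (Plane.card_zpowers_eq hc hexp he₀) he1 h
    · exact absurd (Plane.aut_ext hc hexp he₀ h (hfix₀ ⟨u, hu⟩) hue) hu1
  set f := π l e with hf
  obtain ⟨i, hi⟩ := mem_powers_iff_mem_zpowers.2 (hline ▸ htriv₀ ⟨u, hu⟩ f)
  have hi' : π u f = e ^ i * f := eq_mul_of_mul_inv_eq hi.symm
  have hpi : ¬ p ∣ i := by
    rintro ⟨t, rfl⟩
    rw [pow_mul, hexp, one_pow, one_mul] at hi'
    exact hu1 (Plane.aut_ext hc hexp he1 hl hue hi')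
  have hpw : ∀ (w : K) (x y : Q) (c : ℕ), π w x = x → π w y = x ^ c * y → ∀ m : ℕ,
      π (w ^ m) x = x ∧ π (w ^ m) y = x ^ (c * m) * y := by
    intro w x y c hx hy m
    induction m with
    | zero => simp
    | succ m ih =>
      constructor
      · rw [pow_succ', map_mul, MulAut.mul_apply, ih.1, hx]
      · rw [pow_succ', map_mul, MulAut.mul_apply, ih.2, map_mul, map_pow, hx, hy, ← mul_assoc,
          ← pow_add]
        ring_nf
  obtain ⟨s, hs⟩ := Plane.exists_mul_modEq hpi 1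
  have h1e := (hpw u e f i hue hi' s).1
  have h1f : π (u ^ s) f = e * f := by
    rw [(hpw u e f i hue hi' s).2, Plane.pow_eq_pow_of_modEq (hexp e) hs, pow_one]
  set w := π l⁻¹ e with hw
  have hlw : π l w = e := by
    rw [hw, ← MulAut.mul_apply, ← map_mul, mul_inv_cancel, map_one, MulAut.one_apply]
  have hwe : w ∉ zpowers e := by
    intro h
    obtain ⟨j, hj⟩ := mem_zpowers_iff.1 h
    have h2 : e ∈ zpowers f := mem_zpowers_iff.2 ⟨j, by rw [hf, ← map_zpow, hj, hlw]⟩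
    have hf1 : f ≠ 1 := fun h3 => hl (by rw [h3]; exact one_mem _)
    exact hl ((Plane.eq_zpowers_of_mem hc hexp (Plane.card_zpowers_eq hc hexp hf1) he1 h2).symm ▸
      mem_zpowers f)
  obtain ⟨c, hcw⟩ := mem_powers_iff_mem_zpowers.2 (hline ▸ htriv₀ ⟨u ^ s, pow_mem hu s⟩ w)
  have hcw' : π (u ^ s) w = e ^ c * w := eq_mul_of_mul_inv_eq hcw.symm
  have hpc : ¬ p ∣ c := by
    rintro ⟨t, rfl⟩
    rw [pow_mul, hexp, one_pow, one_mul] at hcw'
    have h2 : π (u ^ s) = 1 := Plane.aut_ext hc hexp he1 hwe h1e hcw'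
    rw [h2, MulAut.one_apply] at h1f
    exact he1 (mul_eq_right.mp h1f.symm)
  set k := l * u ^ s * l⁻¹ with hk
  have hkey : ∀ v, π k (π l v) = π l (π (u ^ s) v) := fun v => by
    rw [hk, ← MulAut.mul_apply, ← map_mul, ← MulAut.mul_apply, ← map_mul, inv_mul_cancel_right]
  have hkf : π k f = f := by rw [hf, hkey, h1e]
  have hke : π k e = f ^ c * e := by rw [← hlw, hkey, hcw', map_mul, map_pow, hlw]
  obtain ⟨m, hm⟩ := Plane.exists_mul_modEq hpc (p - 1)
  have hp1 : p - 1 + 1 = p := Nat.sub_add_cancel hp.out.one_le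
  have hk1f : π (k ^ m) f = f := (hpw k f e c hkf hke m).1
  have hk1e : π (k ^ m) e = f⁻¹ * e := by
    rw [(hpw k f e c hkf hke m).2, Plane.pow_eq_pow_of_modEq (hexp f) hm,
      eq_inv_of_mul_eq_one_left (show f ^ (p - 1) * f = 1 by rw [← pow_succ, hp1, hexp])]
  set W := u ^ s * k ^ m * u ^ s with hW
  have hWe : π W e = f⁻¹ := by
    rw [hW, map_mul, map_mul, MulAut.mul_apply, MulAut.mul_apply, h1e, hk1e, map_mul (π (u ^ s)),
      map_inv (π (u ^ s)), h1e, h1f, mul_inv_rev, inv_mul_cancel_right]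
  have hWf : π W f = e := by
    rw [hW, map_mul, map_mul, MulAut.mul_apply, MulAut.mul_apply, h1f, map_mul (π (k ^ m)), hk1e,
      hk1f, (hcm f⁻¹ e).eq, inv_mul_cancel_right, h1e]
  have ht0 : ∀ v, π (W * W) v = v⁻¹ := by
    intro v
    obtain ⟨a, b, rfl⟩ := Plane.exists_coords hc hexp he1 hl v
    clear_value W
    rw [show π (W * W) (e ^ a * f ^ b) = π W (π W (e ^ a * f ^ b)) from by
      rw [map_mul π, MulAut.mul_apply]]
    simp only [map_mul (π W), map_pow (π W), map_inv (π W), hWe, hWf]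
    rw [inv_pow, inv_pow, mul_inv_rev, (hcm _ _).eq]
  set t₀ := W * W
  -- lift into the normaliser of `P`
  set H := (P.map π).comap π with hH
  have hPH : P ≤ H := fun x hx => ⟨x, hx, rfl⟩
  have ht0c : ∀ x, π (t₀ * x * t₀⁻¹) = π x := by
    intro x
    rw [map_mul, map_mul, map_inv, mul_inv_eq_iff_eq_mul]
    refine MulEquiv.ext fun v => ?_
    rw [MulAut.mul_apply, MulAut.mul_apply, ht0, ht0, map_inv]
  have hP2 : (P.map (MulAut.conj t₀).toMonoidHom) ≤ H := by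
    rintro _ ⟨x, hx, rfl⟩
    exact ⟨x, hx, (ht0c x).symm⟩
  let S₁ : Sylow p H :=
    { toSubgroup := P.subgroupOf H
      isPGroup' := hP.comap_subtype
      is_maximal' := fun {Q'} hQ' hle => by
        have h1 : Q'.map H.subtype = P := hmax _ (hQ'.map _) fun x hx =>
          ⟨⟨x, hPH hx⟩, hle hx, rfl⟩
        rw [← h1, subgroupOf, comap_map_eq_self_of_injective H.subtype_injective] }
  obtain ⟨S₂, hS₂⟩ := (show IsPGroup p ((P.map (MulAut.conj t₀).toMonoidHom).subgroupOf H) from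
    (hP.map _).comap_subtype).exists_le_sylow
  obtain ⟨h, hh⟩ := MulAction.exists_smul_eq H S₂ S₁
  have hnorm : ∀ x ∈ P, (h : K) * t₀ * x * ((h : K) * t₀)⁻¹ ∈ P := by
    intro x hx
    have h1 : (⟨t₀ * x * t₀⁻¹, hP2 ⟨x, hx, rfl⟩⟩ : H) ∈ (S₂ : Subgroup H) := hS₂ ⟨x, hx, rfl⟩
    have h2 : h * ⟨t₀ * x * t₀⁻¹, hP2 ⟨x, hx, rfl⟩⟩ * h⁻¹ ∈ (S₁ : Subgroup H) := by
      rw [← hh, Sylow.coe_subgroup_smul]
      exact Subgroup.smul_mem_pointwise_smul _ (MulAut.conj h) _ h1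
    simpa [S₁, mem_subgroupOf, mul_assoc] using h2
  obtain ⟨x, hx, hxh⟩ := h.2
  set n := (h : K) * t₀ with hn
  obtain ⟨a, ha⟩ := hP ⟨x, hx⟩
  have hodd : Odd (p ^ a) := (hp.out.odd_of_ne_two hp2).pow
  have hinv_pow : ∀ (j : ℕ), Odd j → ∀ v, π (t₀ ^ j) v = v⁻¹ := by
    rintro j ⟨r, rfl⟩ v
    have h2 : π (t₀ ^ 2) = 1 := MulEquiv.ext fun v => by
      rw [sq, map_mul, MulAut.mul_apply, ht0, ht0, inv_inv, MulAut.one_apply]
    rw [pow_succ, pow_mul, map_mul, map_pow, h2, one_pow, one_mul, ht0]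
  have hn1 : ∀ v, π (n ^ p ^ a) v = v⁻¹ := by
    have hcomm : Commute (π x) (π t₀) := by
      rw [Commute, SemiconjBy]
      refine MulEquiv.ext fun v => ?_
      rw [MulAut.mul_apply, MulAut.mul_apply, ht0, ht0, map_inv]
    intro v
    rw [map_pow, hn, map_mul, ← hxh, hcomm.mul_pow, ← map_pow, ← map_pow,
      (show x ^ p ^ a = 1 from congrArg Subtype.val ha), map_one, one_mul]
    exact hinv_pow _ hodd v
  obtain ⟨b, m', hm', hord⟩ := Nat.exists_eq_pow_mul_and_not_dvd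
    (orderOf_pos (n ^ p ^ a)).ne' 2 (by norm_num)
  have hpres : ∀ j : ℕ, ∀ y ∈ P, n ^ j * y * (n ^ j)⁻¹ ∈ P := by
    intro j
    induction j with
    | zero => intro y hy; simpa using hy
    | succ j ih =>
      intro y hy
      have := hnorm _ (ih y hy)
      rw [pow_succ']
      convert this using 1
      group
  refine ⟨(n ^ p ^ a) ^ m', fun y hy => ?_, ⟨b, ?_⟩, fun v => ?_⟩
  · rw [← pow_mul]
    exact hpres _ y hy
  · rw [← pow_mul, mul_comm m', ← hord, pow_orderOf_eq_one]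
  · obtain ⟨r, rfl⟩ := Nat.odd_iff.2 (Nat.two_dvd_ne_zero.1 hm')
    have h2 : π ((n ^ p ^ a) ^ 2) = 1 := MulEquiv.ext fun v => by
      rw [sq, map_mul, MulAut.mul_apply, hn1, hn1, inv_inv, MulAut.one_apply]
    rw [pow_succ, pow_mul, map_mul, map_pow, h2, one_pow, one_mul, hn1]

end Cfsg.Lib.FusionSys.SecThree
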