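import Cfsg.Agent.Lib.FusionSys.SecThree.Sys
import Cfsg.Agent.Lib.FusionSys.RankTwoEssential
import Cfsg.Agent.Lib.FusionSys.RankThreeAction

/-!
# The data of a fusion system all whose essential subgroups are normal
-/

set_option linter.style.haveILetI false
set_option autoImplicit false

namespace Cfsg.Lib.FusionSys.SecThree

open Cfsg Cfsg.FusionSystem Cfsg.Lib.FusionSys Subgroup
open scoped commutatorElement

universe u

variable {Ω : Type u} [Group Ω] {S : Subgroup Ω} [Finite S] {p : ℕ} [hp : Fact p.Prime]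
  {F : FusionSystem S}

/-- A normal essential subgroup has index `p` in sectional rank three. -/
theorem card_eq_of_essential (hS : IsPGroup p S) (hp2 : p ≠ 2)
    (hsr : Cfsg.SectionalPRankLE p 3 S) (hF : F.IsSaturated p) {P : Subgroup Ω}
    (hP : F.IsEssential p P) (hn : S ≤ Subgroup.normalizer (P : Set Ω)) :
    Nat.card S = p * Nat.card P := by
  obtain ⟨hlt, hIN, hIp, hO, hRp, hRI⟩ := RankTwo.basic hS hF hP
  have hPS : P ≤ S := hP.1.1
  haveI := finite_of_le hPS
  have hPp : IsPGroup p P := hS.to_le hPS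
  haveI : Finite (MulAut P) := Finite.of_injective (fun a : MulAut P => (a : P → P))
    DFunLike.coe_injective
  set A := F.autGroup P with hA
  set I := (Inn P).subgroupOf A with hI
  haveI := hIN
  have hC : centralizerIn S P ≤ P := hP.1.2 P (isConj_refl F hPS)
  let cA : S →* A := (RankTwo.cA F hPS).comp (Subgroup.inclusion (le_inf le_rfl hn))
  have hcA : ∀ (b : S) (v : P), ((((cA b : A) : MulAut P) v : P) : Ω) = b * v * (b : Ω)⁻¹ :=
    fun b v => rfl
  have hcI : ∀ b : S, cA b ∈ I ↔ b ∈ P.subgroupOf S := fun b =>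
    ⟨fun h => mem_of_conjAut_mem_inn hC hPS b.2 (α := (cA b : MulAut P)) (hcA b)
        (Subgroup.mem_subgroupOf.mp h),
      fun h => ⟨⟨b, h⟩, MulEquiv.ext fun v => Subtype.ext rfl⟩⟩
  let θ := (QuotientGroup.mk' I).comp cA
  have hθker : θ.ker = P.subgroupOf S := by
    ext b
    rw [MonoidHom.mem_ker, ← hcI]
    exact QuotientGroup.eq_one_iff _
  suffices hθ : Nat.card θ.range = p by
    have h := Subgroup.card_mul_index θ.ker
    rw [Subgroup.index_ker, hθ, hθker, Nat.card_congr (subgroupOfEquivOfLe hPS).toEquiv] at h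
    rw [← h, mul_comm]
  obtain ⟨r, hr⟩ := (hPp.to_quotient (frattini P)).exists_card_eq
  rw [← index_eq_card] at hr
  have hr3 : r ≤ 3 := by
    let ι : P →* S := Subgroup.inclusion hPS
    have hι : Function.Injective ι := Subgroup.inclusion_injective _
    set e : P ≃* ι.range := MonoidHom.ofInjective hι
    set N := (frattini P).map (e : P →* ι.range) with hN
    haveI : N.Normal := Subgroup.Normal.map inferInstance _ e.surjective
    have hcomm : ∀ a b : ι.range ⧸ N, a * b = b * a := fun a b =>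
      QuotientGroup.induction_on a fun a => QuotientGroup.induction_on b fun b => by
        obtain ⟨x, rfl⟩ := e.surjective a
        obtain ⟨y, rfl⟩ := e.surjective b
        rw [← commutatorElement_eq_one_iff_mul_comm]
        show ⁅QuotientGroup.mk' N (e x), QuotientGroup.mk' N (e y)⁆ = 1
        rw [← map_commutatorElement, ← MonoidHom.mem_ker, QuotientGroup.ker_mk', ← map_commutatorElement]
        exact mem_map_of_mem _ (RankThree.comm_mem_frattini hPp x y)
    have h := hsr ι.range N ⊤ ⟨⟨fun a b => Subtype.ext (hcomm a.1 b.1)⟩⟩ fun q _ =>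
      QuotientGroup.induction_on q fun a => by
        obtain ⟨x, rfl⟩ := e.surjective a
        rw [← QuotientGroup.mk_pow, QuotientGroup.eq_one_iff, ← map_pow]
        exact mem_map_of_mem _ (Cfsg.Lib.PGroup.pow_mem_frattini hPp x)
    rw [card_top, ← index_eq_card, hN, index_map_equiv, hr] at h
    exact (Nat.pow_le_pow_iff_right hp.out.one_lt).1 h
  have hcyc : 2 ≤ r := by
    by_contra hlt2
    refine RankTwo.not_isCyclic hS hF hP ?_
    by_cases hnt : Nontrivial P
    swap
    · rw [not_nontrivial_iff_subsingleton] at hnt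
      exact isCyclic_of_subsingleton
    have hr1 : (frattini P).index = p := by
      have h0 : r ≠ 0 := fun h0 => by
        rw [h0, pow_zero, index_eq_one] at hr
        exact Cfsg.Lib.PGroup.frattini_ne_top hr
      rw [hr, show r = 1 by omega, pow_one]
    obtain ⟨y, hy⟩ : ∃ y : P, y ∉ frattini P := by
      by_contra h
      push Not at h
      exact Cfsg.Lib.PGroup.frattini_ne_top ((eq_top_iff' _).2 h)
    have htop := RankThree.sup_zpowers_eq_top_of_index hr1 hy
    rw [sup_comm] at htop
    have hgen : zpowers y = ⊤ := frattini_nongenerating htop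
    exact ⟨⟨y, fun z => hgen.ge (mem_top z)⟩⟩
  rcases (show r = 2 ∨ r = 3 by omega) with rfl | rfl
  · -- two generators
    have hexp : ∀ v : P ⧸ frattini P, v ^ p = 1 := fun v => QuotientGroup.induction_on v fun x => by
      rw [← QuotientGroup.mk_pow, QuotientGroup.eq_one_iff]
      exact Cfsg.Lib.PGroup.pow_mem_frattini hPp x
    set ρ := (RankThree.quotAut (frattini P)).comp A.subtype with hρ
    have hker : IsPGroup p ρ.ker := by
      refine ((Cfsg.Lib.PGroup.isPGroup_frattiniStab hPp).comap_of_injective A.subtype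
        A.subtype_injective).to_le fun a ha x => ?_
      have h := DFunLike.congr_fun (MonoidHom.mem_ker.1 ha) (x : P ⧸ frattini P)
      simp only [hρ, MonoidHom.comp_apply, RankThree.quotAut_mk, MulAut.one_apply] at h
      exact QuotientGroup.eq.1 h.symm
    obtain ⟨hIker, -, e, f, g, d, ψ, he, hf, hgP, hge, hgf, -, -, -, -, -, -, hgen, -⟩ :=
      RankTwo.frame hS hF hp2 hP hPS (V := P ⧸ frattini P) (by rw [← index_eq_card]; exact hr) hexp ρ
        hker
    set g' : S := ⟨g, g.2.1⟩
    have hcg : cA g' = RankTwo.cA F hPS g := rfl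
    have hpow : ∀ k : ℕ, ρ (RankTwo.cA F hPS g ^ k) e = e ∧
        ρ (RankTwo.cA F hPS g ^ k) f = e ^ k * f := by
      intro k
      induction k with
      | zero => simp
      | succ k ih =>
        constructor
        · rw [pow_succ', map_mul, MulAut.mul_apply, ih.1, hge]
        · rw [pow_succ', map_mul, MulAut.mul_apply, ih.2, map_mul, map_pow, hge, hgf, ← mul_assoc,
            ← pow_succ]
    have hgp : θ g' ^ p = 1 := by
      rw [← map_pow]
      refine (QuotientGroup.eq_one_iff _).2 (hO ρ.ker inferInstance hker ?_)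
      rw [map_pow, hcg, MonoidHom.mem_ker]
      refine Plane.aut_ext (by rw [← index_eq_card]; exact hr) hexp he hf ?_ ?_
      · rw [(hpow p).1, MulAut.one_apply]
      · rw [(hpow p).2, hexp, one_mul, MulAut.one_apply]
    have hg1 : θ g' ≠ 1 := fun h => hgP ((hθker.le (MonoidHom.mem_ker.2 h) : g' ∈ P.subgroupOf S))
    have hrange : θ.range = zpowers (θ g') := by
      refine le_antisymm ?_ (zpowers_le.2 ⟨g', rfl⟩)
      rintro _ ⟨b, rfl⟩
      obtain ⟨i, hi⟩ := hgen ⟨b, b.2, hn b.2⟩
      have h1 : (g' ^ i)⁻¹ * b ∈ θ.ker := hθker.ge (by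
        rw [mem_subgroupOf]
        simpa [g'] using hi)
      rw [MonoidHom.mem_ker, map_mul, map_inv, map_pow, inv_mul_eq_one] at h1
      exact h1 ▸ pow_mem (mem_zpowers _) i
    rw [hrange, Nat.card_zpowers, orderOf_eq_prime hgp hg1]
  · -- three generators
    obtain ⟨-, hfn, hN', Y, hY⟩ := hP
    obtain ⟨-, -, R, hR⟩ := isFullyAutomized_and_fc_of_fn hS hF hfn
    have hIle : ∀ α ∈ I, ∀ v : P, v⁻¹ * (α : MulAut P) v ∈ frattini P := by
      intro α hα v
      obtain ⟨y, hy⟩ := Subgroup.mem_subgroupOf.mp hα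
      rw [← hy, MulAut.conj_apply]
      have := RankThree.comm_mem_frattini hPp v⁻¹ y
      rwa [commutatorElement_def, inv_inv, mul_assoc v⁻¹, mul_assoc v⁻¹] at this
    obtain ⟨hcard, -, -, -⟩ := RankThree.action_facts hp2 hPp hr A I hIp hIle hO Y hY R
    have hθr : θ.range = (R : Subgroup A).map (QuotientGroup.mk' I) := by
      rw [MonoidHom.range_comp]
      congr 1
      refine le_antisymm ?_ fun u hu => ?_
      · rintro _ ⟨b, rfl⟩
        rw [hR]
        exact conjAut_mem_autInducedBy (hn b.2) b.2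
      · rw [hR] at hu
        obtain ⟨g, hg, hgu⟩ := mem_autInducedBy.1 (Subgroup.mem_subgroupOf.mp hu)
        exact ⟨⟨g, hg⟩, Subtype.ext (MulEquiv.ext fun v => Subtype.ext (hgu v).symm)⟩
    rw [hθr, hcard]

/-- A fusion automorphism of `S` carries normal essential subgroups to essential subgroups. -/
theorem essential_map (hS : IsPGroup p S) (hF : F.IsSaturated p) {φ : MulAut S}
    (hφ : φ ∈ F.autGroup S) (E : Subgroup S) (hE : F.IsEssential p (E.map S.subtype))
    (hn : E.Normal) (hc : Nat.card S = p * Nat.card E) :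
    F.IsEssential p ((E.map φ.toMonoidHom).map S.subtype) := by
  set P := E.map S.subtype
  set P₂ := (E.map φ.toMonoidHom).map S.subtype
  have hPS : P ≤ S := map_subtype_le E
  have hP₂S : P₂ ≤ S := map_subtype_le _
  haveI := finite_of_le hPS
  haveI := finite_of_le hP₂S
  have hP₂n : (E.map φ.toMonoidHom).Normal := hn.map _ φ.surjective
  have hE₂c : Nat.card ↥(E.map φ.toMonoidHom) = Nat.card E :=
    (Nat.card_congr (equivMapOfInjective E φ.toMonoidHom φ.injective).toEquiv).symm
  have hP₂c : Nat.card P₂ = Nat.card E := by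
    rw [← hE₂c]
    exact (Nat.card_congr (equivMapOfInjective _ S.subtype S.subtype_injective).toEquiv).symm
  let e : P ≃* P₂ := ((E.equivMapOfInjective S.subtype S.subtype_injective).symm.trans
    (E.equivMapOfInjective φ.toMonoidHom φ.injective)).trans
      ((E.map φ.toMonoidHom).equivMapOfInjective S.subtype S.subtype_injective)
  have heval : ∀ (x : P) (y : S), (y : Ω) = x → ((e x : P₂) : Ω) = φ y := by
    intro x y hxy
    obtain ⟨z, rfl⟩ := (E.equivMapOfInjective S.subtype S.subtype_injective).surjective x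
    simp only [e, MulEquiv.trans_apply, MulEquiv.symm_apply_apply]
    have hy : y = (z : S) := Subtype.ext hxy
    rw [hy]
    rfl
  have hφi := (mem_autGroup le_rfl).1 hφ
  have he : IsoIn F e := hom_congr (restrict_mem hφi hPS) fun x =>
    heval x ⟨x, hPS x.2⟩ rfl
  have hlt : P₂ < S := lt_of_le_of_ne hP₂S fun h => by
    have h1 : Nat.card S = Nat.card P₂ := by rw [h]
    rw [hP₂c, hc] at h1
    have := hp.out.two_le
    have h2 : 0 < Nat.card E := Nat.card_pos
    nlinarith
  have hN : normalizerIn S P₂ = S := by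
    refine le_antisymm (normalizerIn_le _) fun g hg => ⟨hg, mem_normalizer_fintype ?_⟩
    rintro _ ⟨y, hy, rfl⟩
    exact ⟨⟨g, hg⟩ * y * ⟨g, hg⟩⁻¹, hP₂n.conj_mem y hy _, rfl⟩
  have hfn : F.IsFullyNormalized P₂ :=
    ⟨hP₂S, fun Q _ => by rw [hN]; exact card_le_of_le (normalizerIn_le Q)⟩
  refine isEssential_of_extensibleAut_ne hS hF hlt hfn fun heq => ?_
  refine extensibleAut_ne_of_isEssential hS hF hE (le_antisymm extensibleAut_le fun a ha => ?_)
  have hle : extensibleAut F P₂ ≤ (extensibleAut F P).comap (MulAut.congr e.symm).toMonoidHom := by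
    refine (closure_le _).2 ?_
    rintro β ⟨Q, hPQ, ψ, hψ, hψβ⟩
    have hQS : Q = S := by
      refine le_antisymm (hom_le hψ) ?_
      haveI := finite_of_le (hom_le hψ)
      refine (eq_of_le_of_card_le le_rfl (hom_le hψ) ?_).ge
      obtain ⟨i, hi⟩ := IsPGroup.iff_card.mp (hS.to_le (hom_le hψ))
      obtain ⟨j, hj⟩ := IsPGroup.iff_card.mp (hS.to_le hP₂S)
      have hlt' : Nat.card P₂ < Nat.card Q :=
        lt_of_le_of_ne (Subgroup.card_le_of_le hPQ.le) fun h =>
          hPQ.ne (Subgroup.eq_of_le_of_card_ge hPQ.le h.ge)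
      rw [hc, ← hP₂c, hj, hi, ← pow_succ']
      rw [hj, hi] at hlt'
      exact Nat.pow_le_pow_right hp.out.pos ((Nat.pow_lt_pow_iff_right hp.out.one_lt).1 hlt')
    subst hQS
    let ψ₁ := homIso hψ (range_eq_of_card_le hψ le_rfl (fun x => hom_mem hψ x) le_rfl)
    let χ : MulAut Q := (φ : MulAut Q).trans (ψ₁.trans φ.symm)
    have hχ : IsoIn F χ := hφi.trans ((isoIn_homIso hψ _).trans hφi.symm)
    refine Subgroup.subset_closure ⟨Q, lt_of_le_of_ne hPS fun h => ?_, _, hχ, fun x => ?_⟩
    · have h1 : Nat.card Q = Nat.card P := by rw [h]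
      rw [hc, ← (Nat.card_congr (E.equivMapOfInjective Q.subtype Q.subtype_injective).toEquiv)] at h1
      have := hp.out.two_le
      have h2 : 0 < Nat.card E := Nat.card_pos
      nlinarith
    · show ((χ ⟨x, hPS x.2⟩ : Q) : Ω) = ((e.symm (β (e x)) : P) : Ω)
      have h1 : (φ ⟨x, hPS x.2⟩ : Q) = ⟨((e x : P₂) : Ω), hP₂S (e x).2⟩ :=
        Subtype.ext (heval x ⟨x, hPS x.2⟩ rfl).symm
      have h2 : ψ₁ (φ ⟨x, hPS x.2⟩) = ⟨((β (e x) : P₂) : Ω), hP₂S (β (e x)).2⟩ := by
        refine Subtype.ext ?_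
        rw [h1, coe_homIso]
        exact hψβ (e x)
      have h3 : φ ⟨((e.symm (β (e x)) : P) : Ω), hPS (e.symm (β (e x))).2⟩ =
          ⟨((β (e x) : P₂) : Ω), hP₂S (β (e x)).2⟩ := by
        refine Subtype.ext ?_
        rw [← heval (e.symm (β (e x))) ⟨_, hPS (e.symm (β (e x))).2⟩ rfl, e.apply_symm_apply]
      simp only [χ, MulEquiv.trans_apply]
      rw [h2, ← h3, MulEquiv.symm_apply_apply]
  have h4 : MulAut.congr e a ∈ extensibleAut F P₂ := by rw [heq]; exact congr_mem_autGroup he ha
  have h5 := hle h4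
  have h6 : MulAut.congr e.symm (MulAut.congr e a) = a := MulEquiv.ext fun x => by simp [MulAut.congr]
  exact h6 ▸ h5

section Build

/-- `E` as a subgroup of `Ω`. -/
noncomputable def toP (E : Subgroup S) : E ≃* E.map S.subtype :=
  E.equivMapOfInjective S.subtype S.subtype_injective

theorem congr_eval (E : Subgroup S) (a : MulAut E) (x : E.map S.subtype) (y : S) (hy : y ∈ E)
    (hxy : (y : Ω) = x) :
    ((MulAut.congr (toP E) a x : E.map S.subtype) : Ω) = (ap a y : S) := by
  have hx : x = toP E ⟨y, hy⟩ := Subtype.ext hxy.symm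
  rw [hx, ap_of_mem a hy]
  simp [MulAut.congr, toP]

omit [Finite S] hp in
theorem congr_apply_apply {A B : Type*} [Group A] [Group B] (f : A ≃* B) (a : MulAut A) (y : A) :
    MulAut.congr f a (f y) = f (a y) := by
  show f (a (f.symm (f y))) = f (a y)
  rw [f.symm_apply_apply]

/-- The data of `F` at a set of normal essential subgroups closed under the automorphisms of `S`. -/
noncomputable def preOfSet (hp2 : p ≠ 2) (hS : IsPGroup p S) (hsr : Cfsg.SectionalPRankLE p 3 S)
    (hsr' : ¬ Cfsg.SectionalPRankLE p 2 S) (hF : F.IsSaturated p) (𝓔 : Set (Subgroup Ω))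
    (hess : ∀ P ∈ 𝓔, F.IsEssential p P)
    (hnorm : ∀ P ∈ 𝓔, S ≤ Subgroup.normalizer (P : Set Ω))
    (hclosed : ∀ φ ∈ F.autGroup S, ∀ E : Subgroup S, E.map S.subtype ∈ 𝓔 →
      F.IsEssential p ((E.map φ.toMonoidHom).map S.subtype) →
        (E.map φ.toMonoidHom).map S.subtype ∈ 𝓔) :
    Pre p S where
  ess := {E | E.map S.subtype ∈ 𝓔}
  aut E := (F.autGroup (E.map S.subtype)).comap (MulAut.congr (toP E)).toMonoidHom
  autS := F.autGroup S
  odd := hp2
  isP := hS
  sec := hsr
  nt := by
    by_contra h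
    rw [not_nontrivial_iff_subsingleton] at h
    refine hsr' fun H N _ A _ _ => ?_
    haveI : Subsingleton (H ⧸ N) := QuotientGroup.mk_surjective.subsingleton
    exact (Finite.card_le_one_iff_subsingleton.2 inferInstance).trans (Nat.one_le_pow _ _ hp.out.pos)
  normal E hE := ⟨fun x hx g => by
    obtain ⟨y, hy, hyx⟩ := (mem_normalizer_iff.1 (hnorm _ hE g.2) x).1 ⟨x, hx, rfl⟩
    have h : y = g * x * g⁻¹ := Subtype.ext hyx
    exact h ▸ hy⟩
  index_eq E hE := by
    have h := card_eq_of_essential hS hp2 hsr hF (hess _ hE) (hnorm _ hE)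
    rw [← Nat.card_congr (toP E).toEquiv, ← E.index_mul_card] at h
    exact Nat.eq_of_mul_eq_mul_right Nat.card_pos h
  cent E hE g hg := by
    have h : (g : Ω) ∈ centralizerIn S (E.map S.subtype) := by
      refine mem_centralizerIn.2 ⟨g.2, ?_⟩
      rintro _ ⟨y, hy, rfl⟩
      exact (congrArg Subtype.val (hg y hy)).symm
    obtain ⟨y, hy, hyg⟩ := (hess _ hE).1.2 _ (isConj_refl F (hess _ hE).1.1) h
    exact (Subtype.ext hyg : y = g) ▸ hy
  conj_mem E hE a ha := by
    obtain ⟨g, -, hga⟩ := ha
    refine autInducedBy_le_autGroup (hess _ hE).1.1 (mem_autInducedBy.2 ⟨g, g.2, fun x => ?_⟩)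
    obtain ⟨y, hy, hyx⟩ := x.2
    show ((MulAut.congr (toP E) a x : E.map S.subtype) : Ω) = _
    rw [congr_eval E a x y hy hyx, hga y hy, ← hyx]
    rfl
  sylow E hE P hPA hPp hR a ha := by
    haveI := finite_of_le (hess _ hE).1.1
    obtain ⟨-, R, hR'⟩ := (isFullyAutomized_and_fc_of_fn hS hF (hess _ hE).2.1).2
    set Q := (P.map (MulAut.congr (toP E)).toMonoidHom).subgroupOf (F.autGroup (E.map S.subtype))
    have hQp : IsPGroup p Q := (hPp.map _).comap_subtype
    have hle : (R : Subgroup (F.autGroup (E.map S.subtype))) ≤ Q := by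
      intro u hu
      rw [hR'] at hu
      obtain ⟨g, hg, hgu⟩ := mem_autInducedBy.1 (Subgroup.mem_subgroupOf.mp hu)
      refine ⟨MulAut.congr (toP E).symm u, hR ⟨⟨g, hg⟩, mem_top _, fun y hy => ?_⟩,
        MulEquiv.ext fun x => by simp [MulAut.congr]⟩
      refine Subtype.ext ?_
      rw [← congr_eval E _ (toP E ⟨y, hy⟩) y hy rfl]
      have e1 : MulAut.congr (toP E) (MulAut.congr (toP E).symm (u : MulAut _)) = u :=
        MulEquiv.ext fun x => by simp [MulAut.congr]
      rw [e1, hgu]
      rfl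
    have hQR : Q = R := R.is_maximal' hQp hle
    have hmem : (⟨MulAut.congr (toP E) a, hPA ha⟩ : F.autGroup (E.map S.subtype)) ∈ Q := ⟨a, ha, rfl⟩
    rw [hQR, hR'] at hmem
    obtain ⟨g, hg, hga⟩ := mem_autInducedBy.1 (Subgroup.mem_subgroupOf.mp hmem)
    refine ⟨⟨g, hg⟩, mem_top _, fun y hy => Subtype.ext ?_⟩
    rw [← congr_eval E a (toP E ⟨y, hy⟩) y hy rfl, hga]
    rfl
  radical E hE N hNA hNn hNp a ha := by
    obtain ⟨-, -, -, hO', -, -⟩ := RankTwo.basic hS hF (hess _ hE)
    set Q := (N.map (MulAut.congr (toP E)).toMonoidHom).subgroupOf (F.autGroup (E.map S.subtype))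
    have hQn : Q.Normal := by
      refine ⟨fun u hu b => ?_⟩
      obtain ⟨m, hm, hmu⟩ := hu
      refine ⟨MulAut.congr (toP E).symm b * m * (MulAut.congr (toP E).symm b)⁻¹, hNn _ ?_ m hm, ?_⟩
      · show MulAut.congr (toP E) (MulAut.congr (toP E).symm b) ∈ F.autGroup _
        have e1 : MulAut.congr (toP E) (MulAut.congr (toP E).symm (b : MulAut _)) = b :=
          MulEquiv.ext fun x => by simp [MulAut.congr]
        rw [e1]; exact b.2
      · have e1 : MulAut.congr (toP E) (MulAut.congr (toP E).symm (b : MulAut _)) = b :=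
          MulEquiv.ext fun x => by simp [MulAut.congr]
        rw [map_mul, map_mul, map_inv, hmu]
        simp only [MulEquiv.coe_toMonoidHom, e1]
        rfl
    have hmem : (⟨MulAut.congr (toP E) a, hNA ha⟩ : F.autGroup (E.map S.subtype)) ∈ Q := ⟨a, ha, rfl⟩
    obtain ⟨n, hn⟩ := Subgroup.mem_subgroupOf.1 (hO' Q hQn (hNp.map _).comap_subtype hmem)
    obtain ⟨z, hz, hzn⟩ := n.2
    refine ⟨z, hz, fun y hy => Subtype.ext ?_⟩
    rw [← congr_eval E a (toP E ⟨y, hy⟩) y hy rfl]
    have h := congrArg (fun b : MulAut _ => ((b (toP E ⟨y, hy⟩) : E.map S.subtype) : Ω)) hn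
    simp only [MulAut.conj_apply, Subgroup.coe_mul, Subgroup.coe_inv] at h
    rw [← h, ← hzn]
    rfl
  extend E hE a ha hext := by
    have hPS : E.map S.subtype ≤ S := (hess _ hE).1.1
    haveI := finite_of_le hPS
    have hrec := isReceptive_of_fc hS hF (isFullyAutomized_and_fc_of_fn hS hF (hess _ hE).2.1).1
    have hi : IsoIn F (MulAut.congr (toP E) a) := (mem_autGroup hPS).1 ha
    obtain ⟨ψ, hψ, hψe⟩ := IsReceptive_ext hrec hi (N := S) (by
      intro n hn
      refine ⟨hn, hnorm _ hE hn, ?_⟩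
      obtain ⟨h, hh⟩ := hext ⟨n, hn⟩
      refine ⟨h, h.2, fun x z hxz => ?_⟩
      obtain ⟨y, hy, hyx⟩ := x.2
      obtain ⟨y', hy', hyz⟩ := z.2
      rw [congr_eval E a z y' hy' hyz, congr_eval E a x y hy hyx]
      have hyy : y' = (⟨n, hn⟩ : S) * y * (⟨n, hn⟩ : S)⁻¹ := Subtype.ext (by
        show (y' : Ω) = n * (y : Ω) * n⁻¹
        rw [show (y' : Ω) = z from hyz, show (y : Ω) = x from hyx]
        exact hxz)
      rw [hyy, hh y hy]
      rfl)
    refine ⟨homIso hψ (range_eq_of_card_le hψ le_rfl (fun x => hom_mem hψ x) le_rfl),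
      (mem_autGroup le_rfl).2 (isoIn_homIso hψ _), fun y hy => Subtype.ext ?_⟩
    rw [coe_homIso, hψe y ⟨y, hy, rfl⟩]
    exact congr_eval E a _ y hy rfl
  autS_conj g :=
    autInducedBy_le_autGroup le_rfl (mem_autInducedBy.2 ⟨g, g.2, fun x => rfl⟩)
  autS_inner φ hφ := by
    rintro ⟨k, hk⟩
    obtain ⟨-, R, hR⟩ := (isFullyAutomized_and_fc_of_fn hS hF (isFullyNormalized_top F)).2
    haveI : ((Inn S).subgroupOf (F.autGroup S)).Normal := inn_subgroupOf_normal _
    have hR' : (R : Subgroup (F.autGroup S)) = (Inn S).subgroupOf (F.autGroup S) := by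
      rw [hR]
      refine le_antisymm ?_ (Subgroup.subgroupOf_mono _ (inn_le_autInducedBy le_rfl))
      intro u hu
      obtain ⟨g, hg, hgu⟩ := mem_autInducedBy.1 (Subgroup.mem_subgroupOf.mp hu)
      exact ⟨⟨g, hg⟩, MulEquiv.ext fun x => Subtype.ext (hgu x).symm⟩
    have hz : IsPGroup p (zpowers (⟨φ, hφ⟩ : F.autGroup S)) := by
      rintro ⟨b, hb⟩
      obtain ⟨j, rfl⟩ := mem_zpowers_iff.1 hb
      refine ⟨k, Subtype.ext (Subtype.ext ?_)⟩
      simp only [SubmonoidClass.coe_pow, SubgroupClass.coe_zpow, OneMemClass.coe_one]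
      rw [← zpow_natCast, ← zpow_mul, mul_comm, zpow_mul, zpow_natCast, hk, one_zpow]
    haveI : (R : Subgroup (F.autGroup S)).Normal := hR'.symm ▸ inferInstance
    have hmax := R.is_maximal' (IsPGroup.to_sup_of_normal_left R.isPGroup' hz) le_sup_left
    have hmem : (⟨φ, hφ⟩ : F.autGroup S) ∈ (R : Subgroup (F.autGroup S)) :=
      hmax.le (mem_sup_right (mem_zpowers _))
    rw [hR'] at hmem
    obtain ⟨g, hg⟩ := Subgroup.mem_subgroupOf.1 hmem
    exact ⟨g, hg.symm⟩
  transport φ hφ E hE := by
    have hn : E.Normal := ⟨fun x hx g => by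
      obtain ⟨y, hy, hyx⟩ := (mem_normalizer_iff.1 (hnorm _ hE g.2) x).1 ⟨x, hx, rfl⟩
      have h : y = g * x * g⁻¹ := Subtype.ext hyx
      exact h ▸ hy⟩
    have hc : Nat.card S = p * Nat.card E := by
      rw [card_eq_of_essential hS hp2 hsr hF (hess _ hE) (hnorm _ hE), Nat.card_congr (toP E).toEquiv]
    refine ⟨hclosed φ hφ E hE (essential_map hS hF hφ E (hess _ hE) hn hc), fun a ha => ?_⟩
    let ε := E.equivMapOfInjective φ.toMonoidHom φ.injective
    refine ⟨MulAut.congr ε a, ?_, fun x hx => ?_⟩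
    · let e : E.map S.subtype ≃* (E.map φ.toMonoidHom).map S.subtype :=
        ((toP E).symm.trans ε).trans (toP _)
      have he : IsoIn F e := hom_congr (restrict_mem ((mem_autGroup le_rfl).1 hφ) (map_subtype_le E))
        fun x => by
          obtain ⟨y, hy⟩ := (toP E).surjective x
          subst hy
          simp only [e, MulEquiv.coe_toMonoidHom, MonoidHom.comp_apply, MulEquiv.trans_apply,
            MulEquiv.symm_apply_apply]
          rfl
      show MulAut.congr (toP _) (MulAut.congr ε a) ∈ F.autGroup _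
      have e1 : MulAut.congr (toP _) (MulAut.congr ε a) = MulAut.congr e (MulAut.congr (toP E) a) :=
        MulEquiv.ext fun x => by
          obtain ⟨z, rfl⟩ := (toP _).surjective x
          obtain ⟨w, rfl⟩ := ε.surjective z
          rw [congr_apply_apply, congr_apply_apply,
            show toP (E.map φ.toMonoidHom) (ε w) = e (toP E w) by
              simp only [e, MulEquiv.trans_apply, MulEquiv.symm_apply_apply],
            congr_apply_apply, congr_apply_apply]
          simp only [e, MulEquiv.trans_apply, MulEquiv.symm_apply_apply]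
      rw [e1]
      exact congr_mem_autGroup he ha
    · rw [ap_of_mem a hx]
      have h2 : φ x = ((ε ⟨x, hx⟩ : E.map φ.toMonoidHom) : S) := rfl
      rw [h2, ap_coe, congr_apply_apply]
      rfl

/-- The data of `F`. -/
noncomputable def ofFusion (hp2 : p ≠ 2) (hS : IsPGroup p S) (hsr : Cfsg.SectionalPRankLE p 3 S)
    (hsr' : ¬ Cfsg.SectionalPRankLE p 2 S) (hF : F.IsSaturated p) (hO : F.core = ⊥)
    (hnorm : ∀ P : Subgroup Ω, F.IsEssential p P → S ≤ Subgroup.normalizer (P : Set Ω)) :
    Sys p S where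
  toPre := preOfSet hp2 hS hsr hsr' hF {P | F.IsEssential p P} (fun _ h => h) hnorm
    fun _ _ _ _ h => h
  core Q hQ hQS := by
    have hQ' : F.IsNormal (Q.map S.subtype) := by
      refine isNormal_of_forall_essential hS hF fun P hP => ?_
      rcases hP with rfl | hP
      · refine ⟨map_subtype_le Q, fun α hα => ?_⟩
        haveI := finite_of_le (map_subtype_le Q)
        rw [Subgroup.subgroupOf, comap_map_eq_self_of_injective (Subgroup.subtype_injective _)]
        refine eq_of_le_of_card_ge ?_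
          (le_of_eq (Nat.card_congr (equivMapOfInjective Q α.toMonoidHom α.injective).toEquiv))
        rintro _ ⟨x, hx, rfl⟩
        exact hQS α hα x hx
      · have hPS := hP.1.1
        haveI := finite_of_le hPS
        set E := P.subgroupOf S
        have hEP : E.map S.subtype = P := map_subgroupOf_eq_of_le hPS
        obtain ⟨hQE, hinv⟩ := hQ E (show F.IsEssential p (E.map S.subtype) by rw [hEP]; exact hP)
        refine ⟨?_, fun α hα => ?_⟩
        · rintro _ ⟨x, hx, rfl⟩; exact hQE hx
        refine eq_of_le_of_card_ge ?_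
          (le_of_eq (Nat.card_congr (equivMapOfInjective _ α.toMonoidHom α.injective).toEquiv))
        rintro _ ⟨x, hx, rfl⟩
        obtain ⟨q, hq, hqx⟩ := mem_subgroupOf.1 hx
        let δ : E.map S.subtype ≃* P := MulEquiv.subgroupCongr hEP
        have hδ : IsoIn F δ := hom_congr (subtype_mem F (hEP ▸ hPS)) fun y => rfl
        let a : MulAut E := MulAut.congr (toP E).symm (MulAut.congr δ.symm α)
        have hca : MulAut.congr (toP E) a = MulAut.congr δ.symm α :=
          MulEquiv.ext fun y => by simp [a, MulAut.congr]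
        have ha : MulAut.congr (toP E) a ∈ F.autGroup (E.map S.subtype) :=
          hca ▸ congr_mem_autGroup hδ.symm hα
        have h := hinv a ha q hq
        refine mem_subgroupOf.2 ⟨_, h, ?_⟩
        show ((ap a q : S) : Ω) = ((α x : P) : Ω)
        rw [← congr_eval E a (δ.symm x) q (hQE hq) hqx, hca]
        simp [MulAut.congr, δ]
    have hle : Q.map S.subtype ≤ F.core := le_sSup hQ'
    rw [hO, le_bot_iff, map_eq_bot_iff_of_injective _ S.subtype_injective] at hle
    exact hle

end Build

end Cfsg.Lib.FusionSys.SecThree
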