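import Cfsg.Agent.Lib.FusionSys.SecThree.PairMain
import Cfsg.Agent.Lib.FusionSys.SecThree.OfFusion
import Cfsg.Agent.Lib.FusionSys.SmallEssential

/-!
# A fusion system with two characteristic essential subgroups in sectional rank three
-/

set_option linter.style.haveILetI false
set_option autoImplicit false

namespace Cfsg.Lib.FusionSys.SecThree

open Cfsg Cfsg.FusionSystem Cfsg.Lib.FusionSys Subgroup
open scoped commutatorElement

universe u

variable {Ω : Type u} [Group Ω] {S : Subgroup Ω} [Finite S] {p : ℕ} [hp : Fact p.Prime]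
  {F : FusionSystem S}

/-- A subgroup invariant under the automorphisms of the system on `S` is normal in `S`. -/
theorem le_normalizer_of_autGroup {E : Subgroup Ω} (hES : E ≤ S)
    (hc : ∀ φ : MulAut S, φ ∈ F.autGroup S → (E.subgroupOf S).map φ.toMonoidHom = E.subgroupOf S) :
    S ≤ Subgroup.normalizer (E : Set Ω) := by
  intro g hg
  haveI := finite_of_le hES
  refine mem_normalizer_fintype fun x hx => ?_
  have h := hc (MulAut.conj ⟨g, hg⟩)
    (autInducedBy_le_autGroup le_rfl (mem_autInducedBy.2 ⟨g, hg, fun x => rfl⟩))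
  exact mem_subgroupOf.1 (h.le (mem_map_of_mem _ (show (⟨x, hES hx⟩ : S) ∈ E.subgroupOf S from hx)))

/-- Two characteristic essential subgroups force class at least three. -/
theorem class_three_of_essential (hp2 : p ≠ 2) (hS : IsPGroup p S)
    (hsr : Cfsg.SectionalPRankLE p 3 S) (hsr' : ¬ Cfsg.SectionalPRankLE p 2 S)
    (hF : F.IsSaturated p) (hO : F.core = ⊥) : ∃ a b c : S, ⁅⁅a, b⁆, c⁆ ≠ 1 := by
  by_contra h
  push Not at h
  have hnorm : ∀ P : Subgroup Ω, F.IsEssential p P → S ≤ Subgroup.normalizer (P : Set Ω) := by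
    intro P hP g hg
    have hPS := hP.1.1
    haveI := finite_of_le hPS
    refine mem_normalizer_fintype fun x hx => ?_
    have hcc : (⁅(⟨g, hg⟩ : S), ⟨x, hPS hx⟩⁆ : S).1 ∈ centralizerIn S P := by
      refine mem_centralizerIn.2 ⟨(⁅(⟨g, hg⟩ : S), ⟨x, hPS hx⟩⁆ : S).2, fun y hy => ?_⟩
      have h1 := commutatorElement_eq_one_iff_mul_comm.1 (h ⟨g, hg⟩ ⟨x, hPS hx⟩ ⟨y, hPS hy⟩)
      exact congrArg Subtype.val h1
    have h2 := P.mul_mem (hP.1.2 P (isConj_refl F hPS) hcc) hx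
    simp only [commutatorElement_def, coe_mul, InvMemClass.coe_inv, inv_mul_cancel_right] at h2
    exact h2
  obtain ⟨a, b, c, habc⟩ :=
    ((spRels_of_sys (ofFusion hp2 hS hsr hsr' hF hO hnorm) hsr').facts hp2).class_three
  exact habc (h a b c)

/-- The shape of the group and of the two subgroups. -/
theorem two_characteristic_essentials (hp2 : p ≠ 2) (hS : IsPGroup p S)
    (hsr : Cfsg.SectionalPRankLE p 3 S) (hsr' : ¬ Cfsg.SectionalPRankLE p 2 S)
    (hF : F.IsSaturated p) (hO : F.core = ⊥) {E₁ E₂ : Subgroup Ω} (hne : E₁ ≠ E₂)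
    (hE₁ : F.IsEssential p E₁) (hE₂ : F.IsEssential p E₂)
    (hc₁ : ∀ φ : MulAut S, φ ∈ F.autGroup S → (E₁.subgroupOf S).map φ.toMonoidHom = E₁.subgroupOf S)
    (hc₂ : ∀ φ : MulAut S, φ ∈ F.autGroup S → (E₂.subgroupOf S).map φ.toMonoidHom = E₂.subgroupOf S) :
    SpRels p S ∧ Nat.card E₁ = p ^ 3 ∧ Nat.card E₂ = p ^ 3 ∧
      ((IsMulCommutative E₁ ∧ ¬ IsMulCommutative E₂) ∨
        (IsMulCommutative E₂ ∧ ¬ IsMulCommutative E₁)) := by
  have m1 : (E₁.subgroupOf S).map S.subtype = E₁ := map_subgroupOf_eq_of_le hE₁.1.1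
  have m2 : (E₂.subgroupOf S).map S.subtype = E₂ := map_subgroupOf_eq_of_le hE₂.1.1
  have hcomap : ∀ (E : Subgroup S) {X : Subgroup Ω}, E.map S.subtype = X → E = X.subgroupOf S :=
    fun E X h => by rw [← h, subgroupOf, comap_map_eq_self_of_injective S.subtype_injective]
  let P := preOfSet hp2 hS hsr hsr' hF {E₁, E₂}
    (fun X hX => by rcases hX with rfl | rfl <;> assumption)
    (fun X hX => by
      rcases hX with rfl | rfl
      exacts [le_normalizer_of_autGroup hE₁.1.1 hc₁, le_normalizer_of_autGroup hE₂.1.1 hc₂])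
    (fun φ hφ E hE _ => by
      rcases hE with h | h
      · rw [hcomap E h, hc₁ φ hφ, m1]; exact Or.inl rfl
      · rw [hcomap E h, hc₂ φ hφ, m2]; exact Or.inr rfl)
  have H : P.IsPair (E₁.subgroupOf S) (E₂.subgroupOf S) := by
    refine ⟨fun h => hne (by rw [← m1, h, m2]), Or.inl m1, Or.inr m2, fun E hE => ?_, ?_⟩
    · rcases hE with h | h
      exacts [Or.inl (hcomap E h), Or.inr (hcomap E h)]
    · intro φ hφ E hE x hx
      rcases hE with h | h
      · rw [hcomap E h] at hx ⊢; exact (hc₁ φ hφ).le (mem_map_of_mem _ hx)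
      · rw [hcomap E h] at hx ⊢; exact (hc₂ φ hφ).le (mem_map_of_mem _ hx)
  obtain ⟨hsp, c1, c2, hab⟩ :=
    pair_shape H (class_three_of_essential hp2 hS hsr hsr' hF hO) hsr'
  have hiff : ∀ {X : Subgroup Ω}, X ≤ S →
      (IsMulCommutative X ↔ ∀ u ∈ X.subgroupOf S, ∀ v ∈ X.subgroupOf S, u * v = v * u) := by
    intro X hX
    constructor
    · intro h u hu v hv
      have h1 := h.is_comm.comm (⟨u.1, hu⟩ : X) ⟨v.1, hv⟩
      simpa [Subtype.ext_iff] using h1
    · intro h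
      refine ⟨⟨fun u v => ?_⟩⟩
      have h1 := h ⟨u, hX u.2⟩ u.2 ⟨v, hX v.2⟩ v.2
      simpa [Subtype.ext_iff] using h1
  refine ⟨hsp, ?_, ?_, ?_⟩
  · rw [← c1]; exact (Nat.card_congr (subgroupOfEquivOfLe hE₁.1.1).toEquiv).symm
  · rw [← c2]; exact (Nat.card_congr (subgroupOfEquivOfLe hE₂.1.1).toEquiv).symm
  · rcases hab with ⟨h1, u, hu, v, hv, huv⟩ | ⟨h1, u, hu, v, hv, huv⟩
    · exact Or.inl ⟨(hiff hE₁.1.1).2 h1, fun h => huv ((hiff hE₂.1.1).1 h u hu v hv)⟩
    · exact Or.inr ⟨(hiff hE₂.1.1).2 h1, fun h => huv ((hiff hE₁.1.1).1 h u hu v hv)⟩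

/-- The types of two subgroups of order `p ^ 3`, the first abelian and the second not. -/
theorem types_of_cube (hp2 : p ≠ 2) (hS : IsPGroup p S) (hF : F.IsSaturated p) {A X : Subgroup Ω}
    (hA : F.IsEssential p A) (hX : F.IsEssential p X) (cA : Nat.card A = p ^ 3)
    (cX : Nat.card X = p ^ 3) (hab : IsMulCommutative A) (hna : ¬ IsMulCommutative X) :
    Cfsg.IsExtraspecial p ↥X ∧ Nat.card X = p ^ 3 ∧ (∀ x ∈ X, x ^ p = 1) ∧
      Cfsg.IsElementaryAbelian p A ∧ Nat.card A = p ^ 3 := by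
  haveI := finite_of_le hA.1.1
  have hXc : Cfsg.IsExtraspecial p ↥X ∧ ∀ x ∈ X, x ^ p = 1 := by
    rcases RankTwo.card_cube hS hF hX cX with h | ⟨-, h1, h2⟩ | ⟨h, -⟩
    exacts [absurd h.1 hna, ⟨h1, h2⟩, absurd h hp2]
  have hAc : Cfsg.IsElementaryAbelian p A := by
    rcases RankTwo.card_cube hS hF hA cA with h | ⟨-, h1, -⟩ | ⟨h, -⟩
    · exact h
    · exfalso
      have htop : Subgroup.center A = ⊤ := eq_top_iff.2 fun x _ => mem_center_iff.2 fun y => hab.is_comm.comm y x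
      have h2 := h1.2
      rw [htop, card_top, cA] at h2
      exact absurd (Nat.pow_right_injective hp.out.two_le (h2.trans (pow_one p).symm)) (by norm_num)
    · exact absurd h hp2
  exact ⟨hXc.1, cX, hXc.2, hAc, cA⟩

end Cfsg.Lib.FusionSys.SecThree
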