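import Cfsg.Agent.Lib.FusionSys.SecThree.Core

/-!
# Two invariant essential subgroups and their common core
-/

set_option linter.style.haveILetI false
set_option autoImplicit false

namespace Cfsg.Lib.FusionSys.SecThree

open Subgroup RankThree
open scoped commutatorElement

variable {G : Type*} [Group G] [Finite G] {p : ℕ} [hp : Fact p.Prime]

namespace Pre

variable (P : Pre p G)

/-- The essential subgroups are `E₁ ≠ E₂`, both invariant under the automorphisms of the whole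
group. -/
structure IsPair (E₁ E₂ : Subgroup G) : Prop where
  ne : E₁ ≠ E₂
  left : E₁ ∈ P.ess
  right : E₂ ∈ P.ess
  eq : ∀ E ∈ P.ess, E = E₁ ∨ E = E₂
  autS_ess : ∀ φ ∈ P.autS, ∀ E ∈ P.ess, ∀ x ∈ E, φ x ∈ E

/-- Contained in every essential subgroup and invariant under all the automorphism groups. -/
def IsInvariant (Q : Subgroup G) : Prop :=
  (∀ E ∈ P.ess, Q ≤ E ∧ ∀ a ∈ P.aut E, ∀ x ∈ Q, ap a x ∈ Q) ∧ ∀ φ ∈ P.autS, ∀ x ∈ Q, φ x ∈ Q

/-- The largest invariant subgroup. -/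
def invCore : Subgroup G := sSup {Q | P.IsInvariant Q}

omit [Finite G] hp in
theorem le_invCore {Q : Subgroup G} (h : P.IsInvariant Q) : Q ≤ P.invCore := le_sSup h

omit [Finite G] hp in
theorem isInvariant_invCore : P.IsInvariant P.invCore := by
  have hle : ∀ E ∈ P.ess, P.invCore ≤ E := fun E hE => sSup_le fun Q hQ => (hQ.1 E hE).1
  refine ⟨fun E hE => ⟨hle E hE, fun a ha x hx => ?_⟩, fun φ hφ x hx => ?_⟩
  · let K : Subgroup G := (((P.invCore).subgroupOf E).comap a.toMonoidHom).map E.subtype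
    have h : P.invCore ≤ K := sSup_le fun Q hQ y hy => by
      refine ⟨⟨y, (hQ.1 E hE).1 hy⟩, ?_, rfl⟩
      show ((a ⟨y, (hQ.1 E hE).1 hy⟩ : E) : G) ∈ P.invCore
      rw [← ap_of_mem a]
      exact P.le_invCore hQ ((hQ.1 E hE).2 a ha y hy)
    obtain ⟨y, hy, rfl⟩ := h hx
    rw [Subgroup.coe_subtype, ap_coe]
    exact hy
  · have h : P.invCore ≤ (P.invCore).comap φ.toMonoidHom := sSup_le fun Q hQ y hy =>
      P.le_invCore hQ (hQ.2 φ hφ y hy)
    exact h hx

theorem invCore_normal : P.invCore.Normal :=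
  ⟨fun x hx g => P.isInvariant_invCore.2 _ (P.autS_conj g) x hx⟩

theorem inv_invCore {E : Subgroup G} (hE : E ∈ P.ess) : P.Inv E P.invCore :=
  ⟨hE, P.invCore_normal, (P.isInvariant_invCore.1 E hE).1, (P.isInvariant_invCore.1 E hE).2⟩

variable {P} {E₁ E₂ : Subgroup G} (H : P.IsPair E₁ E₂)
include H

omit [Finite G] hp in
theorem IsPair.symm : P.IsPair E₂ E₁ :=
  ⟨H.ne.symm, H.right, H.left, fun E hE => (H.eq E hE).symm, H.autS_ess⟩

theorem IsPair.sup_eq_top : E₁ ⊔ E₂ = ⊤ := by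
  obtain ⟨g, hg, hgn⟩ : ∃ g ∈ E₂, g ∉ E₁ := by
    by_contra h
    push Not at h
    refine H.ne (eq_of_card_le (h : E₂ ≤ E₁) ?_).symm
    exact (Nat.eq_of_mul_eq_mul_left hp.out.pos
      ((P.card_eq H.left).symm.trans (P.card_eq H.right))).le
  rw [eq_top_iff, ← P.sup_eq_top H.left hgn]
  exact sup_le_sup_left (zpowers_le.2 hg) _

theorem IsPair.card_inf : Nat.card E₂ = p * Nat.card ↥(E₁ ⊓ E₂) := by
  haveI := P.normal E₁ H.left
  rw [inf_comm]
  exact card_eq_of_index (P.index_eq E₁ H.left) (by rw [sup_comm]; exact H.sup_eq_top)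

/-- No essential subgroup is degenerate modulo the core. -/
theorem IsPair.conjMod_not_normal
    (hdeg : ∀ a ∈ P.aut E₁, ∀ k ∈ P.conjMod E₁ P.invCore, a * k * a⁻¹ ∈ P.conjMod E₁ P.invCore) :
    False := by
  have hG := P.isP
  set T := P.invCore with hTdef
  haveI hTn : T.Normal := P.invCore_normal
  haveI := P.normal E₁ H.left
  haveI := P.normal E₂ H.right
  have I1 := P.inv_invCore H.left
  have I2 := P.inv_invCore H.right
  have hE1 : E₁ ≤ centM T := I1.le_centM hdeg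
  obtain ⟨g, hg⟩ := I1.exists_not_centM hdeg
  have hE2 : ¬ E₂ ≤ centM T := fun h => hg (by
    have h2 : (⊤ : Subgroup G) ≤ centM T := H.sup_eq_top ▸ sup_le hE1 h
    exact h2 (mem_top g))
  set D := E₁ ⊓ E₂ with hD
  haveI hDn : D.Normal := Subgroup.normal_inf_normal E₁ E₂
  have hDeq : E₂ ⊓ centM T = D :=
    (eq_or_eq_of_card hG (K := E₂ ⊓ centM T) (le_inf inf_le_right (inf_le_left.trans hE1)) inf_le_left
      H.card_inf).resolve_right fun h => hE2 (inf_eq_left.1 h)
  have hTD : T ≤ D := le_inf I1.le I2.le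
  have hinv : P.IsInvariant D := by
    refine ⟨fun E hE => ?_, fun φ hφ x hx =>
      ⟨H.autS_ess φ hφ E₁ H.left x hx.1, H.autS_ess φ hφ E₂ H.right x hx.2⟩⟩
    rcases H.eq E hE with rfl | rfl
    · refine ⟨inf_le_left, fun a ha x hx => ?_⟩
      obtain ⟨k, hk, φ, hφ, hφe⟩ := P.frattini_argument hE _ I1.conjMod_le hdeg I1.inner_le ha
      have h1 : ap (k * a) x ∈ D := by
        rw [← hφe x hx.1]
        exact ⟨H.autS_ess φ hφ _ H.left x hx.1, H.autS_ess φ hφ _ H.right x hx.2⟩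
      obtain ⟨h, hh⟩ := I1.exists_conjMod (Subgroup.inv_mem _ hk)
      have h2 := D.mul_mem (hDn.conj_mem _ h1 h) (hTD (hh _ h1.1))
      rw [mul_inv_cancel_left, ← ap_mul_apply _ _ hx.1, inv_mul_cancel_left] at h2
      exact h2
    · refine ⟨inf_le_right, fun a ha x hx => ?_⟩
      rw [← hDeq] at hx ⊢
      exact ⟨ap_mem a hx.1, I2.ap_centM ha hx.1 hx.2⟩
  have hT : T = D := le_antisymm hTD (P.le_invCore hinv)
  refine hE2 (I2.le_centM fun a ha => ?_)
  obtain ⟨g₀, hg₀⟩ := P.exists_outer H.right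
  obtain ⟨α, hαA, -, hα⟩ := P.exists_conj H.right g₀
  refine I2.conjMod_normal hg₀ hα (fun b hb => mem_sup_right (I2.moves_normal hb ⟨hαA,
    fun t ht _ => I2.inv α hαA t ht, fun e he => ?_⟩)) a ha
  rw [hα e he, ← commutatorElement_def, ← hTdef, hT]
  exact comm_mem_of_card_step hG hDn inferInstance inf_le_right H.card_inf g₀ he

/-- The same for either of the two. -/
theorem IsPair.not_degenerate {E : Subgroup G} (hE : E ∈ P.ess)
    (hdeg : ∀ a ∈ P.aut E, ∀ k ∈ P.conjMod E P.invCore, a * k * a⁻¹ ∈ P.conjMod E P.invCore) :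
    False := by
  rcases H.eq E hE with rfl | rfl
  exacts [H.conjMod_not_normal hdeg, H.symm.conjMod_not_normal hdeg]

end Pre

end Cfsg.Lib.FusionSys.SecThree
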