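import Cfsg.Agent.Lib.FusionSys.SecThree.PairQuot
import Cfsg.Agent.Lib.FusionSys.SecThree.TopInvert
import Cfsg.Agent.Lib.FusionSys.SecThree.CardM

/-!
# A quotient with the shape of `Sp(4, p)` has trivial core
-/

set_option linter.style.haveILetI false
set_option linter.unusedSectionVars false
set_option autoImplicit false

namespace Cfsg.Lib.FusionSys.SecThree

open Subgroup RankThree
open scoped commutatorElement

variable {G : Type*} [Group G] [Finite G] {p : ℕ} [hp : Fact p.Prime]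

namespace Pre

variable {P : Pre p G} {E₁ E₂ : Subgroup G} [P.invCore.Normal] (H : P.IsPair E₁ E₂)
include H

set_option maxHeartbeats 1000000 in
/-- The core is trivial, with `E₁` abelian and `E₂` not modulo it. -/
theorem IsPair.sp_core_bot (hF : SpFacts p (G ⧸ P.invCore))
    (hab : ∀ u ∈ E₁, ∀ v ∈ E₁, ⁅u, v⁆ ∈ P.invCore) (hna : ∃ u ∈ E₂, ∃ v ∈ E₂, ⁅u, v⁆ ∉ P.invCore) :
    P.invCore = ⊥ := by
  have hG := P.isP
  have hp2 := P.odd
  set T := P.invCore with hTdef
  set π := QuotientGroup.mk' T with hπ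
  have hπ1 : ∀ y, π y = 1 ↔ y ∈ T := fun y => QuotientGroup.eq_one_iff y
  have hIA := P.inv_invCore H.left
  have hIX := P.inv_invCore H.right
  rw [← hTdef] at hIA hIX
  have hTX : T ≤ E₂ := hIX.le
  have hTA : T ≤ E₁ := hIA.le
  haveI := P.normal E₁ H.left
  haveI := P.normal E₂ H.right
  set D := E₁ ⊓ E₂ with hD
  haveI hDn : D.Normal := Subgroup.normal_inf_normal E₁ E₂
  have hTD : T ≤ D := le_inf hTA hTX
  have hE : ∀ E ∈ P.ess, Nat.card E = p ^ 3 * Nat.card T := fun E hE => by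
    have h1 := P.card_eq hE
    rw [Subgroup.card_eq_card_quotient_mul_card_subgroup T, hF.card] at h1
    exact Nat.eq_of_mul_eq_mul_left hp.out.pos (h1.symm.trans (by ring))
  have hcD : Nat.card D = p ^ 2 * Nat.card T := by
    have h1 := H.card_inf
    rw [hE E₂ H.right, ← hD] at h1
    exact Nat.eq_of_mul_eq_mul_left hp.out.pos (h1.symm.trans (by ring))
  set Z := (center (G ⧸ T)).comap π with hZ
  haveI hZn : Z.Normal := Normal.comap inferInstance π
  have hTZ : T ≤ Z := fun y hy => by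
    rw [hZ, mem_comap, (hπ1 y).2 hy]; exact one_mem _
  have hZc : Nat.card Z = p * Nat.card T := by
    rw [← card_map_mk T Z hTZ, ← hπ, hZ, map_comap_eq_self_of_surjective
      (QuotientGroup.mk'_surjective T), hF.card_center]
  have hZmem : ∀ y, y ∈ Z ↔ ∀ g : G, ⁅g, y⁆ ∈ T := fun y => by
    rw [hZ, mem_comap, mem_center_iff]
    constructor
    · intro h g
      rw [← hπ1, map_commutatorElement]
      exact commutatorElement_eq_one_iff_mul_comm.2 (h _)
    · intro h q
      induction q using QuotientGroup.induction_on with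
      | _ g =>
        refine commutatorElement_eq_one_iff_mul_comm.1 ?_
        show ⁅π g, π y⁆ = 1
        rw [← map_commutatorElement, hπ1]
        exact h g
  have hZle : ∀ E ∈ P.ess, Z ≤ E := fun E hE y hy =>
    P.isInvariant_invCore.q_cent (fun _ hE => H.not_degenerate hE) hE fun x _ => by
      rw [← inv_mem_iff, commutatorElement_inv]; exact (hZmem y).1 hy x
  have hZD : Z ≤ D := le_inf (hZle E₁ H.left) (hZle E₂ H.right)
  have hDX : D ≤ E₂ := inf_le_right
  have hp1 := hp.out.two_le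
  have hTpos : 0 < Nat.card T := Nat.card_pos
  have hne : ∀ {U W : Subgroup G} {i j : ℕ}, Nat.card U = p ^ i * Nat.card T →
      Nat.card W = p ^ j * Nat.card T → i ≠ j → U ≠ W := fun hU hW hij h => by
    rw [h, hW] at hU
    exact hij (Nat.pow_right_injective hp1 (Nat.eq_of_mul_eq_mul_right hTpos hU)).symm
  have hcT : Nat.card T = p ^ 0 * Nat.card T := by rw [pow_zero, one_mul]
  have hcZ : Nat.card Z = p ^ 1 * Nat.card T := by rw [pow_one]; exact hZc
  -- everything centralises the Frattini quotient of `T`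
  have hCinv : ∀ E ∈ P.ess, ∀ a ∈ P.aut E, ∀ y ∈ E ⊓ centM T, ap a y ∈ E ⊓ centM T :=
    fun E hE a ha y hy => ⟨ap_mem a hy.1, (P.inv_invCore hE).ap_centM ha hy.1 hy.2⟩
  have hlt : T < centM T := by
    refine lt_of_le_of_ne (SecThree.le_centM hG T) fun h => ?_
    have h1 := (index_centM_le hG P.sec T).1
    rw [← h, show T.index = Nat.card (G ⧸ T) from rfl, hF.card] at h1
    exact absurd ((Nat.pow_le_pow_iff_right hp.out.one_lt).1 h1) (by norm_num)
  obtain ⟨w, hw, hwT, -, hwc⟩ := exists_central_between hG hlt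
  have hwZ : w ∈ Z := (hZmem w).2 hwc
  have hA : E₁ ≤ centM T := by
    rcases H.sp_between_abelian hF H.left hab (U := E₁ ⊓ centM T)
      (le_inf hTA (SecThree.le_centM hG T)) inf_le_left (hCinv E₁ H.left) with h | h
    · exact absurd (h.le ⟨hZle E₁ H.left hwZ, hw⟩) hwT
    · exact inf_eq_left.1 h
  have htop : ∀ g : G, g ∈ centM T := by
    intro g
    have hX : E₂ ≤ centM T := by
      rcases H.sp_between_nonabelian hF H.right hna (U := E₂ ⊓ centM T)
        (le_inf hTX (SecThree.le_centM hG T)) inf_le_left (hCinv E₂ H.right) with h | h | h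
      · have h1 := card_le_of_le (show D ≤ T from fun x hx => h.le ⟨hx.2, hA hx.1⟩)
        rw [hcD] at h1
        nlinarith [Nat.mul_lt_mul_of_pos_right (show 1 < p ^ 2 by nlinarith) hTpos]
      · have h1 := card_le_of_le (show D ≤ Z from fun x hx => h.le ⟨hx.2, hA hx.1⟩)
        rw [hcD, hZc] at h1
        nlinarith [Nat.mul_lt_mul_of_pos_right (show p < p ^ 2 by nlinarith) hTpos]
      · exact inf_eq_left.1 h
    have h : (⊤ : Subgroup G) ≤ centM T := H.sup_eq_top ▸ sup_le hA hX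
    exact h (mem_top g)
  -- the nonabelian one
  have hna' : ∃ x ∈ E₂.map π, ∃ y ∈ E₂.map π, x * y ≠ y * x := by
    obtain ⟨u, hu, v, hv, huv⟩ := hna
    refine ⟨_, mem_map_of_mem π hu, _, mem_map_of_mem π hv, fun h => huv ?_⟩
    rw [← hπ1, map_commutatorElement]
    exact commutatorElement_eq_one_iff_mul_comm.2 h
  have hXX : ∀ u ∈ E₂, ∀ v ∈ E₂, ⁅u, v⁆ ∈ Z :=
    comm_mem_of_card_sq hG (hZle E₂ H.right) (by rw [hE E₂ H.right, hZc]; ring)
  have hZinv : ∀ a ∈ P.aut E₂, ∀ y ∈ Z, ap a y ∈ Z := by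
    intro a ha y hy
    obtain ⟨b, hb, hba⟩ := P.isInvariant_invCore.exists_ind H.right ha
    show π (ap a y) ∈ center (G ⧸ T)
    rw [show π (ap a y) = ap b (π y) from (hba y (hZle E₂ H.right hy)).symm]
    exact Sys.center_invariant hF (H.quot_ess H.right) hna' b hb _ hy
  have hmoved : ∃ γ ∈ P.aut E₂, ∃ d ∈ D, ap γ d ∉ D := by
    by_contra hno
    push Not at hno
    rcases H.sp_between_nonabelian hF H.right hna hTD hDX hno with h | h | h
    · exact hne hcD hcT (by norm_num) h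
    · exact hne hcD hcZ (by norm_num) h
    · exact hne hcD (hE E₂ H.right) (by norm_num) h
  have hcent : ∀ g : G, (∀ x ∈ E₂, ⁅g, x⁆ ∈ Z) → g ∈ E₂ := by
    intro g hg
    by_contra hgX
    have hle : E₂.map π ≤ secondCenter (G ⧸ T) := by
      rintro _ ⟨x, hx, rfl⟩
      refine mem_secondCenter.2 fun q => ?_
      obtain ⟨k, rfl⟩ := QuotientGroup.mk'_surjective T q
      rw [← map_commutatorElement]
      show ⁅k, x⁆ ∈ Z
      obtain ⟨e, he, i, rfl⟩ := P.exists_decomp H.right hgX k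
      have hgi : ∀ m : ℕ, ∀ y ∈ E₂, ⁅g ^ m, y⁆ ∈ Z := by
        intro m
        induction m with
        | zero => intro y _; rw [pow_zero, commutatorElement_one_left]; exact one_mem _
        | succ m ih =>
          intro y hy
          rw [pow_succ', commutatorElement_mul_left_eq_conj_mul]
          exact Z.mul_mem (hZn.conj_mem _ (ih y hy) g) (hg y hy)
      rw [commutatorElement_mul_left_eq_conj_mul]
      exact Z.mul_mem (hZn.conj_mem _ (hXX e he x hx) _) (hgi i x hx)
    have h1 := card_le_of_le hle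
    have h2 := card_map_mk T E₂ hTX
    rw [← hπ, hE E₂ H.right] at h2
    rw [Nat.eq_of_mul_eq_mul_right hTpos h2, hF.card_second] at h1
    exact absurd ((Nat.pow_le_pow_iff_right hp.out.one_lt).1 h1) (by norm_num)
  have hpow : ∀ x ∈ E₂, x ^ p ∈ Z := fun x _ => by
    rw [hZ, mem_comap, map_pow]; exact hF.pow_mem _
  set K := P.aut E₂ ⊓ (moves E₂ T (frattiniIn T) hTX ⊓ moves E₂ Z T (hZle E₂ H.right)) with hK
  obtain ⟨t, htK, ⟨n, hn⟩, htinv, -⟩ := P.exists_invert_top H.right (U := Z) (D := D) hZD hDX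
    (by rw [hcD, hZc]; ring) (by rw [hcD, hE E₂ H.right]; ring) hpow K inf_le_left
    (fun a ha k hk => ⟨(P.aut E₂).mul_mem ((P.aut E₂).mul_mem ha hk.1) ((P.aut E₂).inv_mem ha),
      moves_conj a (fun x hx _ => ap_phi hG hTX (hIX.inv a ha) hx)
        (fun x hx _ => ap_phi hG hTX (hIX.inv _ (inv_mem ha)) hx)
        (fun x hx => hIX.inv _ (inv_mem ha) x hx) hk.2.1,
      moves_conj a (fun x hx _ => hIX.inv a ha x hx) (fun x hx _ => hIX.inv _ (inv_mem ha) x hx)
        (fun x hx => hZinv _ (inv_mem ha) x hx) hk.2.2⟩)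
    (fun a ha => by
      have haA := P.conj_mem E₂ H.right ha
      obtain ⟨g, -, hg⟩ := ha
      refine ⟨haA, ⟨fun x hx _ => ap_phi hG hTX (hIX.inv a haA) hx, fun x hx => ?_⟩,
        fun x hx _ => hIX.inv a haA x hx, fun x hx => ?_⟩
      · rw [hg x (hTX hx), ← commutatorElement_def]
        exact htop g x hx
      · rw [hg x (hZle E₂ H.right hx), ← commutatorElement_def]
        exact (hZmem x).1 hx g)
    hZinv hcent hmoved
  have hfixT := fix_of_two hG hp2 hTX (hIX.inv t htK.1) htK.2.1 hn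
  have hfixZ : ∀ u ∈ Z, ap t u = u := by
    obtain ⟨N, hN⟩ := exists_pow_card (p := p) hG
    have hco : Nat.Coprime (2 ^ n) (p ^ N) :=
      ((Nat.coprime_primes Nat.prime_two hp.out).2 (Ne.symm hp2)).pow _ _
    obtain ⟨m, hm⟩ := exists_pow_eq_self_of_coprime
      ((hco.coprime_dvd_left (orderOf_dvd_of_pow_eq_one hn)).symm)
    intro u hu
    rw [← hm, ap_pow_fix _ (hZle E₂ H.right hu) (fix_step (hZle E₂ H.right)
      (fun x hx _ => hfixT x hx) htK.2.2.2 _ (fun x _ => hN x) u hu)]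
  obtain ⟨hcX, htt, hdec⟩ := centralises_of_invert hG hp2 P.sec hZD hDX (by rw [hcD, hZc]; ring)
    (by rw [hcD, hE E₂ H.right]; ring) hpow hn hfixZ htinv
  obtain ⟨d, hd, hdZ⟩ : ∃ d ∈ D, d ∉ Z := SetLike.exists_of_lt
    (lt_of_le_of_ne hZD fun h => hne hcD hcZ (by norm_num) h.symm)
  obtain ⟨x, hx, hxD⟩ : ∃ x ∈ E₂, x ∉ D := SetLike.exists_of_lt
    (lt_of_le_of_ne hDX fun h => hne hcD (hE E₂ H.right) (by norm_num) h)
  obtain ⟨c₁, hc₁, f, hf, hdf, -, hfp⟩ := hdec d (hDX hd)
  obtain ⟨c₂, hc₂, g, hg, hxg, -, hgp⟩ := hdec x hx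
  have hfD : f ∈ D := by
    rw [show f = c₁⁻¹ * d by rw [hdf, inv_mul_cancel_left]]
    exact D.mul_mem (D.inv_mem (hZD hc₁)) hd
  have hfZ : f ∉ Z := fun h => hdZ (hdf ▸ Z.mul_mem hc₁ h)
  have hgD : g ∉ D := fun h => hxD (hxg ▸ D.mul_mem (hZD hc₁ |> fun _ => hZD hc₂) h)
  have hZf : Z ⊔ zpowers f = D :=
    (eq_or_eq_of_card hG le_sup_left (sup_le hZD (zpowers_le.2 hfD)) (by rw [hcD, hZc]; ring)).resolve_left
      fun h => hfZ (h.le (mem_sup_right (mem_zpowers f)))
  have hDg : D ⊔ zpowers g = E₂ :=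
    (eq_or_eq_of_card hG le_sup_left (sup_le hDX (zpowers_le.2 hg))
      (by rw [hcD, hE E₂ H.right]; ring)).resolve_left
      fun h => hgD (h.le (mem_sup_right (mem_zpowers g)))
  set z := ⁅g, f⁆ with hz
  have hzZ : z ∈ Z := hXX g hg f hf
  have hzT : z ∉ T := by
    intro h
    have hgf : π g * π f = π f * π g := by
      rw [← commutatorElement_eq_one_iff_mul_comm, ← map_commutatorElement, hπ1]; exact h
    obtain ⟨u, ⟨u', hu', rfl⟩, v, ⟨v', hv', rfl⟩, huv⟩ := hna'
    refine huv ?_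
    have hZc' : ∀ a ∈ Z.map π, ∀ b : G ⧸ T, a * b = b * a := by
      rintro _ ⟨a, ha, rfl⟩ b
      exact (mem_center_iff.1 (show π a ∈ center (G ⧸ T) from ha) b).symm
    have hD' := comm_sup_zpowers (D := Z.map π) (x := π f) (fun a ha b _ => hZc' a ha b)
      (fun a ha => hZc' a ha _)
    have hX' := comm_sup_zpowers (D := Z.map π ⊔ zpowers (π f)) (x := π g) hD' fun a ha => by
      obtain ⟨s, hs, i, rfl⟩ := (mem_sup_zpowers_of_commute (fun a ha => hZc' a ha (π f))).1 ha
      exact ((show Commute s (π g) from hZc' s hs _).mul_left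
        ((show Commute (π g) (π f) from hgf).symm.zpow_left i)).eq
    have hmap : E₂.map π = Z.map π ⊔ zpowers (π f) ⊔ zpowers (π g) := by
      rw [← hDg, ← hZf, Subgroup.map_sup, Subgroup.map_sup, MonoidHom.map_zpowers, MonoidHom.map_zpowers]
    exact hX' _ (hmap ▸ mem_map_of_mem π hu') _ (hmap ▸ mem_map_of_mem π hv')
  have hzp : z ^ p = 1 := by
    rw [hz, ← RankThree.comm_pow_left (show Commute g ⁅g, f⁆ from hcX g hg _ hzZ), hgp,
      commutatorElement_one_left]
  have hTz : T ⊔ zpowers z = Z :=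
    (eq_or_eq_of_card hG le_sup_left (sup_le hTZ (zpowers_le.2 hzZ)) hZc).resolve_left
      fun h => hzT (h.le (mem_sup_right (mem_zpowers z)))
  have hDab : ∀ a ∈ D, ∀ b ∈ D, a * b = b * a := by
    intro a ha b hb
    exact comm_sup_zpowers (fun u hu v hv => hcX u (hZle E₂ H.right hu) v hv)
      (fun u hu => (hcX f hf u hu).symm) a (hZf.ge ha) b (hZf.ge hb)
  -- `T` is central
  have hCA : E₁ ≤ centralizer (T : Set G) := by
    rcases H.sp_between_abelian hF H.left hab (U := E₁ ⊓ centralizer (T : Set G))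
      (le_inf hTA fun a ha b hb => hDab b (hTD hb) a (hTD ha)) inf_le_left
      (fun a ha y hy => ⟨ap_mem a hy.1, fun u hu => by
        have hu' := hIA.inv a⁻¹ (inv_mem ha) u hu
        have h := congrArg (ap a) (hy.2 _ hu')
        rwa [ap_map_mul a (hTA hu') hy.1, ap_map_mul a hy.1 (hTA hu'), ap_ap_inv a (hTA hu)] at h⟩)
      with h | h
    · exact absurd (h.le ⟨hfD.1, fun b hb => hDab b (hTD hb) f hfD⟩) fun h' => hfZ (hTZ h')
    · exact inf_eq_left.1 h
  have hTc : T ≤ center G := fun u hu => mem_center_iff.2 fun k => by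
    have hle : (⊤ : Subgroup G) ≤ centralizer ({u} : Set G) := H.sup_eq_top ▸ sup_le
      (fun y hy => mem_centralizer_singleton_iff.2 ((hCA hy) u hu).symm)
      (fun y hy => mem_centralizer_singleton_iff.2 (hcX y hy u (hTZ hu)))
    exact mem_centralizer_singleton_iff.1 (hle (mem_top k))
  by_contra hbot
  obtain ⟨c, hcT', -, hc⟩ := Cfsg.Lib.PGroup.exists_mem_center_orderOf_eq hG hbot
  have hcp : c ^ p = 1 := hc ▸ pow_orderOf_eq_one c
  have hc1 : c ≠ 1 := fun h => by rw [h, orderOf_one] at hc; exact hp.out.ne_one hc.symm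
  have hcc : ∀ y : G, y * c = c * y := mem_center_iff.1 (hTc hcT')
  -- four independent commuting elements of order `p` are too many
  have four : ∀ a b : G, a ^ p = 1 → b ^ p = 1 → a * b = b * a → a * z = z * a → a * f = f * a →
      b * z = z * b → b * f = f * b → (a ∈ T ∧ a ∉ zpowers c ∧ b = 1 ∨ b ∈ E₁ ∧ b ∉ D ∧ a = 1) → False := by
    intro a b hap hbp hab' haz haf hbz hbf hcase
    have hW1 : EA p (zpowers c ⊔ zpowers z) :=
      (ea_zpowers hcp).sup_zpowers (fun u hu => by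
        obtain ⟨i, rfl⟩ := mem_zpowers_iff.1 hu
        exact ((show Commute c z from (hcc z).symm).zpow_left i).eq) hzp
    have hW2 : EA p (zpowers c ⊔ zpowers z ⊔ zpowers f) := hW1.sup_zpowers (fun u hu => by
      have hle : zpowers c ⊔ zpowers z ≤ centralizer ({f} : Set G) := sup_le
        (zpowers_le.2 (mem_centralizer_singleton_iff.2 (hcc f).symm))
        (zpowers_le.2 (mem_centralizer_singleton_iff.2 (hDab z (hZD hzZ) f hfD)))
      exact mem_centralizer_singleton_iff.1 (hle hu)) hfp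
    have h1 := card_lt_sup_zpowers hG (zpowers c) (v := z) fun h => hzT ((zpowers_le.2 hcT') h)
    have h2 := card_lt_sup_zpowers hG (zpowers c ⊔ zpowers z) (v := f) fun h => hfZ
      ((sup_le (zpowers_le.2 (hTZ hcT')) (zpowers_le.2 hzZ) : zpowers c ⊔ zpowers z ≤ Z) h)
    have hcc' : Nat.card (zpowers c) = p := by rw [Nat.card_zpowers, hc]
    rw [hcc'] at h1
    rcases hcase with ⟨haT, hac, -⟩ | ⟨hbA, hbD, -⟩
    · have hW3 : EA p (zpowers c ⊔ zpowers a ⊔ zpowers z ⊔ zpowers f) := by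
        refine EA.sup_zpowers ?_ (fun u hu => ?_) hfp
        · refine ((ea_zpowers hcp).sup_zpowers (fun u hu => ?_) hap).sup_zpowers (fun u hu => ?_) hzp
          · exact (mem_center_iff.1 (hTc haT) u)
          · exact (mem_center_iff.1 (hTc ((sup_le (zpowers_le.2 hcT') (zpowers_le.2 haT) :
              zpowers c ⊔ zpowers a ≤ T) hu)) z).symm
        · exact hDab u ((sup_le (sup_le (zpowers_le.2 (hTD hcT')) (zpowers_le.2 (hTD haT)))
            (zpowers_le.2 (hZD hzZ)) : zpowers c ⊔ zpowers a ⊔ zpowers z ≤ D) hu) f hfD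
      have e1 := card_lt_sup_zpowers hG (zpowers c) (v := a) hac
      have e2 := card_lt_sup_zpowers hG (zpowers c ⊔ zpowers a) (v := z) fun h => hzT
        ((sup_le (zpowers_le.2 hcT') (zpowers_le.2 haT) : zpowers c ⊔ zpowers a ≤ T) h)
      have e3 := card_lt_sup_zpowers hG (zpowers c ⊔ zpowers a ⊔ zpowers z) (v := f) fun h => hfZ
        ((sup_le (sup_le (zpowers_le.2 (hTZ hcT')) (zpowers_le.2 (hTZ haT))) (zpowers_le.2 hzZ) :
          zpowers c ⊔ zpowers a ⊔ zpowers z ≤ Z) h)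
      rw [hcc'] at e1
      have e4 := ((Nat.mul_le_mul_left p ((Nat.mul_le_mul_left p e1).trans e2)).trans e3).trans
        (hW3.card_le P.sec)
      nlinarith [pow_pos hp.out.pos 3]
    · have hW3 := hW2.sup_zpowers (v := b) (fun u hu => by
        have hle : zpowers c ⊔ zpowers z ⊔ zpowers f ≤ centralizer ({b} : Set G) := sup_le (sup_le
          (zpowers_le.2 (mem_centralizer_singleton_iff.2 (hcc b).symm))
          (zpowers_le.2 (mem_centralizer_singleton_iff.2 hbz.symm)))
          (zpowers_le.2 (mem_centralizer_singleton_iff.2 hbf.symm))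
        exact mem_centralizer_singleton_iff.1 (hle hu)) hbp
      have h3 := card_lt_sup_zpowers hG (zpowers c ⊔ zpowers z ⊔ zpowers f) (v := b) fun h => hbD
        ((sup_le (sup_le (zpowers_le.2 (hTD hcT')) (zpowers_le.2 (hZD hzZ))) (zpowers_le.2 hfD) :
          zpowers c ⊔ zpowers z ⊔ zpowers f ≤ D) h)
      have e4 := ((Nat.mul_le_mul_left p ((Nat.mul_le_mul_left p h1).trans h2)).trans h3).trans
        (hW3.card_le P.sec)
      nlinarith [pow_pos hp.out.pos 3]
  have hline : ∀ a ∈ T, a ^ p = 1 → a ∈ zpowers c := fun a ha hap => by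
    by_contra hac
    exact four a 1 hap (one_pow p) (by rw [mul_one, one_mul]) (mem_center_iff.1 (hTc ha) z).symm
      (mem_center_iff.1 (hTc ha) f).symm (by rw [mul_one, one_mul]) (by rw [mul_one, one_mul])
      (Or.inl ⟨ha, hac, rfl⟩)
  -- `E₁` is abelian
  have hAab : ∀ u ∈ E₁, ∀ v ∈ E₁, u * v = v * u := by
    have hab1 : E₁ ≤ centralizer (E₁ : Set G) := by
      have hDA : D ≤ E₁ := inf_le_left
      obtain ⟨y, hy, hyD⟩ : ∃ y ∈ E₁, y ∉ D := SetLike.exists_of_lt
        (lt_of_le_of_ne hDA fun h => hne hcD (hE E₁ H.left) (by norm_num) h)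
      have hDy : D ⊔ zpowers y = E₁ :=
        (eq_or_eq_of_card hG le_sup_left (sup_le hDA (zpowers_le.2 hy))
          (by rw [hcD, hE E₁ H.left]; ring)).resolve_left
          fun h => hyD (h.le (mem_sup_right (mem_zpowers y)))
      have hval : ∀ d ∈ D, d ^ p = 1 → ∃ i : ℕ, ⁅y, d⁆ = c ^ i := by
        intro d hd hdp
        have hdT : ⁅y, d⁆ ∈ T := hab y hy d (hDA hd)
        have h1 : ⁅y, d⁆ ^ p = 1 := by
          rw [← RankThree.comm_pow_right (show Commute d ⁅y, d⁆ from mem_center_iff.1 (hTc hdT) d), hdp,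
            commutatorElement_one_right]
        obtain ⟨i, hi⟩ := mem_powers_iff_mem_zpowers.2 (hline _ hdT h1)
        exact ⟨i, hi.symm⟩
      obtain ⟨i, hi⟩ := hval z (hZD hzZ) hzp
      obtain ⟨j, hj⟩ := hval f hfD hfp
      obtain ⟨u, hu, huT, huy⟩ : ∃ u ∈ D, u ∉ T ∧ ⁅y, u⁆ = 1 := by
        by_cases hpi : p ∣ i
        · exact ⟨z, hZD hzZ, hzT, by rw [hi, RankThree.pow_prime_mul_eq_one hcp hpi]⟩
        obtain ⟨m, hm⟩ := Plane.exists_mul_modEq hpi ((p - 1) * j)
        refine ⟨z ^ m * f, D.mul_mem (D.pow_mem (hZD hzZ) m) hfD, fun h => hfZ ?_, ?_⟩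
        · have := Z.mul_mem (Z.inv_mem (Z.pow_mem hzZ m)) (hTZ h)
          rwa [inv_mul_cancel_left] at this
        · have hzc : ⁅y, z⁆ ∈ center G := hi ▸ pow_mem (mem_center_iff.2 hcc) i
          rw [RankThree.comm_mul_right_central (hj ▸ pow_mem (mem_center_iff.2 hcc) j),
            RankThree.comm_pow_right (show Commute z ⁅y, z⁆ from mem_center_iff.1 hzc z), hi, hj,
            ← pow_mul, Plane.pow_eq_pow_of_modEq hcp hm, ← pow_add,
            show (p - 1) * j + j = p * j by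
              rw [← Nat.succ_mul, Nat.succ_eq_add_one, Nat.sub_add_cancel hp.out.one_le],
            pow_mul, hcp, one_pow]
      have hCmem : ∀ a ∈ E₁, a * u = u * a := by
        intro a ha
        have hle : E₁ ≤ centralizer ({u} : Set G) := hDy.ge.trans (sup_le
          (fun d hd => mem_centralizer_singleton_iff.2 (hDab d hd u hu))
          (zpowers_le.2 (mem_centralizer_singleton_iff.2 (commutatorElement_eq_one_iff_mul_comm.1 huy))))
        exact mem_centralizer_singleton_iff.1 (hle ha)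
      rcases H.sp_between_abelian hF H.left hab (U := E₁ ⊓ centralizer (E₁ : Set G))
        (le_inf hTA fun a ha b hb => (mem_center_iff.1 (hTc ha) b)) inf_le_left
        (fun a ha v hv => ⟨ap_mem a hv.1, fun e he => by
          have h := congrArg (ap a) (hv.2 _ (ap_mem a⁻¹ he))
          rwa [ap_map_mul a (ap_mem _ he) hv.1, ap_map_mul a hv.1 (ap_mem _ he), ap_ap_inv a he] at h⟩)
        with h | h
      · exact absurd (h.le ⟨hu.1, fun e he => hCmem e he⟩) huT
      · exact inf_eq_left.1 h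
    exact fun a ha b hb => ((hab1 ha) b hb).symm
  let Ω : Subgroup G :=
    { carrier := {a | a ∈ E₁ ∧ a ^ p = 1}
      one_mem' := ⟨one_mem _, one_pow p⟩
      mul_mem' := fun {a b} ha hb => ⟨E₁.mul_mem ha.1 hb.1, by
        rw [(show Commute a b from hAab a ha.1 b hb.1).mul_pow, ha.2, hb.2, one_mul]⟩
      inv_mem' := fun {a} ha => ⟨E₁.inv_mem ha.1, by rw [inv_pow, ha.2, inv_one]⟩ }
  have hΩA : Ω ≤ E₁ := fun a ha => ha.1
  obtain ⟨b, ⟨hbA, hbp⟩, hbD⟩ : ∃ b ∈ Ω, b ∉ D := by
    by_contra hno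
    push Not at hno
    rcases H.sp_between_abelian hF H.left hab (U := T ⊔ Ω) le_sup_left (sup_le hTA hΩA)
      (fun a ha v hv => by
        rw [← img_eq_of_forall a hTA (hIA.inv a ha), ← img_eq_of_forall a hΩA (fun u hu =>
          (⟨ap_mem a hu.1, by rw [← ap_map_pow a hu.1, hu.2, ap_map_one]⟩ : ap a u ∈ Ω)),
          ← img_sup a hTA hΩA]
        exact ap_mem_img a hv (sup_le hTA hΩA hv)) with h | h
    · exact hfZ (hTZ (h.le (mem_sup_right (show f ∈ Ω from ⟨hfD.1, hfp⟩))))
    · obtain ⟨y, hy, hyD⟩ : ∃ y ∈ E₁, y ∉ D := SetLike.exists_of_lt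
        (lt_of_le_of_ne inf_le_left fun h => hne hcD (hE E₁ H.left) (by norm_num) h)
      exact hyD ((sup_le hTD hno : T ⊔ Ω ≤ D) (h.ge hy))
  exact four 1 b (one_pow p) hbp (by rw [mul_one, one_mul]) (by rw [mul_one, one_mul])
    (by rw [mul_one, one_mul]) (hAab b hbA z (hZD hzZ).1) (hAab b hbA f hfD.1)
    (Or.inr ⟨hbA, hbD, rfl⟩)

end Pre

end Cfsg.Lib.FusionSys.SecThree
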