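import Cfsg.Agent.Lib.FusionSys.SecThree.HeisClass
import Cfsg.Agent.Lib.FusionSys.SecThree.SpCore

/-!
# Two invariant essential subgroups in class at least three
-/

set_option linter.style.haveILetI false
set_option linter.unusedSectionVars false
set_option autoImplicit false

namespace Cfsg.Lib.FusionSys.SecThree

open Subgroup RankThree
open scoped commutatorElement

variable {G : Type*} [Group G] [Finite G] {p : ℕ} [hp : Fact p.Prime]

namespace Pre

variable {P : Pre p G} {E₁ E₂ : Subgroup G} (H : P.IsPair E₁ E₂)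
include H

/-- In class at least three the common core is trivial. -/
theorem IsPair.invCore_eq_bot (hcl : ∃ a b c : G, ⁅⁅a, b⁆, c⁆ ≠ 1) : P.invCore = ⊥ := by
  haveI := P.invCore_normal
  rcases H.quot_shape with hF | hH
  · set π := QuotientGroup.mk' P.invCore with hπ
    have hπ1 : ∀ u v : G, π u * π v = π v * π u ↔ ⁅u, v⁆ ∈ P.invCore := fun u v => by
      rw [← commutatorElement_eq_one_iff_mul_comm, ← map_commutatorElement]
      exact QuotientGroup.eq_one_iff _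
    have pull : ∀ A X : Subgroup G, (∀ u ∈ A.map π, ∀ v ∈ A.map π, u * v = v * u) →
        (∃ u ∈ X.map π, ∃ v ∈ X.map π, u * v ≠ v * u) →
        (∀ u ∈ A, ∀ v ∈ A, ⁅u, v⁆ ∈ P.invCore) ∧ ∃ u ∈ X, ∃ v ∈ X, ⁅u, v⁆ ∉ P.invCore := by
      rintro A X hA ⟨_, ⟨u, hu, rfl⟩, _, ⟨v, hv, rfl⟩, huv⟩
      exact ⟨fun a ha b hb => (hπ1 a b).1 (hA _ (mem_map_of_mem π ha) _ (mem_map_of_mem π hb)),
        u, hu, v, hv, fun h => huv ((hπ1 u v).2 h)⟩
    rcases Sys.abelian_or hF H.quot_isPair with ⟨h1, h2⟩ | ⟨h1, h2⟩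
    · exact H.sp_core_bot hF (pull _ _ h1 h2).1 (pull _ _ h1 h2).2
    · exact H.symm.sp_core_bot hF (pull _ _ h1 h2).1 (pull _ _ h1 h2).2
  · obtain ⟨a, b, c, h⟩ := hcl
    exact absurd (H.heis_class_two hH a b c) h

end Pre

/-- Two invariant essential subgroups in class at least three: the group has the relations of a
Sylow subgroup of `Sp(4, p)`, one of the two is abelian and the other is not. -/
theorem pair_shape {P : Pre p G} {E₁ E₂ : Subgroup G} (H : P.IsPair E₁ E₂)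
    (hcl : ∃ a b c : G, ⁅⁅a, b⁆, c⁆ ≠ 1) (hsec : ¬ Cfsg.SectionalPRankLE p 2 G) :
    SpRels p G ∧ Nat.card E₁ = p ^ 3 ∧ Nat.card E₂ = p ^ 3 ∧
      (((∀ u ∈ E₁, ∀ v ∈ E₁, u * v = v * u) ∧ ∃ u ∈ E₂, ∃ v ∈ E₂, u * v ≠ v * u) ∨
        ((∀ u ∈ E₂, ∀ v ∈ E₂, u * v = v * u) ∧ ∃ u ∈ E₁, ∃ v ∈ E₁, u * v ≠ v * u)) := by
  let S : Sys p G :=
    { P with core := fun Q hQ hQS => le_bot_iff.1 (H.invCore_eq_bot hcl ▸ P.le_invCore ⟨hQ, hQS⟩) }
  have h := spRels_of_sys S hsec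
  have hF := h.facts P.odd
  have H' : S.IsPair E₁ E₂ := ⟨H.ne, H.left, H.right, H.eq, H.autS_ess⟩
  exact ⟨h, Sys.card_ess hF H'.left, Sys.card_ess hF H'.right, Sys.abelian_or hF H'⟩

end Cfsg.Lib.FusionSys.SecThree
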