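import Cfsg.Agent.Lib.FusionSys.SecThree.Shapes

/-!
# The abelian essential subgroup with the shape of `Sp(4, p)`
-/

set_option linter.style.haveILetI false
set_option autoImplicit false

namespace Cfsg.Lib.FusionSys.SecThree

open Subgroup RankThree
open scoped commutatorElement

variable {G : Type*} [Group G] [Finite G] {p : ℕ} [hp : Fact p.Prime]

namespace Sys

variable {S : Sys p G} {E₁ E₂ : Subgroup G} (hF : SpFacts p G) (H : S.IsPair E₁ E₂)
include hF H

/-- One of the two is abelian and the other is not. -/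
theorem abelian_or : ((∀ u ∈ E₁, ∀ v ∈ E₁, u * v = v * u) ∧ ∃ u ∈ E₂, ∃ v ∈ E₂, u * v ≠ v * u) ∨
    ((∀ u ∈ E₂, ∀ v ∈ E₂, u * v = v * u) ∧ ∃ u ∈ E₁, ∃ v ∈ E₁, u * v ≠ v * u) := by
  obtain ⟨X, hX, hna⟩ := exists_nonabelian hF H
  rcases H.eq X hX with rfl | rfl
  · exact Or.inr ⟨abelian_of_nonabelian hF H hna, hna⟩
  · exact Or.inl ⟨abelian_of_nonabelian hF H.symm hna, hna⟩

/-- The centre is not invariant in an abelian essential subgroup. -/
theorem center_not_invariant {A : Subgroup G} (hA : A ∈ S.ess)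
    (hab : ∀ u ∈ A, ∀ v ∈ A, u * v = v * u) :
    ∃ a ∈ S.aut A, ∃ z ∈ center G, ap a z ∉ center G := by
  obtain ⟨E, hE, a, ha, z, hz, hza⟩ := S.exists_typeA
  have hzc : ap a z ∉ center G := fun h => hza ⟨h, by
    rw [← ap_map_pow a (S.center_le hE hz.1), hz.2, ap_map_one]⟩
  have hEab : ∀ u ∈ E, ∀ v ∈ E, u * v = v * u := by
    by_contra h
    push Not at h
    exact hzc (center_invariant hF hE h a ha z hz.1)
  have hEA : E = A := by
    by_contra hne
    rcases abelian_or hF H with ⟨-, u, hu, v, hv, huv⟩ | ⟨-, u, hu, v, hv, huv⟩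
    · rcases H.eq E hE with rfl | rfl
      · rcases H.eq A hA with rfl | rfl
        · exact hne rfl
        · exact huv (hab u hu v hv)
      · exact huv (hEab u hu v hv)
    · rcases H.eq E hE with rfl | rfl
      · exact huv (hEab u hu v hv)
      · rcases H.eq A hA with rfl | rfl
        · exact huv (hab u hu v hv)
        · exact hne rfl
  subst hEA
  exact ⟨a, ha, z, hz.1, hzc⟩

/-- The second centre is not invariant in an abelian essential subgroup. -/
theorem second_not_invariant_of_abelian {A : Subgroup G} (hA : A ∈ S.ess)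
    (hab : ∀ u ∈ A, ∀ v ∈ A, u * v = v * u)
    (hinv : ∀ a ∈ S.aut A, ∀ y ∈ secondCenter G, ap a y ∈ secondCenter G) : False := by
  have hG := S.isP
  set Z := center G with hZ
  set D := secondCenter G with hD
  haveI := S.normal A hA
  haveI hDn : D.Normal := secondCenter_normal
  have hDA : D ≤ A := second_le_ess hF hA
  have hZD : Z ≤ D := fun z hz => mem_secondCenter.2 fun g => by
    rw [commutatorElement_eq_one_iff_mul_comm.2 (mem_center_iff.1 hz g)]
    exact one_mem _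
  have hcA := card_ess hF hA
  have hDp : ∀ d ∈ D, d ^ p = 1 := by
    intro d hd
    by_contra hdp
    -- otherwise the centre would be the only line
    obtain ⟨a, ha, z, hz, hza⟩ := center_not_invariant hF H hA hab
    refine hza ?_
    have hz1 : d ^ p ∈ Z := hF.pow_mem d
    obtain ⟨j, rfl⟩ := mem_zpowers_iff.1 ((eq_zpowers_of_card hF.card_center hz1 hdp).ge hz)
    rw [ap_map_zpow a (A.pow_mem (hDA hd) p), ap_map_pow a (hDA hd)]
    exact zpow_mem (hF.pow_mem _) j
  have hcomm : ∀ u v : G, ⁅u, v⁆ ∈ D := fun u v => by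
    rw [hD, second_eq_inf hF H]
    haveI := S.normal E₁ H.left
    haveI := S.normal E₂ H.right
    exact ⟨comm_mem_of_index (S.index_eq E₁ H.left) u v, comm_mem_of_index (S.index_eq E₂ H.right) u v⟩
  set K := S.aut A ⊓ moves A A D le_rfl with hK
  have hRK : inner A ⊤ ≤ K := by
    intro a ha
    have haA := S.conj_mem A hA ha
    obtain ⟨k, -, hk⟩ := ha
    refine ⟨haA, fun d hd _ => hinv a haA d hd, fun x hx => ?_⟩
    rw [hk x hx, ← commutatorElement_def]
    exact hcomm k x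
  obtain ⟨g, hg⟩ := S.toPre.exists_outer hA
  obtain ⟨α, hαA, hαI, hα⟩ := S.exists_conj hA g
  have hfix : ∀ v ∈ A, g * v = v * g → v ∈ Z := by
    intro v hv h
    refine mem_center_iff.2 fun k => ?_
    obtain ⟨e, he, i, rfl⟩ := S.exists_decomp hA hg k
    exact ((show Commute g v from h).pow_left i |>.mul_left (hab e he v hv)).eq
  obtain ⟨d, hd, hdZ⟩ : ∃ d ∈ D, d ∉ Z := SetLike.exists_of_lt (lt_of_le_of_ne hZD fun h => by
    have h1 := hF.card_second
    rw [← hD, ← h, hF.card_center] at h1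
    have := hp.out.two_le
    nlinarith)
  have hu1 : ∃ x ∈ D, ap α x * x⁻¹ ∉ (⊥ : Subgroup G) := ⟨d, hd, fun h => hdZ (hfix d (hDA hd) (by
    rw [hα d (hDA hd), mem_bot, ← commutatorElement_def] at h
    exact commutatorElement_eq_one_iff_mul_comm.1 h))⟩
  obtain ⟨γ, hγ, z₀, hz₀, hγz⟩ := center_not_invariant hF H hA hab
  have hz₀1 : z₀ ≠ 1 := fun h => hγz (by rw [h, ap_map_one]; exact one_mem _)
  have hz₀A : z₀ ∈ A := hDA (hZD hz₀)
  have hl : γ * α * γ⁻¹ ∈ K := by
    refine ⟨(S.aut A).mul_mem ((S.aut A).mul_mem hγ hαA) ((S.aut A).inv_mem hγ), ?_⟩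
    exact moves_conj γ (fun x hx _ => hinv γ hγ x hx) (fun x hx _ => hinv _ (inv_mem hγ) x hx)
      (fun x hx => ap_mem _ hx) (hRK hαI).2
  have hlz : ap (γ * α * γ⁻¹) z₀ ∉ (⊥ : Subgroup G) ⊔ zpowers z₀ := by
    rw [bot_sup_eq]
    intro h
    obtain ⟨k, hk⟩ := S.isPGroup_inner hA ⟨α, hαI⟩
    have hpk : (γ * α * γ⁻¹) ^ p ^ k = 1 := by
      rw [conj_pow, show α ^ p ^ k = 1 from congrArg Subtype.val hk, mul_one, mul_inv_cancel]
    have hlA : ∀ x ∈ zpowers z₀, ap (γ * α * γ⁻¹) x ∈ zpowers z₀ := fun x hx => by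
      obtain ⟨j, rfl⟩ := mem_zpowers_iff.1 hx
      rw [ap_map_zpow _ hz₀A]
      exact zpow_mem h j
    have h2 := (moves_of_step hG (L₀ := (⊥ : Subgroup G)) bot_le (zpowers_le.2 hz₀A)
      (by rw [card_bot, mul_one, Nat.card_zpowers]
          exact Nat.le_of_dvd hp.out.pos (orderOf_dvd_of_pow_eq_one (hDp z₀ (hZD hz₀))))
      (fun y hy => by rw [mem_bot.1 hy, ap_map_one]; exact one_mem _) hlA ⟨k, hpk⟩).2 z₀
      (mem_zpowers z₀)
    have h3 := mul_inv_eq_one.1 (mem_bot.1 h2)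
    have hw := ap_mem γ⁻¹ hz₀A
    have h4 : ap α (ap γ⁻¹ z₀) = ap γ⁻¹ z₀ := by
      refine ap_inj γ (ap_mem _ hw) hw ?_
      rw [ap_ap_inv γ hz₀A, ← ap_mul_apply _ _ hw, ← ap_mul_apply _ _ hz₀A]
      exact h3
    rw [hα _ hw, mul_inv_eq_iff_eq_mul] at h4
    have h5 : ap γ⁻¹ z₀ ∈ Z := hfix _ hw h4
    -- then the centre is invariant
    have h6 : img γ⁻¹ Z ≤ Z := fun y hy => by
      obtain ⟨w, hwZ, hwA, rfl⟩ := (mem_img γ⁻¹).1 hy
      obtain ⟨j, rfl⟩ := mem_zpowers_iff.1 ((eq_zpowers_of_card hF.card_center hz₀ hz₀1).ge hwZ)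
      rw [ap_map_zpow _ hz₀A]
      exact zpow_mem h5 j
    obtain ⟨w, hwZ, hwA, hwz⟩ := (mem_img γ⁻¹).1
      ((eq_of_card_le h6 (card_img γ⁻¹ (hZD.trans hDA)).ge).ge hz₀)
    rw [← hwz, ap_ap_inv γ hwA] at hγz
    exact hγz hwZ
  obtain ⟨t, htK, htn, -, htinv⟩ := exists_inverter hG S.odd K (inner A ⊤) (S.isPGroup_inner hA) hRK
    (fun P' hP' hp' hle => le_antisymm (S.sylow A hA P' (hP'.trans inf_le_left) hp' hle) hle)
    (W := D) (U := (⊥ : Subgroup G)) bot_le hDA (by rw [hF.card_second, card_bot, mul_one])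
    (fun x hx => mem_bot.2 (hDp x hx)) (fun a ha => hinv a ha.1)
    (fun a _ y hy => by rw [mem_bot.1 hy, ap_map_one]; exact one_mem _)
    hαI hu1 (hZD hz₀) (fun h => hz₀1 (mem_bot.1 h))
    (by rw [hα z₀ hz₀A, mem_center_iff.1 hz₀ g, mul_inv_cancel_right, mul_inv_cancel]; exact one_mem _)
    hl hlz
  obtain ⟨τ, hτ, hτt⟩ := S.extend_of_conj hA htK.1 hg hα (htn α hαI)
  have hτD : ∀ x ∈ D, τ x = x⁻¹ := fun x hx => by
    rw [← mul_eq_one_iff_eq_inv, hτt x (hDA hx)]
    exact mem_bot.1 (htinv x hx)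
  obtain ⟨y, hy, hyD⟩ : ∃ y ∈ A, y ∉ D := SetLike.exists_of_lt (lt_of_le_of_ne hDA fun h => by
    have h1 := hF.card_second
    rw [← hD, h, hcA] at h1
    exact absurd ((Nat.pow_right_injective hp.out.two_le) h1) (by norm_num))
  obtain ⟨e, he, k, hgk⟩ := S.exists_decomp hA hg (τ g)
  set c := ⁅g, d⁆ with hc
  have hcZ : c ∈ Z := mem_secondCenter.1 hd g
  have hc1 : c ≠ 1 := fun h => hdZ (hfix d (hDA hd) (commutatorElement_eq_one_iff_mul_comm.1 h))
  have hconjA : ∀ u ∈ A, ∀ v ∈ A, ⁅u, v⁆ = 1 := fun u hu v hv =>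
    commutatorElement_eq_one_iff_mul_comm.2 (hab u hu v hv)
  have hτc : ⁅g ^ k, d⁻¹⁆ = c⁻¹ := by
    rw [← hτD c (hZD hcZ), hc, map_commutatorElement, hgk, hτD d hd,
      commutatorElement_mul_left_eq_conj_mul, hconjA e he _ (A.inv_mem (hDA hd)), mul_one,
      mul_inv_cancel, one_mul]
  have hcp : c ^ p = 1 := hDp c (hZD hcZ)
  have hdinv : ⁅g, d⁻¹⁆ = c⁻¹ := by
    have h := RankThree.comm_mul_right_central (b := d⁻¹) hcZ
    rw [inv_mul_cancel, commutatorElement_one_right] at h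
    exact eq_inv_of_mul_eq_one_left h.symm
  rw [RankThree.comm_pow_left (by rw [hdinv]; exact mem_center_iff.1 (inv_mem hcZ) g), hdinv] at hτc
  have hmod : k ≡ 1 [MOD p] := by
    have ho : orderOf c⁻¹ = p := orderOf_eq_prime (by rw [inv_pow, hcp, inv_one]) (inv_ne_one.2 hc1)
    rw [← ho]
    exact pow_eq_pow_iff_modEq.1 (hτc.trans (pow_one _).symm)
  set π := QuotientGroup.mk' Z with hπ
  have hπ1 : ∀ y, π y = 1 ↔ y ∈ Z := fun y => QuotientGroup.eq_one_iff y
  have hDπ : ∀ d ∈ D, π d ∈ center (G ⧸ Z) := fun d hd => mem_center_iff.2 fun q =>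
    QuotientGroup.induction_on q fun w => by
      show π w * π d = π d * π w
      rw [← commutatorElement_eq_one_iff_mul_comm, ← map_commutatorElement, hπ1]
      exact mem_secondCenter.1 hd w
  have hy2 : π ⁅g, y⁆ = π ⁅g, y⁆⁻¹ := by
    have hd' : ap t y * y⁻¹ ∈ D := htK.2.2 y hy
    conv_rhs => rw [← hτD _ (hcomm g y), map_commutatorElement, hgk]
    rw [hτt y hy, show ap t y = (ap t y * y⁻¹) * y by rw [inv_mul_cancel_right],
      commutatorElement_mul_left_eq_conj_mul,
      hconjA e he _ (A.mul_mem (hDA hd') hy), mul_one, mul_inv_cancel, one_mul,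
      map_commutatorElement π (g ^ k), map_mul, ← (mem_center_iff.1 (hDπ _ hd') (π y)),
      RankThree.comm_mul_central_right (hDπ _ hd'), map_pow,
      RankThree.comm_pow_left (by
        rw [← map_commutatorElement]
        exact mem_center_iff.1 (hDπ _ (hcomm g y)) _), ← map_commutatorElement,
      Plane.pow_eq_pow_of_modEq (by rw [← map_pow, hπ1]; exact hF.pow_mem _) hmod, pow_one]
  have hgy : ⁅g, y⁆ ∈ Z := by
    refine mem_of_sq_mem hG S.odd ?_
    rw [← hπ1, map_pow, sq]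
    nth_rewrite 1 [hy2]
    rw [← map_mul, inv_mul_cancel, map_one]
  refine hyD (mem_secondCenter.2 fun w => ?_)
  obtain ⟨v, hv, i, rfl⟩ := S.exists_decomp hA hg w
  rw [commutatorElement_mul_left_eq_conj_mul, hconjA v hv y hy, mul_one, mul_inv_cancel, one_mul,
    RankThree.comm_pow_left (mem_center_iff.1 hgy g)]
  exact pow_mem hgy i

omit H in
/-- An invariant subgroup of `E` is trivial, the centre, the second centre, or `E`. -/
theorem invariant_cases {E U : Subgroup G} (hE : E ∈ S.ess) (hU : U ≤ E)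
    (hinv : ∀ a ∈ S.aut E, ∀ y ∈ U, ap a y ∈ U) :
    U = ⊥ ∨ U = center G ∨ U = secondCenter G ∨ U = E := by
  have hG := S.isP
  haveI := S.toPre.normal_of_invariant hE hU hinv
  have hcE := card_ess hF hE
  obtain ⟨u, hu⟩ := IsPGroup.iff_card.mp (hG.to_subgroup U)
  have hle := card_le_of_le hU
  rw [hu, hcE] at hle
  have hu3 := (Nat.pow_le_pow_iff_right hp.out.one_lt).1 hle
  by_cases hb : U = ⊥
  · exact Or.inl hb
  have hZU : center G ≤ U := by
    obtain ⟨z, hzU, hzc, hz⟩ := Cfsg.Lib.PGroup.exists_mem_center_orderOf_eq hG hb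
    rw [← eq_zpowers_of_card hF.card_center hzc fun h => by
      rw [h, orderOf_one] at hz; exact hp.out.ne_one hz.symm]
    exact zpowers_le.2 hzU
  rcases (show u = 0 ∨ u = 1 ∨ u = 2 ∨ u = 3 by omega) with rfl | rfl | rfl | rfl
  · exact Or.inl (Subgroup.card_eq_one.1 (by rw [hu, pow_zero]))
  · exact Or.inr (Or.inl (eq_of_card_le hZU (by rw [hu, hF.card_center, pow_one])).symm)
  · refine Or.inr (Or.inr (Or.inl (eq_of_card_le (fun w hw => mem_secondCenter.2 fun g => ?_)
      (by rw [hu, hF.card_second]))))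
    haveI : (center G).Normal := inferInstance
    exact comm_mem_of_card_step hG (inferInstance : (center G).Normal) inferInstance hZU
      (by rw [hu, hF.card_center, sq]) g hw
  · exact Or.inr (Or.inr (Or.inr (eq_of_card_le hU (by rw [hu, hcE]))))

/-- An abelian essential subgroup has no proper invariant subgroup. -/
theorem abelian_invariant {A U : Subgroup G} (hA : A ∈ S.ess)
    (hab : ∀ u ∈ A, ∀ v ∈ A, u * v = v * u) (hU : U ≤ A)
    (hinv : ∀ a ∈ S.aut A, ∀ y ∈ U, ap a y ∈ U) : U = ⊥ ∨ U = A := by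
  rcases invariant_cases hF hA hU hinv with h | rfl | rfl | h
  · exact Or.inl h
  · obtain ⟨a, ha, z, hz, hza⟩ := center_not_invariant hF H hA hab
    exact absurd (hinv a ha z hz) hza
  · exact (second_not_invariant_of_abelian hF H hA hab hinv).elim
  · exact Or.inr h

omit H in
/-- A nonabelian essential subgroup has only the centre as a proper invariant subgroup. -/
theorem nonabelian_invariant {X U : Subgroup G} (hX : X ∈ S.ess)
    (hna : ∃ u ∈ X, ∃ v ∈ X, u * v ≠ v * u) (hU : U ≤ X)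
    (hinv : ∀ a ∈ S.aut X, ∀ y ∈ U, ap a y ∈ U) : U = ⊥ ∨ U = center G ∨ U = X := by
  rcases invariant_cases hF hX hU hinv with h | h | rfl | h
  · exact Or.inl h
  · exact Or.inr (Or.inl h)
  · exact (second_not_invariant_of_nonabelian hF hX hna hinv).elim
  · exact Or.inr (Or.inr h)

end Sys

end Cfsg.Lib.FusionSys.SecThree
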