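import Cfsg.Agent.Lib.FusionSys.SecThree.Quot
import Cfsg.Agent.Lib.FusionSys.SecThree.Shapes2

/-!
# The shape of the quotient by the common core
-/

set_option linter.style.haveILetI false
set_option linter.unusedSectionVars false
set_option autoImplicit false

namespace Cfsg.Lib.FusionSys.SecThree

open Subgroup RankThree
open scoped commutatorElement

variable {G : Type*} [Group G] [Finite G] {p : ℕ} [hp : Fact p.Prime]

namespace Pre

variable {P : Pre p G} {E₁ E₂ : Subgroup G} [P.invCore.Normal] (H : P.IsPair E₁ E₂)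
include H

/-- The data on the quotient by the common core. -/
noncomputable def IsPair.quotSys : Sys p (G ⧸ P.invCore) :=
  { P.isInvariant_invCore.quot (fun _ hE => H.not_degenerate hE) ⟨E₁, H.left⟩ with
    core := by
      intro Q hQ hQS
      set π := QuotientGroup.mk' P.invCore with hπ
      have hinv : P.IsInvariant (Q.comap π) := by
        refine ⟨fun E hE => ?_, fun φ hφ x hx => ?_⟩
        · obtain ⟨hQE, hQa⟩ := hQ (E.map π) ⟨E, hE, rfl⟩
          have hle : Q.comap π ≤ E :=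
            (comap_mono hQE).trans (P.isInvariant_invCore.comap_map hE).le
          refine ⟨hle, fun a ha x hx => ?_⟩
          obtain ⟨b, hb, hba⟩ := P.isInvariant_invCore.exists_ind hE ha
          show π (ap a x) ∈ Q
          rw [show π (ap a x) = ap b (π x) from (hba x (hle hx)).symm]
          exact hQa b hb _ hx
        · show π (φ x) ∈ Q
          have h := hQS (quotS P.invCore φ (P.isInvariant_invCore.2 φ hφ))
            ⟨φ, hφ, P.isInvariant_invCore.2 φ hφ, fun _ => rfl⟩ (π x) hx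
          exact h
      refine (eq_bot_iff_forall _).2 fun q hq => ?_
      obtain ⟨x, rfl⟩ := QuotientGroup.mk'_surjective P.invCore q
      exact (QuotientGroup.eq_one_iff x).2 (P.le_invCore hinv hq) }

theorem IsPair.quot_ess {E : Subgroup G} (hE : E ∈ P.ess) :
    E.map (QuotientGroup.mk' P.invCore) ∈ H.quotSys.ess := ⟨E, hE, rfl⟩

theorem IsPair.quot_isPair :
    H.quotSys.IsPair (E₁.map (QuotientGroup.mk' P.invCore)) (E₂.map (QuotientGroup.mk' P.invCore)) := by
  refine ⟨fun h => H.ne ?_, H.quot_ess H.left, H.quot_ess H.right, ?_, ?_⟩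
  · rw [← P.isInvariant_invCore.comap_map H.left, h, P.isInvariant_invCore.comap_map H.right]
  · rintro _ ⟨E, hE, rfl⟩
    rcases H.eq E hE with rfl | rfl
    exacts [Or.inl rfl, Or.inr rfl]
  · rintro ψ ⟨φ, hφ, -, he⟩ _ ⟨E, hE, rfl⟩ _ ⟨x, hx, rfl⟩
    exact ⟨φ x, H.autS_ess φ hφ E hE x hx, (he x).symm⟩

/-- The quotient has one of the two shapes. -/
theorem IsPair.quot_shape : SpFacts p (G ⧸ P.invCore) ∨ HeisRels p (G ⧸ P.invCore) := by
  rcases shape_of_sys H.quotSys with h | h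
  exacts [Or.inl (h.facts P.odd), Or.inr h]

theorem IsPair.quot_invariant {E U : Subgroup G} (hE : E ∈ P.ess) (hUE : U ≤ E)
    (hinv : ∀ a ∈ P.aut E, ∀ y ∈ U, ap a y ∈ U) :
    U.map (QuotientGroup.mk' P.invCore) ≤ E.map (QuotientGroup.mk' P.invCore) ∧
      ∀ b ∈ H.quotSys.aut (E.map (QuotientGroup.mk' P.invCore)),
        ∀ y ∈ U.map (QuotientGroup.mk' P.invCore), ap b y ∈ U.map (QuotientGroup.mk' P.invCore) := by
  refine ⟨map_mono hUE, fun b hb => ?_⟩
  obtain ⟨a, ha, -, hab⟩ := (qAut_map (P.isInvariant_invCore.comap_map hE)).1 hb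
  rintro _ ⟨x, hx, rfl⟩
  exact ⟨ap a x, hinv a ha x hx, (hab x (hUE hx)).symm⟩

omit H in
theorem eq_of_map_eq {U W : Subgroup G} (hU : P.invCore ≤ U) (hW : P.invCore ≤ W)
    (h : U.map (QuotientGroup.mk' P.invCore) = W.map (QuotientGroup.mk' P.invCore)) : U = W := by
  have key : ∀ V : Subgroup G, P.invCore ≤ V →
      (V.map (QuotientGroup.mk' P.invCore)).comap (QuotientGroup.mk' P.invCore) = V := fun V hV =>
    comap_map_eq_self (by rw [QuotientGroup.ker_mk']; exact hV)
  rw [← key U hU, h, key W hW]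

omit H in
theorem eq_core_of_map_eq_bot {U : Subgroup G} (hU : P.invCore ≤ U)
    (h : U.map (QuotientGroup.mk' P.invCore) = ⊥) : U = P.invCore :=
  eq_of_map_eq hU le_rfl (h.trans (by
    rw [eq_comm, Subgroup.map_eq_bot_iff, QuotientGroup.ker_mk']))

/-- In the shape of order `p ^ 3` nothing invariant lies strictly between the core and `E`. -/
theorem IsPair.heis_between (h : HeisRels p (G ⧸ P.invCore)) {E U : Subgroup G} (hE : E ∈ P.ess)
    (hTU : P.invCore ≤ U) (hUE : U ≤ E) (hinv : ∀ a ∈ P.aut E, ∀ y ∈ U, ap a y ∈ U) :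
    U = P.invCore ∨ U = E := by
  obtain ⟨h1, h2⟩ := H.quot_invariant hE hUE hinv
  rcases H.quotSys.heis_invariant h (H.quot_ess hE) h1 h2 with h3 | h3
  · exact Or.inl (eq_core_of_map_eq_bot hTU h3)
  · exact Or.inr (eq_of_map_eq hTU (hTU.trans hUE) h3)

/-- The abelian image: nothing invariant strictly between the core and `E`. -/
theorem IsPair.sp_between_abelian (hF : SpFacts p (G ⧸ P.invCore)) {E U : Subgroup G} (hE : E ∈ P.ess)
    (hab : ∀ u ∈ E, ∀ v ∈ E, ⁅u, v⁆ ∈ P.invCore) (hTU : P.invCore ≤ U) (hUE : U ≤ E)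
    (hinv : ∀ a ∈ P.aut E, ∀ y ∈ U, ap a y ∈ U) : U = P.invCore ∨ U = E := by
  obtain ⟨h1, h2⟩ := H.quot_invariant hE hUE hinv
  have hab' : ∀ u ∈ E.map (QuotientGroup.mk' P.invCore), ∀ v ∈ E.map (QuotientGroup.mk' P.invCore),
      u * v = v * u := by
    rintro _ ⟨u, hu, rfl⟩ _ ⟨v, hv, rfl⟩
    rw [← commutatorElement_eq_one_iff_mul_comm, ← map_commutatorElement]
    exact (QuotientGroup.eq_one_iff _).2 (hab u hu v hv)
  rcases Sys.abelian_invariant hF H.quot_isPair (H.quot_ess hE) hab' h1 h2 with h3 | h3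
  · exact Or.inl (eq_core_of_map_eq_bot hTU h3)
  · exact Or.inr (eq_of_map_eq hTU (hTU.trans hUE) h3)

/-- The nonabelian image: only the preimage of the centre lies invariant in between. -/
theorem IsPair.sp_between_nonabelian (hF : SpFacts p (G ⧸ P.invCore)) {E U : Subgroup G}
    (hE : E ∈ P.ess) (hna : ∃ u ∈ E, ∃ v ∈ E, ⁅u, v⁆ ∉ P.invCore) (hTU : P.invCore ≤ U) (hUE : U ≤ E)
    (hinv : ∀ a ∈ P.aut E, ∀ y ∈ U, ap a y ∈ U) :
    U = P.invCore ∨ U = (center (G ⧸ P.invCore)).comap (QuotientGroup.mk' P.invCore) ∨ U = E := by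
  obtain ⟨h1, h2⟩ := H.quot_invariant hE hUE hinv
  obtain ⟨u, hu, v, hv, huv⟩ := hna
  have hna' : ∃ x ∈ E.map (QuotientGroup.mk' P.invCore), ∃ y ∈ E.map (QuotientGroup.mk' P.invCore),
      x * y ≠ y * x := ⟨_, mem_map_of_mem _ hu, _, mem_map_of_mem _ hv, fun h => huv (by
    rw [← commutatorElement_eq_one_iff_mul_comm, ← map_commutatorElement] at h
    exact (QuotientGroup.eq_one_iff _).1 h)⟩
  rcases Sys.nonabelian_invariant hF (H.quot_ess hE) hna' h1 h2 with h3 | h3 | h3
  · exact Or.inl (eq_core_of_map_eq_bot hTU h3)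
  · refine Or.inr (Or.inl ?_)
    rw [← h3, comap_map_eq_self (by rw [QuotientGroup.ker_mk']; exact hTU)]
  · exact Or.inr (Or.inr (eq_of_map_eq hTU (hTU.trans hUE) h3))

end Pre

end Cfsg.Lib.FusionSys.SecThree
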