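import Cfsg.Agent.Lib.FusionSys.SecThree.Pair

/-!
# The data induced on the quotient by an invariant subgroup
-/

set_option linter.style.haveILetI false
set_option linter.unusedSectionVars false
set_option autoImplicit false

namespace Cfsg.Lib.FusionSys.SecThree

open Subgroup RankThree
open scoped commutatorElement

variable {G : Type*} [Group G] [Finite G] {p : ℕ} [hp : Fact p.Prime]

/-- Sectional rank passes to quotients. -/
theorem sectional_quotient {k : ℕ} (h : Cfsg.SectionalPRankLE p k G) (T : Subgroup G) [T.Normal] :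
    Cfsg.SectionalPRankLE p k (G ⧸ T) := by
  intro H N _
  set π := QuotientGroup.mk' T
  let f : H.comap π →* H := (π.domRestrict (H.comap π)).codRestrict H fun x => x.2
  have hf : Function.Surjective f := fun y => by
    obtain ⟨x, hx⟩ := QuotientGroup.mk'_surjective T (y : G ⧸ T)
    exact ⟨⟨x, by rw [mem_comap, hx]; exact y.2⟩, Subtype.ext hx⟩
  intro A hA hAp
  let g : (H.comap π) ⧸ N.comap f →* H ⧸ N := QuotientGroup.map _ _ f le_rfl
  have hgi : Function.Injective g := (injective_iff_map_eq_one g).2 fun q =>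
    QuotientGroup.induction_on q fun x hx => by
      rw [QuotientGroup.map_mk, QuotientGroup.eq_one_iff] at hx
      exact (QuotientGroup.eq_one_iff x).2 hx
  have hgs : Function.Surjective g := fun q => QuotientGroup.induction_on q fun y => by
    obtain ⟨x, rfl⟩ := hf y
    exact ⟨(x : _ ⧸ N.comap f), rfl⟩
  have hc : Nat.card ↥(A.comap g) = Nat.card A := by
    rw [Nat.card_congr (equivMapOfInjective (A.comap g) g hgi).toEquiv, map_comap_eq_self_of_surjective hgs]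
  rw [← hc]
  refine h (H.comap π) (N.comap f) (A.comap g) ⟨⟨fun a b => Subtype.ext (hgi ?_)⟩⟩ fun q hq => hgi ?_
  · have h1 := congrArg Subtype.val (hA.is_comm.comm ⟨g a, a.2⟩ ⟨g b, b.2⟩)
    simpa using h1
  · rw [map_pow, map_one]
    exact hAp _ hq

/-- An automorphism of `G` preserving `T`, on the quotient. -/
noncomputable def quotS (T : Subgroup G) [T.Normal] (φ : MulAut G) (h : ∀ x ∈ T, φ x ∈ T) :
    MulAut (G ⧸ T) :=
  QuotientGroup.congr T T φ (eq_of_card_le (by rintro _ ⟨x, hx, rfl⟩; exact h x hx)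
    (le_of_eq (Nat.card_congr (equivMapOfInjective T φ.toMonoidHom φ.injective).toEquiv)))

theorem quotS_mk (T : Subgroup G) [T.Normal] (φ : MulAut G) (h : ∀ x ∈ T, φ x ∈ T) (x : G) :
    quotS T φ h (x : G ⧸ T) = ((φ x : G) : G ⧸ T) := rfl

namespace Pre

variable (P : Pre p G) (T : Subgroup G) [T.Normal]

/-- The induced automorphism groups. -/
def qAut (E' : Subgroup (G ⧸ T)) : Subgroup (MulAut E') where
  carrier := {b | ∃ a ∈ P.aut (E'.comap (QuotientGroup.mk' T)), (∀ t ∈ T, ap a t ∈ T) ∧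
    ∀ x ∈ E'.comap (QuotientGroup.mk' T), ap b (x : G ⧸ T) = ((ap a x : G) : G ⧸ T)}
  one_mem' := ⟨1, one_mem _, fun t ht => by rwa [ap_one_apply], fun x _ => by
    rw [ap_one_apply, ap_one_apply]⟩
  mul_mem' := by
    rintro b₁ b₂ ⟨a₁, h₁, hT₁, e₁⟩ ⟨a₂, h₂, hT₂, e₂⟩
    refine ⟨a₁ * a₂, mul_mem h₁ h₂, fun t ht => ?_, fun x hx => ?_⟩
    · have htE : t ∈ E'.comap (QuotientGroup.mk' T) := by
        rw [mem_comap, show QuotientGroup.mk' T t = 1 from (QuotientGroup.eq_one_iff t).2 ht]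
        exact one_mem _
      rw [ap_mul_apply _ _ htE]
      exact hT₁ _ (hT₂ t ht)
    · rw [ap_mul_apply _ _ hx, ap_mul_apply _ _ (show (x : G ⧸ T) ∈ E' from hx), e₂ x hx,
        e₁ _ (ap_mem a₂ hx)]
  inv_mem' := by
    rintro b ⟨a, h, hT, e⟩
    refine ⟨a⁻¹, inv_mem h, fun t ht => ?_, fun x hx => ?_⟩
    · have hle : T ≤ E'.comap (QuotientGroup.mk' T) := fun s hs => by
        rw [mem_comap, show QuotientGroup.mk' T s = 1 from (QuotientGroup.eq_one_iff s).2 hs]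
        exact one_mem _
      obtain ⟨s, hs, -, hst⟩ := (mem_img a).1 ((img_eq_of_forall a hle hT).ge ht)
      rw [← hst, ap_inv_ap a (hle hs)]
      exact hs
    · have h1 : ap b ((ap a⁻¹ x : G) : G ⧸ T) = (x : G ⧸ T) := by
        rw [e _ (ap_mem _ hx), ap_ap_inv a hx]
      rw [← h1, ap_inv_ap b (show ((ap a⁻¹ x : G) : G ⧸ T) ∈ E' from ap_mem a⁻¹ hx)]

/-- The induced automorphisms of the whole quotient. -/
def qAutS : Subgroup (MulAut (G ⧸ T)) where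
  carrier := {ψ | ∃ φ ∈ P.autS, (∀ t ∈ T, φ t ∈ T) ∧ ∀ x : G, ψ (x : G ⧸ T) = ((φ x : G) : G ⧸ T)}
  one_mem' := ⟨1, one_mem _, fun t ht => ht, fun x => rfl⟩
  mul_mem' := by
    rintro ψ₁ ψ₂ ⟨φ₁, h₁, hT₁, e₁⟩ ⟨φ₂, h₂, hT₂, e₂⟩
    exact ⟨φ₁ * φ₂, mul_mem h₁ h₂, fun t ht => hT₁ _ (hT₂ t ht),
      fun x => by rw [MulAut.mul_apply, MulAut.mul_apply, e₂, e₁]⟩
  inv_mem' := by
    rintro ψ ⟨φ, h, hT, e⟩
    refine ⟨φ⁻¹, inv_mem h, fun t ht => ?_, fun x => ψ.injective ?_⟩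
    · have h1 : T.map φ.toMonoidHom = T := eq_of_card_le (by rintro _ ⟨x, hx, rfl⟩; exact hT x hx)
        (le_of_eq (Nat.card_congr (equivMapOfInjective T φ.toMonoidHom φ.injective).toEquiv))
      obtain ⟨s, hs, rfl⟩ := h1.ge ht
      show φ.symm (φ s) ∈ T
      rw [φ.symm_apply_apply]
      exact hs
    · rw [e]
      show ψ (ψ.symm _) = ((φ (φ.symm x) : G) : G ⧸ T)
      rw [ψ.apply_symm_apply, φ.apply_symm_apply]

variable {P T} (hT : P.IsInvariant T)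
include hT

omit [Finite G] in
theorem IsInvariant.le_of_mem {E : Subgroup G} (hE : E ∈ P.ess) : T ≤ E := (hT.1 E hE).1

theorem IsInvariant.inv {E : Subgroup G} (hE : E ∈ P.ess) : P.Inv E T :=
  ⟨hE, inferInstance, (hT.1 E hE).1, (hT.1 E hE).2⟩

theorem IsInvariant.comap_map {E : Subgroup G} (hE : E ∈ P.ess) :
    (E.map (QuotientGroup.mk' T)).comap (QuotientGroup.mk' T) = E :=
  comap_map_eq_self (by rw [QuotientGroup.ker_mk']; exact hT.le_of_mem hE)

omit hT in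
theorem qAut_map {E : Subgroup G} {b : MulAut ↥(E.map (QuotientGroup.mk' T))}
    (hEe : (E.map (QuotientGroup.mk' T)).comap (QuotientGroup.mk' T) = E) :
    b ∈ P.qAut T _ ↔ ∃ a ∈ P.aut E, (∀ t ∈ T, ap a t ∈ T) ∧
      ∀ x ∈ E, ap b (x : G ⧸ T) = ((ap a x : G) : G ⧸ T) := by
  have key : ∀ (F : Subgroup G), F = E → ((∃ a ∈ P.aut F, (∀ t ∈ T, ap a t ∈ T) ∧
      ∀ x ∈ F, ap b (x : G ⧸ T) = ((ap a x : G) : G ⧸ T)) ↔ ∃ a ∈ P.aut E, (∀ t ∈ T, ap a t ∈ T) ∧
      ∀ x ∈ E, ap b (x : G ⧸ T) = ((ap a x : G) : G ⧸ T)) := by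
    rintro F rfl
    exact Iff.rfl
  exact key _ hEe

theorem IsInvariant.exists_ind {E : Subgroup G} (hE : E ∈ P.ess) {a : MulAut E} (ha : a ∈ P.aut E) :
    ∃ b ∈ P.qAut T (E.map (QuotientGroup.mk' T)),
      ∀ x ∈ E, ap b (x : G ⧸ T) = ((ap a x : G) : G ⧸ T) := by
  have hTE := hT.le_of_mem hE
  haveI : (T.subgroupOf E).Normal := Normal.subgroupOf inferInstance E
  have hmap : ∀ c ∈ P.aut E, (T.subgroupOf E).map c.toMonoidHom ≤ T.subgroupOf E := by
    rintro c hc _ ⟨x, hx, rfl⟩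
    show ((c x : E) : G) ∈ T
    rw [← ap_coe]
    exact (hT.1 E hE).2 c hc x hx
  let a' : MulAut (E ⧸ T.subgroupOf E) := QuotientGroup.congr _ _ a (eq_of_card_le (hmap a ha)
    (le_of_eq (Nat.card_congr (equivMapOfInjective (T.subgroupOf E) a.toMonoidHom a.injective).toEquiv)))
  let f : E →* ↥(E.map (QuotientGroup.mk' T)) := (QuotientGroup.mk' T).subgroupMap E
  have hker : f.ker = T.subgroupOf E := by
    ext x
    rw [MonoidHom.mem_ker, mem_subgroupOf, ← QuotientGroup.eq_one_iff]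
    exact ⟨fun h => congrArg Subtype.val h, fun h => Subtype.ext h⟩
  let ε : E ⧸ T.subgroupOf E ≃* ↥(E.map (QuotientGroup.mk' T)) :=
    (QuotientGroup.quotientMulEquivOfEq hker.symm).trans
      (QuotientGroup.quotientKerEquivOfSurjective f ((QuotientGroup.mk' T).subgroupMap_surjective E))
  have he : ∀ x ∈ E, ap (MulAut.congr ε a') (x : G ⧸ T) = ((ap a x : G) : G ⧸ T) := by
    intro x hx
    have h1 : ∀ y : E, ε (y : E ⧸ T.subgroupOf E) = f y := fun y => rfl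
    have h2 : MulAut.congr ε a' (ε ((⟨x, hx⟩ : E) : E ⧸ T.subgroupOf E)) =
        ε ((a ⟨x, hx⟩ : E) : E ⧸ T.subgroupOf E) := by
      show ε (a' (ε.symm (ε _))) = _
      rw [ε.symm_apply_apply]
      rfl
    rw [h1, h1] at h2
    have h3 := congrArg Subtype.val h2
    rw [← ap_coe] at h3
    rw [ap_of_mem a hx]
    exact h3
  exact ⟨_, (qAut_map (hT.comap_map hE)).2 ⟨a, ha, (hT.1 E hE).2 a ha, he⟩, he⟩

/-- An outer element acts on `E / T` outside it. -/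
theorem IsInvariant.exists_of_inner {E : Subgroup G} (hE : E ∈ P.ess) {g : G} (hg : g ∉ E)
    {α : MulAut E} (hα : ∀ x ∈ E, ap α x = g * x * g⁻¹)
    (hnd : ¬ ∀ a ∈ P.aut E, ∀ k ∈ P.conjMod E T, a * k * a⁻¹ ∈ P.conjMod E T) :
    ∃ a ∈ P.aut E, a * α * a⁻¹ ∉ P.conjMod E T := by
  by_contra h
  push Not at h
  exact hnd ((hT.inv hE).conjMod_normal hg hα h)

variable (hnd : ∀ E ∈ P.ess, ¬ ∀ a ∈ P.aut E, ∀ k ∈ P.conjMod E T, a * k * a⁻¹ ∈ P.conjMod E T)
include hnd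

theorem IsInvariant.q_cent {E : Subgroup G} (hE : E ∈ P.ess) {g : G}
    (h : ∀ x ∈ E, ⁅g, x⁆ ∈ T) : g ∈ E := by
  by_contra hg
  obtain ⟨α, hαA, -, hα⟩ := P.exists_conj hE g
  obtain ⟨a, ha, hn⟩ := hT.exists_of_inner hE hg hα (hnd E hE)
  refine hn (mem_sup_right ((hT.inv hE).moves_normal ha ⟨hαA,
    fun t ht _ => (hT.1 E hE).2 α hαA t ht, fun x hx => ?_⟩))
  rw [hα x hx, ← commutatorElement_def]
  exact h x hx

theorem IsInvariant.q_sylow {E : Subgroup G} (hE : E ∈ P.ess)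
    (Q : Subgroup (MulAut ↥(E.map (QuotientGroup.mk' T)))) (hQA : Q ≤ P.qAut T _)
    (hQp : IsPGroup p Q) (hle : inner (E.map (QuotientGroup.mk' T)) ⊤ ≤ Q) :
    Q ≤ inner (E.map (QuotientGroup.mk' T)) ⊤ := by
  haveI := finite_mulAut E
  have hEe := hT.comap_map hE
  have hu : ∀ (b c : MulAut ↥(E.map (QuotientGroup.mk' T))), (∀ x ∈ E, ap b (x : G ⧸ T) = ap c (x : G ⧸ T)) → b = c := by
    intro b c h
    refine ap_ext _ _ ?_
    rintro _ ⟨x, hx, rfl⟩
    exact h x hx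
  let Qh : Subgroup (MulAut E) :=
    { carrier := {a | a ∈ P.aut E ∧ ∃ b ∈ Q, ∀ x ∈ E, ap b (x : G ⧸ T) = ((ap a x : G) : G ⧸ T)}
      one_mem' := ⟨one_mem _, 1, one_mem _, fun x _ => by rw [ap_one_apply, ap_one_apply]⟩
      mul_mem' := by
        rintro a₁ a₂ ⟨h₁, b₁, hb₁, e₁⟩ ⟨h₂, b₂, hb₂, e₂⟩
        refine ⟨mul_mem h₁ h₂, b₁ * b₂, mul_mem hb₁ hb₂, fun x hx => ?_⟩
        rw [ap_mul_apply _ _ hx, ap_mul_apply _ _ (show (x : G ⧸ T) ∈ E.map (QuotientGroup.mk' T) from mem_map_of_mem (QuotientGroup.mk' T) hx),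
          e₂ x hx, e₁ _ (ap_mem a₂ hx)]
      inv_mem' := by
        rintro a ⟨h, b, hb, e⟩
        refine ⟨inv_mem h, b⁻¹, inv_mem hb, fun x hx => ?_⟩
        have h1 : ap b ((ap a⁻¹ x : G) : G ⧸ T) = (x : G ⧸ T) := by
          rw [e _ (ap_mem _ hx), ap_ap_inv a hx]
        rw [← h1, ap_inv_ap b (show ((ap a⁻¹ x : G) : G ⧸ T) ∈ E.map (QuotientGroup.mk' T) from
          mem_map_of_mem (QuotientGroup.mk' T) (ap_mem a⁻¹ hx))] }
  have hind : ∀ a : Qh, ∃ b ∈ Q, ∀ x ∈ E, ap b (x : G ⧸ T) = ((ap (a : MulAut E) x : G) : G ⧸ T) :=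
    fun a => a.2.2
  choose θ hθQ hθ using hind
  let Θ : Qh →* Q :=
    { toFun := fun a => ⟨θ a, hθQ a⟩
      map_one' := Subtype.ext (hu _ _ fun x hx => by
        rw [hθ 1 x hx, OneMemClass.coe_one, ap_one_apply, OneMemClass.coe_one, ap_one_apply])
      map_mul' := fun a₁ a₂ => Subtype.ext (hu _ _ fun x hx => by
        rw [hθ _ x hx, Subgroup.coe_mul, ap_mul_apply _ _ hx, Subgroup.coe_mul,
          ap_mul_apply _ _ (show (x : G ⧸ T) ∈ E.map (QuotientGroup.mk' T) from mem_map_of_mem (QuotientGroup.mk' T) hx), hθ a₂ x hx,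
          hθ a₁ _ (ap_mem _ hx)]) }
  have hΘ : Function.Surjective Θ := by
    rintro ⟨b, hb⟩
    obtain ⟨a, ha, -, he⟩ := (qAut_map hEe).1 (hQA hb)
    exact ⟨⟨a, ha, b, hb, he⟩, Subtype.ext (hu _ _ fun x hx => (hθ _ x hx).trans (he x hx).symm)⟩
  have hinnQ : inner E ⊤ ≤ Qh := by
    intro a ha
    have haA := P.conj_mem E hE ha
    obtain ⟨g, -, hg⟩ := ha
    obtain ⟨b, -, hb⟩ := hT.exists_ind hE haA
    refine ⟨haA, b, hle ⟨(g : G ⧸ T), mem_top _, ?_⟩, hb⟩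
    rintro _ ⟨x, hx, rfl⟩
    show ap b (x : G ⧸ T) = _
    rw [hb x hx, hg x hx]
    rfl
  let S₁ : Sylow p Qh :=
    { toSubgroup := (inner E ⊤).subgroupOf Qh
      isPGroup' := (P.isPGroup_inner hE).comap_subtype
      is_maximal' := fun {R} hR hRle => by
        have h1 : R.map Qh.subtype = inner E ⊤ := by
          refine le_antisymm (P.sylow E hE _ (fun a ha => ?_) (hR.map _) ?_) ?_
          · obtain ⟨r, -, rfl⟩ := ha
            exact r.2.1
          all_goals exact fun a ha => ⟨⟨a, hinnQ ha⟩, hRle ha, rfl⟩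
        rw [← h1, subgroupOf, comap_map_eq_self_of_injective Qh.subtype_injective] }
  let S₂ := S₁.mapSurjective (f := Θ) hΘ
  have htop : (S₂ : Subgroup Q) = ⊤ := (S₂.is_maximal' (hQp.to_subgroup ⊤) le_top).symm
  intro b hb
  have h1 : (⟨b, hb⟩ : Q) ∈ (S₂ : Subgroup Q) := by rw [htop]; exact mem_top _
  obtain ⟨r, ⟨g, -, hg⟩, hr⟩ := h1
  refine ⟨(g : G ⧸ T), mem_top _, ?_⟩
  rintro _ ⟨x, hx, rfl⟩
  show ap b (x : G ⧸ T) = _
  rw [← show θ r = b from congrArg Subtype.val hr, hθ r x hx,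
    show ap (r : MulAut E) x = g * x * g⁻¹ from hg x hx]
  rfl

theorem IsInvariant.q_radical {E : Subgroup G} (hE : E ∈ P.ess)
    (N : Subgroup (MulAut ↥(E.map (QuotientGroup.mk' T)))) (hNA : N ≤ P.qAut T _)
    (hNn : ∀ a ∈ P.qAut T _, ∀ n ∈ N, a * n * a⁻¹ ∈ N) (hNp : IsPGroup p N) :
    N ≤ inner (E.map (QuotientGroup.mk' T)) (E.map (QuotientGroup.mk' T)) := by
  haveI := finite_mulAut (E.map (QuotientGroup.mk' T))
  have hEe := hT.comap_map hE
  have I := hT.inv hE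
  have hinA : inner (E.map (QuotientGroup.mk' T)) ⊤ ≤ P.qAut T _ := by
    rintro b ⟨q, -, hq⟩
    obtain ⟨g, rfl⟩ := QuotientGroup.mk'_surjective T q
    obtain ⟨a, ha, -, hga⟩ := P.exists_conj hE g
    refine (qAut_map hEe).2 ⟨a, ha, (hT.1 E hE).2 a ha, fun x hx => ?_⟩
    rw [hq (x : G ⧸ T) (mem_map_of_mem (QuotientGroup.mk' T) hx), hga x hx]
    rfl
  have hp' : IsPGroup p (inner (E.map (QuotientGroup.mk' T)) ⊤) := by
    obtain ⟨n, hn⟩ := exists_pow_card (P.isP.to_quotient T)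
    rintro ⟨b, q, -, hq⟩
    refine ⟨n, Subtype.ext (ap_ext _ _ fun x hx => ?_)⟩
    have key : ∀ m : ℕ, ap (b ^ m) x = q ^ m * x * (q ^ m)⁻¹ := by
      intro m
      induction m with
      | zero => rw [pow_zero, ap_one_apply, pow_zero]; group
      | succ m ih =>
        rw [pow_succ' b, ap_mul_apply _ _ hx, hq _ (ap_mem _ hx), ih, pow_succ' q]
        group
    rw [SubmonoidClass.coe_pow, OneMemClass.coe_one, key, hn, ap_one_apply]
    group
  have hn : inner (E.map (QuotientGroup.mk' T)) ⊤ ≤ normalizer (N : Set (MulAut ↥(E.map (QuotientGroup.mk' T)))) := fun a ha =>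
    mem_normalizer_fintype fun n hn => hNn a (hinA ha) n hn
  have hsup : N ≤ inner (E.map (QuotientGroup.mk' T)) ⊤ := le_sup_left.trans (hT.q_sylow hnd hE _ (sup_le hNA hinA)
    (IsPGroup.to_sup_of_normal_left' hNp hp' hn) le_sup_right)
  intro b hb
  obtain ⟨q, -, hq⟩ := hsup hb
  obtain ⟨g, rfl⟩ := QuotientGroup.mk'_surjective T q
  by_cases hg : g ∈ E
  · exact ⟨(QuotientGroup.mk' T) g, mem_map_of_mem (QuotientGroup.mk' T) hg, hq⟩
  exfalso
  obtain ⟨α, hαA, -, hα⟩ := P.exists_conj hE g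
  obtain ⟨a, ha, hn'⟩ := hT.exists_of_inner hE hg hα (hnd E hE)
  obtain ⟨a', ha', hae⟩ := hT.exists_ind hE ha
  obtain ⟨q', -, hq'⟩ := hsup (hNn a' ha' b hb)
  obtain ⟨h, rfl⟩ := QuotientGroup.mk'_surjective T q'
  refine hn' (I.mem_conjMod ((P.aut E).mul_mem ((P.aut E).mul_mem ha hαA) ((P.aut E).inv_mem ha))
    (h := h) fun e he => ?_)
  rw [← QuotientGroup.eq]
  show (QuotientGroup.mk' T) (h * e * h⁻¹) = _
  have he' := ap_mem a⁻¹ he
  haveI := P.normal E hE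
  have hgE : g * ap a⁻¹ e * g⁻¹ ∈ E := Normal.conj_mem inferInstance _ he' g
  have hm : ∀ x ∈ E, (QuotientGroup.mk' T) x ∈ E.map (QuotientGroup.mk' T) :=
    fun x hx => mem_map_of_mem _ hx
  have h1 : ap a'⁻¹ (QuotientGroup.mk' T e) = QuotientGroup.mk' T (ap a⁻¹ e) := by
    have h2 : ap a' (QuotientGroup.mk' T (ap a⁻¹ e)) = QuotientGroup.mk' T (ap a (ap a⁻¹ e)) :=
      hae _ he'
    rw [ap_ap_inv a he] at h2
    rw [← h2, ap_inv_ap a' (hm _ he')]
  have h3 : ap a' (QuotientGroup.mk' T (g * ap a⁻¹ e * g⁻¹)) =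
      QuotientGroup.mk' T (ap a (g * ap a⁻¹ e * g⁻¹)) := hae _ hgE
  rw [map_mul, map_mul, map_inv, ← hq' _ (hm e he), ap_mul_apply _ _ (hm e he),
    ap_mul_apply _ _ (ap_mem _ (hm e he)), h1, hq _ (hm _ he'), ap_mul_apply _ _ he,
    ap_mul_apply _ _ (ap_mem _ he), hα _ he', ← map_inv, ← map_mul, ← map_mul, h3]
  rfl

theorem IsInvariant.q_extend {E : Subgroup G} (hE : E ∈ P.ess)
    (b : MulAut ↥(E.map (QuotientGroup.mk' T))) (hb : b ∈ P.qAut T _)
    (hext : ∀ g : G ⧸ T, ∃ h : G ⧸ T, ∀ x ∈ E.map (QuotientGroup.mk' T),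
      ap b (g * x * g⁻¹) = h * ap b x * h⁻¹) :
    ∃ ψ ∈ P.qAutS T, ∀ x ∈ E.map (QuotientGroup.mk' T), ψ x = ap b x := by
  have hEe := hT.comap_map hE
  have I := hT.inv hE
  haveI := P.normal E hE
  obtain ⟨a, ha, -, hab⟩ := (qAut_map hEe).1 hb
  have hconj : ∀ k ∈ P.conjMod E T, a * k * a⁻¹ ∈ P.conjMod E T := by
    intro k hk
    have hle : P.conjMod E T ≤ (P.conjMod E T).comap (MulAut.conj a).toMonoidHom := by
      refine sup_le (fun i hi => ?_) fun n hn => mem_sup_right (I.moves_normal ha hn)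
      have hiA := P.conj_mem E hE hi
      obtain ⟨g, -, hg⟩ := hi
      obtain ⟨h, hh⟩ := hext (g : G ⧸ T)
      obtain ⟨h, rfl⟩ := QuotientGroup.mk'_surjective T h
      refine I.mem_conjMod ((P.aut E).mul_mem ((P.aut E).mul_mem ha hiA) ((P.aut E).inv_mem ha))
        (h := h) fun e he => ?_
      rw [← QuotientGroup.eq]
      show (QuotientGroup.mk' T) (h * e * h⁻¹) = (QuotientGroup.mk' T) (ap (a * i * a⁻¹) e)
      have he' := ap_mem a⁻¹ he
      have h1 := hh ((QuotientGroup.mk' T) (ap a⁻¹ e)) (mem_map_of_mem (QuotientGroup.mk' T) he')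
      have h2 : (g : G ⧸ T) * (QuotientGroup.mk' T) (ap a⁻¹ e) * (g : G ⧸ T)⁻¹ = (QuotientGroup.mk' T) (g * ap a⁻¹ e * g⁻¹) := by
        rw [map_mul, map_mul, map_inv]
        rfl
      have hgE : g * ap a⁻¹ e * g⁻¹ ∈ E := Normal.conj_mem inferInstance _ he' g
      rw [h2, show ap b ((QuotientGroup.mk' T) (g * ap a⁻¹ e * g⁻¹)) = (QuotientGroup.mk' T) (ap a (g * ap a⁻¹ e * g⁻¹)) from hab _ hgE,
        show ap b ((QuotientGroup.mk' T) (ap a⁻¹ e)) = (QuotientGroup.mk' T) (ap a (ap a⁻¹ e)) from hab _ he', ap_ap_inv a he] at h1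
      rw [ap_mul_apply _ _ he, ap_mul_apply _ _ he', hg _ he', map_mul, map_mul, map_inv]
      exact h1.symm
    exact hle hk
  obtain ⟨k, hk, φ, hφ, hφe⟩ := P.frattini_argument_at hE _ I.conjMod_le ha hconj I.inner_le
  obtain ⟨h, hh⟩ := I.exists_conjMod hk
  have hmem : (MulAut.conj h)⁻¹ * φ ∈ P.autS := mul_mem (inv_mem (P.autS_conj h)) hφ
  refine ⟨quotS T _ (hT.2 _ hmem), ⟨_, hmem, hT.2 _ hmem, fun x => rfl⟩, ?_⟩
  rintro _ ⟨x, hx, rfl⟩
  show (((MulAut.conj h)⁻¹ * φ) x : G ⧸ T) = ap b (x : G ⧸ T)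
  have he := ap_mem a hx
  have h1 : (QuotientGroup.mk' T) (h * ap a x * h⁻¹) = (QuotientGroup.mk' T) (ap k (ap a x)) := QuotientGroup.eq.2 (hh _ he)
  rw [hab x hx, MulAut.mul_apply, MulAut.inv_apply, MulAut.conj_symm_apply, hφe x hx,
    ap_mul_apply _ _ hx]
  show (QuotientGroup.mk' T) (h⁻¹ * ap k (ap a x) * h) = (QuotientGroup.mk' T) (ap a x)
  rw [map_mul, map_mul, ← h1, map_mul, map_mul, map_inv]
  group

omit hnd in
theorem IsInvariant.q_autS_inner (ψ : MulAut (G ⧸ T)) (hψ : ψ ∈ P.qAutS T)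
    (hk : ∃ k : ℕ, ψ ^ p ^ k = 1) : ∃ g : G ⧸ T, ψ = MulAut.conj g := by
  haveI : Finite (MulAut G) := Finite.of_injective (fun a : MulAut G => (a : G → G))
    DFunLike.coe_injective
  obtain ⟨φ, hφ, -, he⟩ := hψ
  obtain ⟨k, hk⟩ := hk
  obtain ⟨j, m, hm, hord⟩ := Nat.exists_eq_pow_mul_and_not_dvd (orderOf_pos φ).ne' p hp.out.ne_one
  obtain ⟨s, hs1, hs2⟩ := Nat.chineseRemainder
    ((hp.out.coprime_iff_not_dvd.2 hm).pow_left k) 1 0
  have key : ∀ n : ℕ, ∀ x : G, (ψ ^ n) (x : G ⧸ T) = (((φ ^ n) x : G) : G ⧸ T) := by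
    intro n
    induction n with
    | zero => intro x; rfl
    | succ n ih => intro x; rw [pow_succ, pow_succ, MulAut.mul_apply, MulAut.mul_apply, he, ih]
  have hψs : ψ ^ s = ψ := by
    have h1 : ψ ^ s = ψ ^ 1 :=
      pow_eq_pow_iff_modEq.2 (hs1.of_dvd (orderOf_dvd_of_pow_eq_one hk))
    rwa [pow_one] at h1
  obtain ⟨g, hg⟩ := P.autS_inner (φ ^ s) (pow_mem hφ s) ⟨j, by
    rw [← pow_mul]
    refine orderOf_dvd_iff_pow_eq_one.1 ?_
    rw [hord, mul_comm s]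
    exact Nat.mul_dvd_mul_left _ (Nat.modEq_zero_iff_dvd.1 hs2)⟩
  refine ⟨(g : G ⧸ T), MulEquiv.ext fun q => QuotientGroup.induction_on q fun x => ?_⟩
  rw [← hψs, key, hg]
  rfl

/-- The data on the quotient. -/
noncomputable def IsInvariant.quot (hne : P.ess.Nonempty) : Pre p (G ⧸ T) where
  ess := (fun E => E.map (QuotientGroup.mk' T)) '' P.ess
  aut := P.qAut T
  autS := P.qAutS T
  odd := P.odd
  isP := P.isP.to_quotient T
  sec := sectional_quotient P.sec T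
  nt := by
    obtain ⟨E, hE⟩ := hne
    by_contra h
    rw [not_nontrivial_iff_subsingleton] at h
    have h1 : E = ⊤ := eq_top_iff.2 fun x _ => (hT.comap_map hE).le
      ⟨1, one_mem E, Subsingleton.elim _ _⟩
    have h2 := P.index_eq E hE
    rw [h1, index_top] at h2
    exact hp.out.ne_one h2.symm
  normal := by
    rintro _ ⟨E, hE, rfl⟩
    exact (P.normal E hE).map _ (QuotientGroup.mk'_surjective T)
  index_eq := by
    rintro _ ⟨E, hE, rfl⟩
    show (E.map (QuotientGroup.mk' T)).index = p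
    rw [← P.index_eq E hE]
    conv_rhs => rw [← hT.comap_map hE]
    rw [index_comap_of_surjective _ (QuotientGroup.mk'_surjective T)]
  cent := by
    rintro _ ⟨E, hE, rfl⟩ q hq
    obtain ⟨g, rfl⟩ := QuotientGroup.mk'_surjective T q
    refine mem_map_of_mem _ (hT.q_cent hnd hE fun x hx => ?_)
    rw [← QuotientGroup.ker_mk' T, MonoidHom.mem_ker, map_commutatorElement]
    exact commutatorElement_eq_one_iff_mul_comm.2 (hq _ (mem_map_of_mem _ hx)).symm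
  conj_mem := by
    rintro _ ⟨E, hE, rfl⟩ b ⟨q, -, hq⟩
    obtain ⟨g, rfl⟩ := QuotientGroup.mk'_surjective T q
    obtain ⟨a, ha, -, hga⟩ := P.exists_conj hE g
    refine (qAut_map (hT.comap_map hE)).2 ⟨a, ha, (hT.1 E hE).2 a ha, fun x hx => ?_⟩
    rw [hq (x : G ⧸ T) (mem_map_of_mem _ hx), hga x hx]
    rfl
  sylow := by
    rintro _ ⟨E, hE, rfl⟩
    exact hT.q_sylow hnd hE
  radical := by
    rintro _ ⟨E, hE, rfl⟩
    exact hT.q_radical hnd hE
  extend := by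
    rintro _ ⟨E, hE, rfl⟩
    exact hT.q_extend hnd hE
  autS_conj q := by
    obtain ⟨g, rfl⟩ := QuotientGroup.mk'_surjective T q
    exact ⟨_, P.autS_conj g, hT.2 _ (P.autS_conj g), fun x => rfl⟩
  autS_inner := hT.q_autS_inner
  transport := by
    rintro ψ ⟨φ, hφ, hφT, he⟩ _ ⟨E, hE, rfl⟩
    obtain ⟨hE', htr⟩ := P.transport φ hφ E hE
    have hmap : (E.map (QuotientGroup.mk' T)).map ψ.toMonoidHom =
        (E.map φ.toMonoidHom).map (QuotientGroup.mk' T) := by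
      rw [map_map, map_map]
      congr 1
      exact MonoidHom.ext fun x => he x
    refine ⟨⟨_, hE', hmap.symm⟩, ?_⟩
    rw [hmap]
    intro b hb
    obtain ⟨a, ha, -, hab⟩ := (qAut_map (hT.comap_map hE)).1 hb
    obtain ⟨a', ha', haa⟩ := htr a ha
    obtain ⟨b', hb', hb'a⟩ := hT.exists_ind hE' ha'
    refine ⟨b', hb', ?_⟩
    rintro _ ⟨x, hx, rfl⟩
    show ap b' (ψ (x : G ⧸ T)) = ψ (ap b (x : G ⧸ T))
    rw [he, hb'a (φ x) (mem_map_of_mem φ.toMonoidHom hx), haa x hx, hab x hx, he]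

end Pre

end Cfsg.Lib.FusionSys.SecThree
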