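import Cfsg.Agent.Lib.FusionSys.SecThree.CaseOne
import Cfsg.Agent.Lib.Linear.SymplecticGroup
import Mathlib.LinearAlgebra.SymplecticGroup
import Mathlib.Data.Fintype.Basic

/-!
# The relations determine the Sylow subgroup of `Sp(4, p)`
-/

set_option linter.style.haveILetI false
set_option autoImplicit false

namespace Cfsg.Lib.FusionSys.SecThree

open Subgroup Matrix
open scoped commutatorElement

variable {p : ℕ} [hp : Fact p.Prime]

/-- The bare relations. -/
structure SpGens (p : ℕ) (G : Type*) [Group G] where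
  g : G
  x : G
  f : G
  z : G
  gp : g ^ p = 1
  xp : x ^ p = 1
  fp : f ^ p = 1
  zp : z ^ p = 1
  gz : g * z = z * g
  xz : x * z = z * x
  fz : f * z = z * f
  xf : x * f = f * x
  gx : g * x = x * f * g
  gf : g * f = f * z * g

namespace SpGens

variable {G : Type*} [Group G] (R : SpGens p G)

/-- The normal form. -/
def word (u : ZMod p × ZMod p × ZMod p × ZMod p) : G :=
  R.z ^ u.1.val * R.f ^ u.2.1.val * R.x ^ u.2.2.1.val * R.g ^ u.2.2.2.val

/-- The product of two normal forms. -/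
def mulLaw (u v : ZMod p × ZMod p × ZMod p × ZMod p) : ZMod p × ZMod p × ZMod p × ZMod p :=
  (u.1 + v.1 + u.2.2.2 * v.2.1 + ((u.2.2.2.val.choose 2 : ℕ) : ZMod p) * v.2.2.1,
    u.2.1 + v.2.1 + u.2.2.2 * v.2.2.1, u.2.2.1 + v.2.2.1, u.2.2.2 + v.2.2.2)

theorem pow_val {y : G} (hy : y ^ p = 1) (n : ℕ) : y ^ ((n : ZMod p)).val = y ^ n := by
  rw [ZMod.val_natCast]
  exact Plane.pow_eq_pow_of_modEq hy (Nat.mod_modEq n p)

theorem word_mul (u v : ZMod p × ZMod p × ZMod p × ZMod p) :
    R.word u * R.word v = R.word (mulLaw u v) := by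
  have hzg : Commute R.z R.g := R.gz.symm
  have hzx : Commute R.z R.x := R.xz.symm
  have hzf : Commute R.z R.f := R.fz.symm
  have hfx : Commute R.f R.x := R.xf.symm
  have hgf : ∀ d : ℕ, R.g ^ d * R.f = R.f * R.z ^ d * R.g ^ d := by
    intro d
    induction d with
    | zero => simp
    | succ d ih =>
      calc R.g ^ (d + 1) * R.f = R.g * (R.g ^ d * R.f) := by rw [pow_succ', mul_assoc]
        _ = (R.g * R.f) * R.z ^ d * R.g ^ d := by rw [ih]; simp only [mul_assoc]
        _ = R.f * R.z * (R.g * R.z ^ d) * R.g ^ d := by rw [R.gf]; simp only [mul_assoc]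
        _ = R.f * R.z * (R.z ^ d * R.g) * R.g ^ d := by rw [(hzg.pow_left d).eq]
        _ = _ := by rw [pow_succ' R.g d, pow_succ' R.z d]; simp only [mul_assoc]
  have hgfb : ∀ d b : ℕ, R.g ^ d * R.f ^ b = R.f ^ b * R.z ^ (d * b) * R.g ^ d := by
    intro d b
    induction b with
    | zero => simp
    | succ b ih =>
      calc R.g ^ d * R.f ^ (b + 1) = R.g ^ d * R.f ^ b * R.f := by rw [pow_succ, mul_assoc]
        _ = R.f ^ b * R.z ^ (d * b) * (R.g ^ d * R.f) := by rw [ih]; simp only [mul_assoc]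
        _ = R.f ^ b * (R.z ^ (d * b) * R.f) * R.z ^ d * R.g ^ d := by
          rw [hgf]; simp only [mul_assoc]
        _ = R.f ^ b * R.f * (R.z ^ (d * b) * R.z ^ d) * R.g ^ d := by
          rw [(hzf.pow_left (d * b)).eq]; simp only [mul_assoc]
        _ = _ := by rw [← pow_succ, ← pow_add, Nat.mul_succ]
  have hgx : ∀ d : ℕ, R.g ^ d * R.x = R.x * R.f ^ d * R.z ^ d.choose 2 * R.g ^ d := by
    intro d
    induction d with
    | zero => simp
    | succ d ih =>
      have h1 : R.g * R.f ^ d = R.f ^ d * R.z ^ d * R.g := by simpa using hgfb 1 d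
      calc R.g ^ (d + 1) * R.x = R.g * (R.g ^ d * R.x) := by rw [pow_succ', mul_assoc]
        _ = (R.g * R.x) * R.f ^ d * R.z ^ d.choose 2 * R.g ^ d := by rw [ih]; simp only [mul_assoc]
        _ = R.x * R.f * (R.g * R.f ^ d) * R.z ^ d.choose 2 * R.g ^ d := by
          rw [R.gx]; simp only [mul_assoc]
        _ = R.x * R.f * R.f ^ d * R.z ^ d * (R.g * R.z ^ d.choose 2) * R.g ^ d := by
          rw [h1]; simp only [mul_assoc]
        _ = R.x * (R.f * R.f ^ d) * (R.z ^ d * R.z ^ d.choose 2) * (R.g * R.g ^ d) := by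
          rw [(hzg.pow_left (d.choose 2)).symm.eq]; simp only [mul_assoc]
        _ = _ := by
          rw [← pow_succ', ← pow_succ', ← pow_add, Nat.choose_succ_succ', Nat.choose_one_right]
  have hgxc : ∀ d c : ℕ,
      R.g ^ d * R.x ^ c = R.x ^ c * R.f ^ (d * c) * R.z ^ (d.choose 2 * c) * R.g ^ d := by
    intro d c
    induction c with
    | zero => simp
    | succ c ih =>
      have h1 : Commute (R.f ^ (d * c) * R.z ^ (d.choose 2 * c)) R.x :=
        (hfx.pow_left _).mul_left (hzx.pow_left _)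
      calc R.g ^ d * R.x ^ (c + 1) = R.g ^ d * R.x ^ c * R.x := by rw [pow_succ, mul_assoc]
        _ = R.x ^ c * (R.f ^ (d * c) * R.z ^ (d.choose 2 * c)) * (R.g ^ d * R.x) := by
          rw [ih]; simp only [mul_assoc]
        _ = R.x ^ c * ((R.f ^ (d * c) * R.z ^ (d.choose 2 * c)) * R.x) *
            (R.f ^ d * R.z ^ d.choose 2) * R.g ^ d := by rw [hgx]; simp only [mul_assoc]
        _ = R.x ^ c * R.x * ((R.f ^ (d * c) * R.f ^ d) *
            (R.z ^ (d.choose 2 * c) * R.z ^ d.choose 2)) * R.g ^ d := by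
          rw [h1.eq, ((hzf.pow_left (d.choose 2 * c)).pow_right d).symm.mul_mul_mul_comm]
          simp only [mul_assoc]
        _ = _ := by
          rw [← pow_succ, ← pow_add, ← pow_add, Nat.mul_succ, Nat.mul_succ]
          simp only [mul_assoc]
  obtain ⟨a, b, c, d⟩ := u
  obtain ⟨a', b', c', d'⟩ := v
  simp only [word]
  have key : ∀ a b c d a' b' c' d' : ℕ,
      R.z ^ a * R.f ^ b * R.x ^ c * R.g ^ d * (R.z ^ a' * R.f ^ b' * R.x ^ c' * R.g ^ d') =
        R.z ^ (a + a' + d * b' + d.choose 2 * c') * R.f ^ (b + b' + d * c') * R.x ^ (c + c') *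
          R.g ^ (d + d') := by
    intro a b c d a' b' c' d'
    have e1 : R.g ^ d * (R.z ^ a' * R.f ^ b' * R.x ^ c') =
        R.z ^ a' * (R.f ^ b' * R.z ^ (d * b')) *
          (R.x ^ c' * R.f ^ (d * c') * R.z ^ (d.choose 2 * c')) * R.g ^ d := by
      rw [← mul_assoc, ← mul_assoc, ((hzg.symm.pow_pow d a')).eq, mul_assoc _ (R.g ^ d), hgfb,
        mul_assoc, mul_assoc, mul_assoc, mul_assoc, hgxc]
      simp only [mul_assoc]
    have e2 : R.z ^ a * R.f ^ b * R.x ^ c * (R.z ^ a' * (R.f ^ b' * R.z ^ (d * b')) *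
          (R.x ^ c' * R.f ^ (d * c') * R.z ^ (d.choose 2 * c'))) =
        R.z ^ (a + a' + d * b' + d.choose 2 * c') * R.f ^ (b + b' + d * c') * R.x ^ (c + c') := by
      set L := closure ({R.z, R.f, R.x} : Set G)
      have hL : IsMulCommutative L := Subgroup.isMulCommutative_closure (by
        rintro s (rfl | rfl | rfl) t (rfl | rfl | rfl)
        exacts [rfl, R.fz.symm, R.xz.symm, R.fz, rfl, R.xf.symm, R.xz, R.xf, rfl])
      letI : CommGroup L := { (inferInstance : Group L) with mul_comm := hL.is_comm.comm }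
      let Z' : L := ⟨R.z, subset_closure (by simp)⟩
      let F' : L := ⟨R.f, subset_closure (by simp)⟩
      let X' : L := ⟨R.x, subset_closure (by simp)⟩
      have h : Z' ^ a * F' ^ b * X' ^ c * (Z' ^ a' * (F' ^ b' * Z' ^ (d * b')) *
          (X' ^ c' * F' ^ (d * c') * Z' ^ (d.choose 2 * c'))) =
          Z' ^ (a + a' + d * b' + d.choose 2 * c') * F' ^ (b + b' + d * c') * X' ^ (c + c') := by
        simp only [pow_add]
        ac_rfl
      simpa [Z', F', X'] using congrArg Subtype.val h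
    calc _ = R.z ^ a * R.f ^ b * R.x ^ c * (R.g ^ d * (R.z ^ a' * R.f ^ b' * R.x ^ c')) * R.g ^ d' := by
          simp only [mul_assoc]
      _ = R.z ^ a * R.f ^ b * R.x ^ c * (R.z ^ a' * (R.f ^ b' * R.z ^ (d * b')) *
          (R.x ^ c' * R.f ^ (d * c') * R.z ^ (d.choose 2 * c'))) * (R.g ^ d * R.g ^ d') := by
          rw [e1]; simp only [mul_assoc]
      _ = _ := by rw [e2, ← pow_add]
  rw [key, ← pow_val R.zp, ← pow_val R.fp, ← pow_val R.xp, ← pow_val R.gp]
  simp [mulLaw, ZMod.natCast_zmod_val]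

theorem word_zero : R.word (0, 0, 0, 0) = 1 := by simp [word, ZMod.val_zero]

/-- The subgroup of normal forms. -/
def range [Finite G] : Subgroup G where
  carrier := Set.range R.word
  one_mem' := ⟨_, R.word_zero⟩
  mul_mem' := by
    rintro _ _ ⟨u, rfl⟩ ⟨v, rfl⟩
    exact ⟨_, (R.word_mul u v).symm⟩
  inv_mem' := by
    rintro _ ⟨u, rfl⟩
    have hpow : ∀ n : ℕ, R.word u ^ n ∈ Set.range R.word := by
      intro n
      induction n with
      | zero => exact ⟨_, by rw [pow_zero, R.word_zero]⟩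
      | succ n ih =>
        obtain ⟨v, hv⟩ := ih
        exact ⟨_, by rw [pow_succ, ← hv, R.word_mul]⟩
    have h : (R.word u)⁻¹ = R.word u ^ (orderOf (R.word u) - 1) := by
      refine inv_eq_of_mul_eq_one_right ?_
      rw [← pow_succ', Nat.sub_add_cancel (orderOf_pos _), pow_orderOf_eq_one]
    rw [h]
    exact hpow _

variable [Finite G]

theorem gens_mem : R.g ∈ R.range ∧ R.x ∈ R.range ∧ R.f ∈ R.range ∧ R.z ∈ R.range := by
  haveI : Fact (1 < p) := ⟨hp.out.one_lt⟩
  exact ⟨⟨(0, 0, 0, 1), by simp [word, ZMod.val_one]⟩, ⟨(0, 0, 1, 0), by simp [word, ZMod.val_one]⟩,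
    ⟨(0, 1, 0, 0), by simp [word, ZMod.val_one]⟩, ⟨(1, 0, 0, 0), by simp [word, ZMod.val_one]⟩⟩

theorem range_eq_top (h : closure ({R.g, R.x, R.f, R.z} : Set G) = ⊤) : R.range = ⊤ := by
  rw [eq_top_iff, ← h, closure_le]
  obtain ⟨h1, h2, h3, h4⟩ := R.gens_mem
  rintro s (rfl | rfl | rfl | rfl) <;> assumption

theorem card_index : Nat.card (ZMod p × ZMod p × ZMod p × ZMod p) = p ^ 4 := by
  simp [Nat.card_prod, Nat.card_zmod]; ring

theorem bijective (h : closure ({R.g, R.x, R.f, R.z} : Set G) = ⊤) (hc : Nat.card G = p ^ 4) :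
    Function.Bijective R.word := by
  have hsur : Function.Surjective R.word := fun y => (R.range_eq_top h).ge (mem_top y)
  refine hsur.bijective_of_nat_card_le ?_
  rw [card_index, hc]

end SpGens

/-- Two groups of order `p ^ 4` with the relations are isomorphic. -/
theorem nonempty_equiv {G H : Type*} [Group G] [Finite G] [Group H] [Finite H] (R : SpGens p G)
    (R' : SpGens p H) (h : closure ({R.g, R.x, R.f, R.z} : Set G) = ⊤) (hc : Nat.card G = p ^ 4)
    (hinj : Function.Injective R'.word) : Nonempty (G ≃* R'.range) := by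
  let e := Equiv.ofBijective _ (R.bijective h hc)
  let e' : ZMod p × ZMod p × ZMod p × ZMod p ≃ R'.range := Equiv.ofInjective _ hinj
  refine ⟨MulEquiv.mk' (e.symm.trans e') fun a b => Subtype.ext ?_⟩
  obtain ⟨u, rfl⟩ := e.surjective a
  obtain ⟨v, rfl⟩ := e.surjective b
  show R'.word (e.symm (e u * e v)) = R'.word (e.symm (e u)) * R'.word (e.symm (e v))
  have h1 : e u * e v = e (SpGens.mulLaw u v) := R.word_mul u v
  rw [h1, Equiv.symm_apply_apply, Equiv.symm_apply_apply, Equiv.symm_apply_apply, R'.word_mul]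

theorem SpRels.exists_gens {G : Type*} [Group G] (h : SpRels p G) :
    Nat.card G = p ^ 4 ∧ ∃ R : SpGens p G, closure ({R.g, R.x, R.f, R.z} : Set G) = ⊤ := by
  obtain ⟨hc, g, x, f, z, gp, xp, fp, zp, -, gz, xz, fz, xf, gx, gf, htop⟩ := h
  exact ⟨hc, ⟨g, x, f, z, gp, xp, fp, zp, gz, xz, fz, xf, mul_inv_eq_iff_eq_mul.1 gx,
    mul_inv_eq_iff_eq_mul.1 gf⟩, htop⟩

section Model

/-- Upper unitriangular blocks. -/
def upper (B : Matrix (Fin 2) (Fin 2) (ZMod p)) (hB : Bᵀ = B) : symplecticGroup (Fin 2) (ZMod p) :=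
  ⟨fromBlocks 1 B 0 1, by
    rw [SymplecticGroup.mem_iff, Matrix.J, fromBlocks_transpose, fromBlocks_multiply,
      fromBlocks_multiply]
    simp [hB]⟩

/-- A Levi element. -/
def levi : symplecticGroup (Fin 2) (ZMod p) :=
  ⟨fromBlocks !![1, 1; 0, 1] 0 0 !![1, 0; -1, 1], by
    rw [SymplecticGroup.mem_iff, Matrix.J, fromBlocks_transpose, fromBlocks_multiply,
      fromBlocks_multiply]
    ext i j
    rcases i with i | i <;> rcases j with j | j <;> fin_cases i <;> fin_cases j <;>
      simp [Matrix.mul_apply, Fin.sum_univ_two, Matrix.vecMul, dotProduct, Matrix.transpose_apply]⟩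

theorem upper_mul (B C : Matrix (Fin 2) (Fin 2) (ZMod p)) (hB : Bᵀ = B) (hC : Cᵀ = C) :
    upper B hB * upper C hC = upper (C + B) (by rw [transpose_add, hB, hC]) := by
  apply Subtype.ext
  simp [upper, fromBlocks_multiply]

theorem coe_upper_pow (B : Matrix (Fin 2) (Fin 2) (ZMod p)) (hB : Bᵀ = B) (n : ℕ) :
    ((upper B hB ^ n : symplecticGroup (Fin 2) (ZMod p)) :
      Matrix (Fin 2 ⊕ Fin 2) (Fin 2 ⊕ Fin 2) (ZMod p)) = fromBlocks 1 ((n : ZMod p) • B) 0 1 := by
  induction n with
  | zero => simp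
  | succ n ih =>
    rw [pow_succ, Submonoid.coe_mul, ih]
    simp [upper, fromBlocks_multiply, add_smul, add_comm]

theorem coe_levi_pow (n : ℕ) :
    ((levi ^ n : symplecticGroup (Fin 2) (ZMod p)) :
      Matrix (Fin 2 ⊕ Fin 2) (Fin 2 ⊕ Fin 2) (ZMod p)) =
      fromBlocks !![1, (n : ZMod p); 0, 1] 0 0 !![1, 0; -(n : ZMod p), 1] := by
  induction n with
  | zero =>
    ext i j
    rcases i with i | i <;> rcases j with j | j <;> fin_cases i <;> fin_cases j <;> simp
  | succ n ih =>
    rw [pow_succ, Submonoid.coe_mul, ih]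
    ext i j
    rcases i with i | i <;> rcases j with j | j <;> fin_cases i <;> fin_cases j <;>
      simp [levi, fromBlocks_multiply, Matrix.mul_apply, Fin.sum_univ_two] <;> ring

/-- The model generators. -/
def model : SpGens p (symplecticGroup (Fin 2) (ZMod p)) where
  g := levi
  x := upper !![0, 0; 0, 1] (by ext i j; fin_cases i <;> fin_cases j <;> simp)
  f := upper !![1, 1; 1, 0] (by ext i j; fin_cases i <;> fin_cases j <;> simp)
  z := upper !![2, 0; 0, 0] (by ext i j; fin_cases i <;> fin_cases j <;> simp)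
  gp := Subtype.ext (by
    rw [coe_levi_pow, ZMod.natCast_self, OneMemClass.coe_one]
    ext i j
    rcases i with i | i <;> rcases j with j | j <;> fin_cases i <;> fin_cases j <;> simp)
  xp := Subtype.ext (by rw [coe_upper_pow, ZMod.natCast_self]; simp)
  fp := Subtype.ext (by rw [coe_upper_pow, ZMod.natCast_self]; simp)
  zp := Subtype.ext (by rw [coe_upper_pow, ZMod.natCast_self]; simp)
  gz := Subtype.ext (by
    ext i j
    rcases i with i | i <;> rcases j with j | j <;> fin_cases i <;> fin_cases j <;>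
      simp [levi, upper, fromBlocks_multiply, Matrix.mul_apply, Fin.sum_univ_two])
  xz := by rw [upper_mul, upper_mul]; simp [add_comm]
  fz := by rw [upper_mul, upper_mul]; simp [add_comm]
  xf := by rw [upper_mul, upper_mul]; simp [add_comm]
  gx := Subtype.ext (by
    ext i j
    rcases i with i | i <;> rcases j with j | j <;> fin_cases i <;> fin_cases j <;>
      simp [levi, upper, fromBlocks_multiply, Matrix.mul_apply, Fin.sum_univ_two])
  gf := Subtype.ext (by
    ext i j
    rcases i with i | i <;> rcases j with j | j <;> fin_cases i <;> fin_cases j <;>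
      simp [levi, upper, fromBlocks_multiply, Matrix.mul_apply, Fin.sum_univ_two] <;> ring)

theorem model_injective (hp2 : p ≠ 2) : Function.Injective (model (p := p)).word := by
  intro u v h
  have hsym : ∀ a b c : ZMod p,
      ((a • !![(2 : ZMod p), 0; 0, 0] + b • !![1, 1; 1, 0] + c • !![0, 0; 0, 1] :
        Matrix (Fin 2) (Fin 2) (ZMod p))) = !![2 * a + b, b; b, c] := by
    intro a b c
    ext i j
    fin_cases i <;> fin_cases j <;> simp [mul_comm]
  have hval : ∀ w : ZMod p × ZMod p × ZMod p × ZMod p,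
      (((model (p := p)).word w : symplecticGroup (Fin 2) (ZMod p)) :
        Matrix (Fin 2 ⊕ Fin 2) (Fin 2 ⊕ Fin 2) (ZMod p)) =
      fromBlocks !![1, w.2.2.2; 0, 1]
        (!![2 * w.1 + w.2.1, w.2.1; w.2.1, w.2.2.1] * !![1, 0; -w.2.2.2, 1]) 0
        !![1, 0; -w.2.2.2, 1] := by
    intro w
    simp only [SpGens.word, model, Submonoid.coe_mul, coe_upper_pow, coe_levi_pow,
      ZMod.natCast_zmod_val, fromBlocks_multiply, ← hsym]
    simp [add_comm, add_left_comm]
  have hM := congrArg (Subtype.val (p := fun M => M ∈ symplecticGroup (Fin 2) (ZMod p))) h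
  rw [hval, hval, fromBlocks_inj] at hM
  obtain ⟨h11, h12, -, -⟩ := hM
  have hd : u.2.2.2 = v.2.2.2 := by simpa using congrFun (congrFun h11 0) 1
  have hb : u.2.1 = v.2.1 := by
    simpa [Matrix.mul_apply, Fin.sum_univ_two] using congrFun (congrFun h12 0) 1
  have hc : u.2.2.1 = v.2.2.1 := by
    simpa [Matrix.mul_apply, Fin.sum_univ_two] using congrFun (congrFun h12 1) 1
  have h00 : 2 * u.1 + u.2.1 + u.2.1 * -u.2.2.2 = 2 * v.1 + v.2.1 + v.2.1 * -v.2.2.2 := by
    simpa [Matrix.mul_apply, Fin.sum_univ_two] using congrFun (congrFun h12 0) 0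
  rw [hb, hd, add_left_inj, add_left_inj] at h00
  have h2 : (2 : ZMod p) ≠ 0 := by
    intro h0
    have : ((2 : ℕ) : ZMod p) = 0 := by simpa using h0
    rw [ZMod.natCast_eq_zero_iff] at this
    exact hp2 ((Nat.prime_dvd_prime_iff_eq hp.out Nat.prime_two).1 this)
  exact Prod.ext (mul_left_cancel₀ h2 h00) (Prod.ext hb (Prod.ext hc hd))

theorem card_sp_dvd : (Nat.card (symplecticGroup (Fin 2) (ZMod p))).factorization p = 4 := by
  have hc : Nat.card (symplecticGroup (Fin 2) (ZMod p)) = p ^ 4 * ((p ^ 2 - 1) * (p ^ 4 - 1)) := by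
    rw [Nat.card_congr (Cfsg.Lib.Linear.Symp.spEquiv (m := 2) (F := ZMod p)).toEquiv,
      Cfsg.Lib.Linear.Symp.card_iso (Cfsg.Lib.Linear.Symp.spB_nondegenerate 2 (ZMod p))
        (Cfsg.Lib.Linear.Symp.spB_isAlt 2 (ZMod p)) Cfsg.Lib.Linear.Symp.finrank_space,
      ZMod.card p]
    simp [Finset.prod_range_succ]
  have h1 := hp.out.two_le
  have hp2' : 1 < p ^ 2 := Nat.one_lt_pow two_ne_zero hp.out.one_lt
  have hp4' : 1 < p ^ 4 := Nat.one_lt_pow four_ne_zero hp.out.one_lt
  have hnd : ∀ k : ℕ, k ≠ 0 → ¬ p ∣ p ^ k - 1 := by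
    intro k hk hd
    have h := Nat.dvd_sub (dvd_pow_self p hk) hd
    rw [Nat.sub_sub_self (Nat.one_le_pow _ _ hp.out.pos), Nat.dvd_one] at h
    exact hp.out.ne_one h
  rw [hc, Nat.factorization_mul (pow_ne_zero _ hp.out.ne_zero)
    (mul_ne_zero (by omega) (by omega)), Finsupp.add_apply, hp.out.factorization_pow,
    Finsupp.single_eq_same, Nat.factorization_eq_zero_of_not_dvd]
  intro hd
  rcases hp.out.dvd_mul.1 hd with h | h
  exacts [hnd 2 two_ne_zero h, hnd 4 four_ne_zero h]

/-- A group with the relations is a Sylow subgroup of `Sp(4, p)`. -/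
theorem exists_sylow_equiv (hp2 : p ≠ 2) {G : Type*} [Group G] [Finite G] (h : SpRels p G) :
    ∃ P : Sylow p (symplecticGroup (Fin 2) (ZMod p)),
      Nonempty (G ≃* (P : Subgroup (symplecticGroup (Fin 2) (ZMod p)))) := by
  obtain ⟨hc, R, htop⟩ := h.exists_gens
  have hinj := model_injective (p := p) hp2
  have hcard : Nat.card (model (p := p)).range = p ^ 4 := by
    show Nat.card (Set.range (model (p := p)).word) = p ^ 4
    rw [Nat.card_range_of_injective hinj, SpGens.card_index]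
  exact ⟨Sylow.ofCard (model (p := p)).range (by rw [hcard, card_sp_dvd]),
    nonempty_equiv R model htop hc hinj⟩

end Model

end Cfsg.Lib.FusionSys.SecThree
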