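import Cfsg.Agent.Lib.FusionSys.SecThree.CaseTwo
import Cfsg.Agent.Lib.FusionSys.SecThree.SpSylow

/-!
# Elementary facts about a group with the relations of a Sylow subgroup of `Sp(4, p)`
-/

set_option linter.style.haveILetI false
set_option autoImplicit false

namespace Cfsg.Lib.FusionSys.SecThree

open Subgroup
open scoped commutatorElement

variable {G : Type*} [Group G]

/-- The elements whose commutators are central. -/
def secondCenter (G : Type*) [Group G] : Subgroup G :=
  (center (G ⧸ center G)).comap (QuotientGroup.mk' (center G))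

theorem mem_secondCenter {w : G} : w ∈ secondCenter G ↔ ∀ g : G, ⁅g, w⁆ ∈ center G := by
  rw [secondCenter, mem_comap, mem_center_iff]
  constructor
  · intro h g
    rw [← QuotientGroup.ker_mk' (center G), MonoidHom.mem_ker, map_commutatorElement]
    exact commutatorElement_eq_one_iff_mul_comm.2 (h _)
  · intro h q
    induction q using QuotientGroup.induction_on with
    | _ g =>
      refine commutatorElement_eq_one_iff_mul_comm.1 ?_
      show ⁅QuotientGroup.mk' (center G) g, QuotientGroup.mk' (center G) w⁆ = 1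
      rw [← map_commutatorElement]
      exact (QuotientGroup.eq_one_iff _).2 (h g)

theorem secondCenter_normal : (secondCenter G).Normal :=
  Normal.comap inferInstance _

variable [Finite G] {p : ℕ} [hp : Fact p.Prime]

/-- What is used of the shape of a Sylow subgroup of `Sp(4, p)`. -/
structure SpFacts (p : ℕ) (G : Type*) [Group G] : Prop where
  card : Nat.card G = p ^ 4
  card_center : Nat.card (center G) = p
  card_second : Nat.card (secondCenter G) = p ^ 2
  second_le : ∀ E : Subgroup G, E.Normal → E.index = p → secondCenter G ≤ E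
  pow_mem : ∀ y : G, y ^ p ∈ center G
  class_three : ∃ a b c : G, ⁅⁅a, b⁆, c⁆ ≠ 1

theorem SpRels.facts (hp2 : p ≠ 2) (h : SpRels p G) : SpFacts p G := by
  haveI : Fact (1 < p) := ⟨hp.out.one_lt⟩
  obtain ⟨hcard, R, htop⟩ := h.exists_gens
  have hbij := R.bijective htop hcard
  have hinj := hbij.1
  have hg : R.g = R.word (0, 0, 0, 1) := by simp [SpGens.word, ZMod.val_one]
  have hx : R.x = R.word (0, 0, 1, 0) := by simp [SpGens.word, ZMod.val_one]
  have hf : R.f = R.word (0, 1, 0, 0) := by simp [SpGens.word, ZMod.val_one]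
  have hz : R.z = R.word (1, 0, 0, 0) := by simp [SpGens.word, ZMod.val_one]
  have hc0 : ∀ a : ZMod p, R.word (a, 0, 0, 0) ∈ center G := fun a => mem_center_iff.2 fun y => by
    obtain ⟨⟨a', b', c', d'⟩, rfl⟩ := hbij.2 y
    rw [R.word_mul, R.word_mul]
    simp [SpGens.mulLaw, add_comm]
  have hcen : ∀ u, R.word u ∈ center G ↔ u.2 = (0, 0, 0) := by
    rintro ⟨a, b, c, d⟩
    constructor
    · intro h
      have e1 := mem_center_iff.1 h (R.word (0, 0, 1, 0))
      have e2 := mem_center_iff.1 h (R.word (0, 0, 0, 1))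
      rw [R.word_mul, R.word_mul] at e1 e2
      have e1' := hinj e1
      have e2' := hinj e2
      simp [SpGens.mulLaw, ZMod.val_one, Nat.choose] at e1' e2'
      obtain ⟨h1, hd⟩ := e1'
      obtain ⟨hb, hc⟩ := e2'
      simp_all
    · rintro ⟨⟩
      exact hc0 a
  have hsec : ∀ u, R.word u ∈ secondCenter G ↔ u.2.2 = (0, 0) := by
    rintro ⟨a, b, c, d⟩
    rw [mem_secondCenter]
    constructor
    · intro h
      have key : ∀ v, (SpGens.mulLaw v (a, b, c, d)).2.1 = (SpGens.mulLaw (a, b, c, d) v).2.1 := by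
        intro v
        obtain ⟨w, hw⟩ := hbij.2 ⁅R.word v, R.word (a, b, c, d)⁆
        have hw0 := (hcen w).1 (hw ▸ h _)
        have h1 : R.word v * R.word (a, b, c, d) = R.word w * (R.word (a, b, c, d) * R.word v) := by
          rw [hw, commutatorElement_def]; group
        rw [R.word_mul, R.word_mul, R.word_mul] at h1
        rw [hinj h1]
        obtain ⟨w1, w2⟩ := w
        simp only at hw0
        subst hw0
        simp [SpGens.mulLaw]
      have e1 := key (0, 0, 1, 0)
      have e2 := key (0, 0, 0, 1)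
      simp [SpGens.mulLaw, ZMod.val_one, Nat.choose] at e1 e2
      simp_all
    · rintro ⟨⟩ g
      obtain ⟨⟨a', b', c', d'⟩, rfl⟩ := hbij.2 g
      have h1 : R.word (a', b', c', d') * R.word (a, b, 0, 0) =
          R.word (d' * b, 0, 0, 0) * (R.word (a, b, 0, 0) * R.word (a', b', c', d')) := by
        rw [R.word_mul, R.word_mul, R.word_mul]
        simp [SpGens.mulLaw]
        congr 1
        ext <;> simp <;> ring
      rw [commutatorElement_def, h1]
      simpa [mul_assoc] using hc0 (d' * b)
  have hzf : R.f ∈ secondCenter G := by rw [hf, hsec]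
  refine ⟨hcard, ?_, ?_, fun E hE hi => ?_, fun y => ?_, ?_⟩
  · rw [← Nat.card_zmod p]
    refine (Nat.card_congr (Equiv.ofBijective
      (fun a : ZMod p => (⟨R.word (a, 0, 0, 0), hc0 a⟩ : center G)) ⟨fun a b h => ?_, fun y => ?_⟩)).symm
    · exact congrArg Prod.fst (hinj (congrArg Subtype.val h))
    · obtain ⟨⟨a, r⟩, hr⟩ := hbij.2 (y : G)
      have h0 := (hcen (a, r)).1 (hr ▸ y.2)
      simp only at h0
      subst h0
      exact ⟨a, Subtype.ext hr⟩
  · rw [show p ^ 2 = Nat.card (ZMod p × ZMod p) by rw [Nat.card_prod, Nat.card_zmod, sq]]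
    refine (Nat.card_congr (Equiv.ofBijective
      (fun a : ZMod p × ZMod p =>
        (⟨R.word (a.1, a.2, 0, 0), (hsec _).2 rfl⟩ : secondCenter G)) ⟨fun a b h => ?_, fun y => ?_⟩)).symm
    · have := hinj (congrArg Subtype.val h)
      simp only [Prod.mk.injEq] at this
      exact Prod.ext this.1 this.2.1
    · obtain ⟨⟨a, b, r⟩, hr⟩ := hbij.2 (y : G)
      have h0 := (hsec (a, b, r)).1 (hr ▸ y.2)
      simp only at h0
      subst h0
      exact ⟨(a, b), Subtype.ext hr⟩
  · have hcE : ∀ u v : G, ⁅u, v⁆ ∈ E := fun u v => by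
      haveI := hE
      have hq : Nat.card (G ⧸ E) = p := by rw [← hi]; rfl
      haveI : IsCyclic (G ⧸ E) := isCyclic_of_prime_card hq
      rw [← QuotientGroup.ker_mk' E, MonoidHom.mem_ker, map_commutatorElement]
      exact commutatorElement_eq_one_iff_mul_comm.2 (IsCyclic.commGroup.mul_comm _ _)
    have hfE : R.f ∈ E := by
      have h1 : ⁅R.g, R.x⁆ = R.f := by
        rw [commutatorElement_def, R.gx, mul_inv_cancel_right, R.xf, mul_inv_cancel_right]
      exact h1 ▸ hcE _ _
    have hzE : R.z ∈ E := by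
      have h1 : ⁅R.g, R.f⁆ = R.z := by
        rw [commutatorElement_def, R.gf, mul_inv_cancel_right, R.fz, mul_inv_cancel_right]
      exact h1 ▸ hcE _ _
    intro y hy
    obtain ⟨⟨a, b, r⟩, rfl⟩ := hbij.2 y
    have h0 := (hsec (a, b, r)).1 hy
    simp only at h0
    subst h0
    simp only [SpGens.word, ZMod.val_zero, pow_zero, mul_one]
    exact E.mul_mem (E.pow_mem hzE _) (E.pow_mem hfE _)
  · obtain ⟨⟨a, b, c, d⟩, rfl⟩ := hbij.2 y
    have key : ∀ n : ℕ, ∃ a' : ZMod p, R.word (a, b, c, d) ^ n =
        R.word (a', (n : ZMod p) * b + ((n.choose 2 : ℕ) : ZMod p) * (d * c), n * c, n * d) := by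
      intro n
      induction n with
      | zero => exact ⟨0, by simp [R.word_zero]⟩
      | succ n ih =>
        obtain ⟨a', ha'⟩ := ih
        refine ⟨(SpGens.mulLaw (a', (n : ZMod p) * b + ((n.choose 2 : ℕ) : ZMod p) * (d * c),
          (n : ZMod p) * c, (n : ZMod p) * d) (a, b, c, d)).1, ?_⟩
        rw [pow_succ, ha', R.word_mul]
        congr 1
        simp only [SpGens.mulLaw, Prod.mk.injEq, Nat.cast_add, Nat.cast_one, Nat.choose_succ_succ',
          Nat.choose_one_right]
        refine ⟨trivial, ?_, by ring, by ring⟩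
        ring
    obtain ⟨a', ha'⟩ := key p
    have h2 : ((p.choose 2 : ℕ) : ZMod p) = 0 :=
      (ZMod.natCast_eq_zero_iff _ _).2 (hp.out.dvd_choose_self two_ne_zero
        (lt_of_le_of_ne hp.out.two_le (Ne.symm hp2)))
    rw [ha', h2, ZMod.natCast_self]
    simpa using hc0 a'
  · refine ⟨R.g, R.x, R.g, fun h => ?_⟩
    have h1 : ⁅R.g, R.x⁆ = R.f := by
      rw [commutatorElement_def, R.gx, mul_inv_cancel_right, R.xf, mul_inv_cancel_right]
    rw [h1, commutatorElement_eq_one_iff_mul_comm] at h
    rw [hf, hg, R.word_mul, R.word_mul] at h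
    have h2 := hinj h
    simp [SpGens.mulLaw, ZMod.val_one] at h2

end Cfsg.Lib.FusionSys.SecThree
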