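import Cfsg.Agent.Lib.FusionSys.SecThree.Pair
import Cfsg.Agent.Lib.FusionSys.SecThree.SpFacts

/-!
# Invariant subgroups of two essential subgroups with trivial core
-/

set_option linter.style.haveILetI false
set_option autoImplicit false

namespace Cfsg.Lib.FusionSys.SecThree

open Subgroup RankThree
open scoped commutatorElement

variable {G : Type*} [Group G] [Finite G] {p : ℕ} [hp : Fact p.Prime]

theorem comm_mem_of_card_sq (hG : IsPGroup p G) {E N : Subgroup G} [N.Normal] (hN : N ≤ E)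
    (hc : Nat.card E = p ^ 2 * Nat.card N) : ∀ u ∈ E, ∀ v ∈ E, ⁅u, v⁆ ∈ N := by
  set π := QuotientGroup.mk' N
  have hcard : Nat.card ↥(E.map π) = p ^ 2 := by
    rw [← Subgroup.relIndex_ker, QuotientGroup.ker_mk']
    have h2 := Subgroup.card_mul_index (N.subgroupOf E)
    rw [Nat.card_congr (subgroupOfEquivOfLe hN).toEquiv, hc, mul_comm (p ^ 2)] at h2
    exact Nat.eq_of_mul_eq_mul_left Nat.card_pos h2
  intro u hu v hv
  rw [← QuotientGroup.ker_mk' N, MonoidHom.mem_ker, map_commutatorElement]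
  refine commutatorElement_eq_one_iff_mul_comm.2 ?_
  exact congrArg Subtype.val
    (Plane.comm hcard (⟨π u, mem_map_of_mem π hu⟩ : E.map π) ⟨π v, mem_map_of_mem π hv⟩)

/-- Commutators of a group lie in each of its normal subgroups of index `p`. -/
theorem comm_mem_of_index {E : Subgroup G} [E.Normal] (hi : E.index = p) (u v : G) : ⁅u, v⁆ ∈ E := by
  haveI : IsCyclic (G ⧸ E) := isCyclic_of_prime_card (show Nat.card (G ⧸ E) = p from hi)
  rw [← QuotientGroup.ker_mk' E, MonoidHom.mem_ker, map_commutatorElement]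
  exact commutatorElement_eq_one_iff_mul_comm.2 (IsCyclic.commGroup.mul_comm _ _)

/-- An abelian subgroup and an element commuting with it generate an abelian subgroup. -/
theorem comm_sup_zpowers {D : Subgroup G} (hD : ∀ a ∈ D, ∀ b ∈ D, a * b = b * a) {x : G}
    (hx : ∀ a ∈ D, a * x = x * a) : ∀ u ∈ D ⊔ zpowers x, ∀ v ∈ D ⊔ zpowers x, u * v = v * u := by
  intro u hu v hv
  obtain ⟨a, ha, i, rfl⟩ := (mem_sup_zpowers_of_commute hx).1 hu
  obtain ⟨b, hb, j, rfl⟩ := (mem_sup_zpowers_of_commute hx).1 hv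
  have h1 : Commute (x ^ i) b := ((show Commute b x from hx b hb).zpow_right i).symm
  have h2 : Commute a (x ^ j) := (show Commute a x from hx a ha).zpow_right j
  exact (((show Commute a b from hD a ha b hb).mul_right h2).mul_left
    (h1.mul_right ((Commute.refl x).zpow_zpow i j))).eq

namespace Pre

variable (P : Pre p G)

/-- A subgroup of `E` invariant under its automorphisms is normal. -/
theorem normal_of_invariant {E U : Subgroup G} (hE : E ∈ P.ess) (hU : U ≤ E)
    (hinv : ∀ a ∈ P.aut E, ∀ y ∈ U, ap a y ∈ U) : U.Normal := ⟨fun y hy g => by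
  obtain ⟨a, ha, -, hag⟩ := P.exists_conj hE g
  rw [← hag y (hU hy)]
  exact hinv a ha y hy⟩

/-- No invariant chain with three steps of order at most `p`. -/
theorem no_flag {E L₀ L₁ : Subgroup G} (hE : E ∈ P.ess) (h01 : L₀ ≤ L₁) (h1E : L₁ ≤ E)
    (hc0 : Nat.card L₀ ≤ p) (hc1 : Nat.card L₁ ≤ p * Nat.card L₀)
    (hc2 : Nat.card E ≤ p * Nat.card L₁) (hi0 : ∀ a ∈ P.aut E, ∀ y ∈ L₀, ap a y ∈ L₀)
    (hi1 : ∀ a ∈ P.aut E, ∀ y ∈ L₁, ap a y ∈ L₁) : False := by
  have hG := P.isP
  haveI hn0 := P.normal_of_invariant hE (h01.trans h1E) hi0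
  haveI hn1 := P.normal_of_invariant hE h1E hi1
  set M := P.aut E ⊓ (fixer E L₀ ⊓ moves E L₁ L₀ h1E ⊓ moves E E L₁ le_rfl) with hM
  have hmem : ∀ a ∈ P.aut E, (∃ k : ℕ, a ^ p ^ k = 1) → a ∈ M := fun a ha hk => by
    refine ⟨ha, ⟨fun x hx _ => ?_, moves_of_step hG h01 h1E hc1 (hi0 a ha) (hi1 a ha) hk⟩,
      moves_of_step hG h1E le_rfl hc2 (hi1 a ha) (fun _ hx => ap_mem a hx) hk⟩
    have h := (moves_of_step hG (L₀ := (⊥ : Subgroup G)) bot_le (h01.trans h1E)
      (by rw [card_bot, mul_one]; exact hc0)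
      (fun y hy => by rw [mem_bot.1 hy, ap_map_one]; exact one_mem _) (hi0 a ha) hk).2 x hx
    exact mul_inv_eq_one.1 (mem_bot.1 h)
  have hMp : IsPGroup p M := (isPGroup_chain hG h1E (L₀ := L₀) (L₁ := L₁) inf_le_right)
  obtain ⟨g, hg⟩ := P.exists_outer hE
  obtain ⟨α, hαA, hαI, hα⟩ := P.exists_conj hE g
  refine P.radical_false hE hg hα (inf_le_left : M ≤ _) (fun a ha n hn => ?_) hMp ?_
  · obtain ⟨k, hk⟩ := hMp ⟨n, hn⟩
    refine hmem _ ((P.aut E).mul_mem ((P.aut E).mul_mem ha hn.1) ((P.aut E).inv_mem ha)) ⟨k, ?_⟩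
    rw [conj_pow, show n ^ p ^ k = 1 from congrArg Subtype.val hk, mul_one, mul_inv_cancel]
  · obtain ⟨k, hk⟩ := P.isPGroup_inner hE ⟨α, hαI⟩
    exact hmem α hαA ⟨k, congrArg Subtype.val hk⟩

end Pre

namespace Sys

variable (S : Sys p G) {E₁ E₂ : Subgroup G}

/-- In order `p ^ 3` an invariant subgroup of an essential subgroup is trivial or the whole. -/
theorem heis_invariant (h : HeisRels p G) {E U : Subgroup G} (hE : E ∈ S.ess) (hU : U ≤ E)
    (hinv : ∀ a ∈ S.aut E, ∀ y ∈ U, ap a y ∈ U) : U = ⊥ ∨ U = E := by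
  have hc : Nat.card E = p ^ 2 := by
    have h1 := S.card_eq hE
    rw [h.1, pow_succ' p 2] at h1
    exact (Nat.eq_of_mul_eq_mul_left hp.out.pos h1).symm
  obtain ⟨u, hu⟩ := IsPGroup.iff_card.mp (S.isP.to_subgroup U)
  have hle := card_le_of_le hU
  rw [hu, hc] at hle
  have hu2 := (Nat.pow_le_pow_iff_right hp.out.one_lt).1 hle
  rcases (show u = 0 ∨ u = 1 ∨ u = 2 by omega) with rfl | rfl | rfl
  · exact Or.inl (Subgroup.card_eq_one.1 (by rw [hu, pow_zero]))
  · rw [pow_one] at hu
    exact (S.toPre.no_flag hE le_rfl hU hu.le (Nat.le_mul_of_pos_left _ hp.out.pos)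
      (by rw [hc, hu, sq]) hinv hinv).elim
  · exact Or.inr (eq_of_card_le hU (by rw [hu, hc]))

variable {S} (hF : SpFacts p G) (H : S.IsPair E₁ E₂)
include hF H

omit H in
theorem card_ess {E : Subgroup G} (hE : E ∈ S.ess) : Nat.card E = p ^ 3 := by
  have h1 := S.card_eq hE
  rw [hF.card, pow_succ' p 3] at h1
  exact (Nat.eq_of_mul_eq_mul_left hp.out.pos h1).symm

omit H in
theorem second_le_ess {E : Subgroup G} (hE : E ∈ S.ess) : secondCenter G ≤ E :=
  hF.second_le E (S.normal E hE) (S.index_eq E hE)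

theorem second_eq_inf : secondCenter G = E₁ ⊓ E₂ := by
  refine eq_of_card_le (le_inf (second_le_ess hF H.left) (second_le_ess hF H.right)) ?_
  rw [hF.card_second]
  have h := H.card_inf
  rw [card_ess hF H.right, pow_succ' p 2] at h
  exact (Nat.eq_of_mul_eq_mul_left hp.out.pos h).ge

omit H in
/-- The commutators of a nonabelian `E` make the centre invariant. -/
theorem center_invariant {E : Subgroup G} (hE : E ∈ S.ess)
    (hna : ∃ u ∈ E, ∃ v ∈ E, u * v ≠ v * u) : ∀ a ∈ S.aut E, ∀ y ∈ center G, ap a y ∈ center G := by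
  obtain ⟨u, hu, v, hv, huv⟩ := hna
  have hZE : center G ≤ E := S.center_le hE
  have hc := comm_mem_of_card_sq S.isP hZE (by rw [card_ess hF hE, hF.card_center]; ring)
  intro a _ y hy
  have hw1 : ⁅u, v⁆ ≠ 1 := fun h => huv (commutatorElement_eq_one_iff_mul_comm.1 h)
  obtain ⟨j, rfl⟩ := mem_zpowers_iff.1 ((eq_zpowers_of_card hF.card_center (hc u hu v hv) hw1).ge hy)
  rw [ap_map_zpow a (hZE (hc u hu v hv)), ap_map_comm a hu hv]
  exact zpow_mem (hc _ (ap_mem a hu) _ (ap_mem a hv)) j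

omit H in
theorem second_not_invariant_of_nonabelian {E : Subgroup G} (hE : E ∈ S.ess)
    (hna : ∃ u ∈ E, ∃ v ∈ E, u * v ≠ v * u)
    (hinv : ∀ a ∈ S.aut E, ∀ y ∈ secondCenter G, ap a y ∈ secondCenter G) : False := by
  have hle : center G ≤ secondCenter G := fun z hz => mem_secondCenter.2 fun g => by
    rw [commutatorElement_eq_one_iff_mul_comm.2 (mem_center_iff.1 hz g)]
    exact one_mem _
  exact S.toPre.no_flag hE hle (second_le_ess hF hE) hF.card_center.le
    (by rw [hF.card_second, hF.card_center, sq]) (by rw [card_ess hF hE, hF.card_second]; exact le_of_eq (by ring))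
    (center_invariant hF hE hna) hinv

/-- One of the two is abelian and the other is not. -/
theorem exists_nonabelian : ∃ X ∈ S.ess, ∃ u ∈ X, ∃ v ∈ X, u * v ≠ v * u := by
  by_contra h
  push Not at h
  have hle : secondCenter G ≤ center G := fun d hd => mem_center_iff.2 fun g => by
    have hc : (⊤ : Subgroup G) ≤ centralizer ({d} : Set G) := H.sup_eq_top ▸ sup_le
      (fun x hx => mem_centralizer_singleton_iff.2 (h E₁ H.left x hx d (second_le_ess hF H.left hd)))
      (fun x hx => mem_centralizer_singleton_iff.2 (h E₂ H.right x hx d (second_le_ess hF H.right hd)))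
    exact mem_centralizer_singleton_iff.1 (hc (mem_top g))
  have h1 := card_le_of_le hle
  rw [hF.card_second, hF.card_center] at h1
  have := hp.out.two_le
  nlinarith

/-- The other essential subgroup of a nonabelian one is abelian. -/
theorem abelian_of_nonabelian (hna : ∃ u ∈ E₁, ∃ v ∈ E₁, u * v ≠ v * u) :
    ∀ u ∈ E₂, ∀ v ∈ E₂, u * v = v * u := by
  have hG := S.isP
  set Z := center G with hZ
  set D := secondCenter G with hD
  haveI hDn : D.Normal := secondCenter_normal
  have hDX : D ≤ E₁ := second_le_ess hF H.left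
  have hDA : D ≤ E₂ := second_le_ess hF H.right
  have hZD : Z ≤ D := fun z hz => mem_secondCenter.2 fun g => by
    rw [commutatorElement_eq_one_iff_mul_comm.2 (mem_center_iff.1 hz g)]
    exact one_mem _
  have hcX := card_ess hF H.left
  have hcA := card_ess hF H.right
  have hDc : ∀ u ∈ D, ∀ v ∈ D, u * v = v * u := fun u hu v hv => congrArg Subtype.val
    (Plane.comm hF.card_second (⟨u, hu⟩ : D) ⟨v, hv⟩)
  set π := QuotientGroup.mk' Z with hπ
  have hπ1 : ∀ y, π y = 1 ↔ y ∈ Z := fun y => QuotientGroup.eq_one_iff y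
  obtain ⟨e, he, heZ⟩ : ∃ e ∈ D, e ∉ Z := SetLike.exists_of_lt (lt_of_le_of_ne hZD fun h => by
    have h1 := hF.card_second
    rw [← hD, ← h, hF.card_center] at h1
    have := hp.out.two_le
    nlinarith)
  have hDe : Z ⊔ zpowers e = D := (eq_or_eq_of_card hG le_sup_left (sup_le hZD (zpowers_le.2 he))
    (by rw [hF.card_second, hF.card_center, sq])).resolve_left
      fun h => heZ (h.le (mem_sup_right (mem_zpowers e)))
  obtain ⟨l, hl, hle⟩ : ∃ l ∈ S.aut E₁, ap l e ∉ D := by
    by_contra h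
    push Not at h
    refine second_not_invariant_of_nonabelian hF H.left hna fun a ha y hy => ?_
    have hsub : Z ⊔ zpowers e ≤ (D.comap E₁.subtype |>.comap a.toMonoidHom).map E₁.subtype :=
      sup_le (fun z hz => ⟨⟨z, hDX (hZD hz)⟩, hZD (show ((a ⟨z, _⟩ : E₁) : G) ∈ Z by
        rw [← ap_of_mem a]; exact center_invariant hF H.left hna a ha z hz), rfl⟩)
        (zpowers_le.2 ⟨⟨e, hDX he⟩, show ((a ⟨e, _⟩ : E₁) : G) ∈ D by
          rw [← ap_of_mem a]; exact h a ha, rfl⟩)
    obtain ⟨w, hw, rfl⟩ := hsub (hDe.ge hy)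
    rw [Subgroup.coe_subtype, ap_coe]
    exact hw
  obtain ⟨g, hg⟩ := S.toPre.exists_outer H.left
  obtain ⟨α, hαA, hαI, hα⟩ := S.exists_conj H.left g
  have hu1 : ∃ x ∈ E₁, ap α x * x⁻¹ ∉ Z := by
    by_contra h
    push Not at h
    refine second_not_invariant_of_nonabelian hF H.left hna fun a ha y hy => ?_
    exfalso
    have hXD : E₁ ≤ D := fun x hx => mem_secondCenter.2 fun k => by
      obtain ⟨v, hv, i, rfl⟩ := S.exists_decomp H.left hg k
      have hgc : ∀ w ∈ E₁, π g * π w = π w * π g := fun w hw => by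
        rw [← commutatorElement_eq_one_iff_mul_comm, ← map_commutatorElement, hπ1,
          commutatorElement_def, ← hα w hw]
        exact h w hw
      have hvc : π v * π x = π x * π v := by
        rw [← commutatorElement_eq_one_iff_mul_comm, ← map_commutatorElement, hπ1]
        exact comm_mem_of_card_sq hG (hZD.trans hDX) (by rw [hcX, hF.card_center]; ring) v hv x hx
      rw [← hπ1, map_commutatorElement, commutatorElement_eq_one_iff_mul_comm, map_mul, map_pow]
      exact ((show Commute (π g) (π x) from hgc x hx).pow_left i |>.mul_left hvc).eq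
    have h1 := card_le_of_le hXD
    rw [hcX, hF.card_second] at h1
    exact absurd ((Nat.pow_le_pow_iff_right hp.out.one_lt).1 h1) (by norm_num)
  obtain ⟨t, htA, htn, -, htinv⟩ := exists_inverter hG S.odd (S.aut E₁) (inner E₁ ⊤)
    (S.isPGroup_inner H.left) (S.conj_mem E₁ H.left)
    (fun P' hP' hp' hle => le_antisymm (S.sylow E₁ H.left P' hP' hp' hle) hle)
    (W := E₁) (U := Z) (hZD.trans hDX) le_rfl (by rw [hcX, hF.card_center]; ring)
    (fun x _ => hF.pow_mem x) (fun a _ x hx => ap_mem a hx) (center_invariant hF H.left hna)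
    hαI hu1 (hDX he) heZ (by rw [hα e (hDX he), ← commutatorElement_def]; exact mem_secondCenter.1 he g)
    hl (fun h => hle (hDe.le h))
  obtain ⟨τ, hτ, hτt⟩ := S.extend_of_conj H.left htA hg hα (htn α hαI)
  -- the action modulo the centre
  have hinv : ∀ x ∈ E₁, π (τ x) = (π x)⁻¹ := fun x hx => by
    rw [← mul_eq_one_iff_eq_inv, ← map_mul, hπ1, hτt x hx]; exact htinv x hx
  obtain ⟨x, hx, hxD⟩ : ∃ x ∈ E₁, x ∉ D := SetLike.exists_of_lt (lt_of_le_of_ne hDX fun h => by
    have h1 := hF.card_second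
    rw [← hD, h, hcX] at h1
    exact absurd ((Nat.pow_right_injective hp.out.two_le) h1) (by norm_num))
  obtain ⟨y, hy, hyD⟩ : ∃ y ∈ E₂, y ∉ D := SetLike.exists_of_lt (lt_of_le_of_ne hDA fun h => by
    have h1 := hF.card_second
    rw [← hD, h, hcA] at h1
    exact absurd ((Nat.pow_right_injective hp.out.two_le) h1) (by norm_num))
  have hDx : D ⊔ zpowers x = E₁ := (eq_or_eq_of_card hG le_sup_left (sup_le hDX (zpowers_le.2 hx))
    (by rw [hcX, hF.card_second]; ring)).resolve_left fun h => hxD (h.le (mem_sup_right (mem_zpowers x)))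
  have hDy : D ⊔ zpowers y = E₂ := (eq_or_eq_of_card hG le_sup_left (sup_le hDA (zpowers_le.2 hy))
    (by rw [hcA, hF.card_second]; ring)).resolve_left fun h => hyD (h.le (mem_sup_right (mem_zpowers y)))
  have hDπ : ∀ d ∈ D, π d ∈ center (G ⧸ Z) := fun d hd => mem_center_iff.2 fun q =>
    QuotientGroup.induction_on q fun k => by
      show π k * π d = π d * π k
      rw [← commutatorElement_eq_one_iff_mul_comm, ← map_commutatorElement, hπ1]
      exact mem_secondCenter.1 hd k
  have hne : ⁅π x, π y⁆ ≠ 1 := by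
    intro h
    rw [commutatorElement_eq_one_iff_mul_comm] at h
    refine hyD (mem_secondCenter.2 fun k => ?_)
    rw [← hπ1, map_commutatorElement, commutatorElement_eq_one_iff_mul_comm]
    have htop : (⊤ : Subgroup G) ≤ (centralizer ({π y} : Set (G ⧸ Z))).comap π := by
      rw [← H.sup_eq_top, ← hDx, ← hDy]
      refine sup_le (sup_le (fun d hd => mem_centralizer_singleton_iff.2 ?_)
        (zpowers_le.2 (mem_centralizer_singleton_iff.2 h)))
        (sup_le (fun d hd => mem_centralizer_singleton_iff.2 ?_)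
        (zpowers_le.2 (mem_centralizer_singleton_iff.2 rfl)))
      all_goals exact (mem_center_iff.1 (hDπ d hd) (π y)).symm
    exact mem_centralizer_singleton_iff.1 (htop (mem_top k))
  have hyτ := H.autS_ess τ hτ E₂ H.right y hy
  rw [← hDy] at hyτ
  obtain ⟨m, hm⟩ := exists_pow_of_mem_sup D hyτ
  have hπy : π (τ y) = π y ^ m * π ((y ^ m)⁻¹ * τ y) := by
    rw [← map_pow, ← map_mul, mul_inv_cancel_left]
  have hcD : ⁅x, y⁆ ∈ D := by
    haveI := S.normal E₁ H.left
    haveI := S.normal E₂ H.right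
    rw [hD, second_eq_inf hF H]
    exact ⟨comm_mem_of_index (S.index_eq E₁ H.left) x y, comm_mem_of_index (S.index_eq E₂ H.right) x y⟩
  have hcc : ⁅π x, π y⁆ ∈ center (G ⧸ Z) := by
    rw [← map_commutatorElement]; exact hDπ _ hcD
  have h1 : ⁅π x, π y⁆ ^ m = ⁅π x, π y⁆ := by
    have h2 : π (τ ⁅x, y⁆) = ⁅π x, π y⁆⁻¹ := by
      rw [hinv _ (hDX hcD), map_commutatorElement]
    rw [map_commutatorElement τ, map_commutatorElement, hinv x hx, hπy,
      RankThree.comm_mul_central_right (hDπ _ hm)] at h2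
    have h4 : ⁅π x, π y ^ m⁆ = ⁅π x, π y⁆ ^ m :=
      RankThree.comm_pow_right (mem_center_iff.1 hcc _) m
    have h5 : ⁅(π x)⁻¹, π y ^ m⁆ = ⁅π x, π y ^ m⁆⁻¹ := by
      have hc2 : ⁅π x, π y ^ m⁆ ∈ center (G ⧸ Z) := h4 ▸ pow_mem hcc m
      have h6 : (1 : G ⧸ Z) = ⁅(π x)⁻¹, π y ^ m⁆ * ⁅π x, π y ^ m⁆ := by
        rw [← RankThree.comm_mul_left_central hc2, inv_mul_cancel, commutatorElement_one_left]
      exact eq_inv_of_mul_eq_one_left h6.symm
    rw [h5, h4, inv_inj] at h2
    exact h2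
  have hmod : m ≡ 1 [MOD p] := by
    have ho : orderOf ⁅π x, π y⁆ = p := orderOf_eq_prime (by
      rw [← map_commutatorElement, ← map_pow, hπ1]; exact hF.pow_mem _) hne
    rw [← ho]
    exact pow_eq_pow_iff_modEq.1 (h1.trans (pow_one _).symm)
  -- `y` commutes with `e`
  have hτz : ∀ w ∈ Z, τ w = w := by
    have hxe : x * e ≠ e * x := fun h => by
      obtain ⟨u, hu, v, hv, huv⟩ := hna
      refine huv (comm_sup_zpowers hDc (fun d hd => ?_) u (hDx.ge hu) v (hDx.ge hv))
      obtain ⟨w', hw', j, rfl⟩ := (mem_sup_zpowers_of_commute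
        (fun a ha => (mem_center_iff.1 ha e).symm)).1 (hDe.ge hd)
      exact ((show Commute w' x from (mem_center_iff.1 hw' x).symm).mul_left
        ((show Commute x e from h).zpow_right j).symm).eq
    have hw0 : ⁅x, e⁆ ∈ Z := mem_secondCenter.1 he x
    have hw1 : ⁅x, e⁆ ≠ 1 := fun h => hxe (commutatorElement_eq_one_iff_mul_comm.1 h)
    intro w hw
    obtain ⟨j, rfl⟩ := mem_zpowers_iff.1 ((eq_zpowers_of_card hF.card_center hw0 hw1).ge hw)
    rw [map_zpow]
    congr 1
    have hx' : τ x * x ∈ Z := by rw [hτt x hx]; exact htinv x hx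
    have he' : τ e * e ∈ Z := by rw [hτt e (hDX he)]; exact htinv e (hDX he)
    rw [map_commutatorElement,
      show τ x = x⁻¹ * (x * (τ x * x) * x⁻¹) by group,
      show τ e = e⁻¹ * (e * (τ e * e) * e⁻¹) by group,
      mem_center_iff.1 hx' x, mul_inv_cancel_right, mem_center_iff.1 he' e, mul_inv_cancel_right,
      RankThree.comm_mul_central_left hx', RankThree.comm_mul_central_right he']
    have h2 : ∀ a : G, a ∈ secondCenter G → ∀ b : G, ⁅b⁻¹, a⁆ = ⁅b, a⁆⁻¹ := fun a ha b => by
      refine eq_inv_of_mul_eq_one_left ?_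
      rw [← RankThree.comm_mul_left_central (mem_secondCenter.1 ha b), inv_mul_cancel,
        commutatorElement_one_left]
    rw [h2 e⁻¹ (inv_mem he)]
    have h4 := RankThree.comm_mul_right_central (b := e⁻¹) hw0
    rw [inv_mul_cancel, commutatorElement_one_right] at h4
    rw [eq_inv_of_mul_eq_one_left h4.symm, inv_inv]
  have hye : y * e = e * y := by
    rw [← commutatorElement_eq_one_iff_mul_comm]
    have hw0 : ⁅y, e⁆ ∈ Z := mem_secondCenter.1 he y
    have h := hτz _ hw0
    set d := (y ^ m)⁻¹ * τ y with hd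
    have hτy : τ y = y ^ m * d := (mul_inv_cancel_left _ _).symm
    have hde : ∀ w ∈ D, ⁅d, w⁆ = 1 := fun w hw =>
      commutatorElement_eq_one_iff_mul_comm.2 (hDc d hm w hw)
    have hte : τ e ∈ D := ⟨H.autS_ess τ hτ E₁ H.left e (hDX he), H.autS_ess τ hτ E₂ H.right e
      (hDA he)⟩ |> (second_eq_inf hF H).ge
    rw [map_commutatorElement, hτy, commutatorElement_mul_left_eq_conj_mul, hde _ hte, mul_one,
      mul_inv_cancel, one_mul] at h
    have he' : τ e * e ∈ Z := by rw [hτt e (hDX he)]; exact htinv e (hDX he)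
    rw [RankThree.comm_pow_left (show Commute y ⁅y, τ e⁆ from
        mem_center_iff.1 (mem_secondCenter.1 hte y) y),
      show τ e = e⁻¹ * (τ e * e) by rw [mem_center_iff.1 he' e⁻¹, mul_inv_cancel_right],
      RankThree.comm_mul_central_right he'] at h
    have h3 : ⁅y, e⁻¹⁆ = ⁅y, e⁆⁻¹ := by
      have h4 := RankThree.comm_mul_right_central (b := e⁻¹) hw0
      rw [inv_mul_cancel, commutatorElement_one_right] at h4
      exact eq_inv_of_mul_eq_one_left h4.symm
    have hwp : ⁅y, e⁆ ^ p = 1 := by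
      have h4 := pow_card_eq_one' (x := (⟨_, hw0⟩ : Z))
      rw [hF.card_center] at h4
      exact congrArg Subtype.val h4
    rw [h3, Plane.pow_eq_pow_of_modEq (by rw [inv_pow, hwp, inv_one]) hmod, pow_one] at h
    refine eq_one_of_two_pow (p := p) S.odd (n := 1) (k := 1) ?_ (by rw [pow_one, hwp])
    rw [pow_one, sq]
    nth_rewrite 1 [← h]
    rw [inv_mul_cancel]
  intro u hu v hv
  have hcomm : ∀ a ∈ D, a * y = y * a := fun a ha => by
    obtain ⟨w, hw, j, rfl⟩ := (mem_sup_zpowers_of_commute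
      (fun a ha => (mem_center_iff.1 ha e).symm)).1 (hDe.ge ha)
    exact ((show Commute w y from (mem_center_iff.1 hw y).symm).mul_left
      ((show Commute y e from hye).symm.zpow_left j)).eq
  exact comm_sup_zpowers hDc hcomm u (hDy.ge hu) v (hDy.ge hv)

end Sys

end Cfsg.Lib.FusionSys.SecThree
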