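import Cfsg.Agent.Lib.FusionSys.SecThree.Elem
import Cfsg.Agent.Lib.FusionSys.SecThree.Inverter

/-!
# The data left by a fusion system all whose essential subgroups are normal
-/

set_option linter.style.haveILetI false
set_option autoImplicit false

namespace Cfsg.Lib.FusionSys.SecThree

open Subgroup
open scoped commutatorElement

/-- What is used of a saturated fusion system at normal essential subgroups of index `p`, over a
group of sectional rank at most three. -/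
structure Pre (p : ℕ) (G : Type*) [Group G] where
  /-- The essential subgroups. -/
  ess : Set (Subgroup G)
  /-- Their automorphism groups. -/
  aut : (E : Subgroup G) → Subgroup (MulAut E)
  /-- The automorphisms of the whole group. -/
  autS : Subgroup (MulAut G)
  odd : p ≠ 2
  isP : IsPGroup p G
  sec : Cfsg.SectionalPRankLE p 3 G
  nt : Nontrivial G
  normal : ∀ E ∈ ess, E.Normal
  index_eq : ∀ E ∈ ess, E.index = p
  cent : ∀ E ∈ ess, Subgroup.centralizer (E : Set G) ≤ E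
  conj_mem : ∀ E ∈ ess, inner E ⊤ ≤ aut E
  sylow : ∀ E ∈ ess, ∀ P : Subgroup (MulAut E), P ≤ aut E → IsPGroup p P → inner E ⊤ ≤ P →
    P ≤ inner E ⊤
  radical : ∀ E ∈ ess, ∀ N : Subgroup (MulAut E), N ≤ aut E →
    (∀ a ∈ aut E, ∀ n ∈ N, a * n * a⁻¹ ∈ N) → IsPGroup p N → N ≤ inner E E
  extend : ∀ E ∈ ess, ∀ a ∈ aut E,
    (∀ g : G, ∃ h : G, ∀ x ∈ E, ap a (g * x * g⁻¹) = h * ap a x * h⁻¹) →
    ∃ φ ∈ autS, ∀ x ∈ E, φ x = ap a x
  autS_conj : ∀ g : G, MulAut.conj g ∈ autS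
  autS_inner : ∀ φ ∈ autS, (∃ k : ℕ, φ ^ p ^ k = 1) → ∃ g : G, φ = MulAut.conj g
  transport : ∀ φ ∈ autS, ∀ E ∈ ess, E.map φ.toMonoidHom ∈ ess ∧
    ∀ a ∈ aut E, ∃ a' ∈ aut (E.map φ.toMonoidHom), ∀ x ∈ E, ap a' (φ x) = φ (ap a x)

/-- The same for all essential subgroups, when the core is trivial. -/
structure Sys (p : ℕ) (G : Type*) [Group G] extends Pre p G where
  core : ∀ Q : Subgroup G, (∀ E ∈ ess, Q ≤ E ∧ ∀ a ∈ aut E, ∀ x ∈ Q, ap a x ∈ Q) →
    (∀ φ ∈ autS, ∀ x ∈ Q, φ x ∈ Q) → Q = ⊥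

variable {G : Type*} [Group G]

/-- The elements of order dividing `p` of the centre. -/
def omegaZ (p : ℕ) (G : Type*) [Group G] : Subgroup G where
  carrier := {x | x ∈ center G ∧ x ^ p = 1}
  one_mem' := ⟨one_mem _, one_pow p⟩
  mul_mem' := fun {x y} hx hy => ⟨mul_mem hx.1 hy.1, by
    rw [(show Commute x y from mem_center_iff.1 hy.1 x).mul_pow, hx.2, hy.2, one_mul]⟩
  inv_mem' := fun {x} hx => ⟨inv_mem hx.1, by rw [inv_pow, hx.2, inv_one]⟩

/-- The elements of order dividing `p` of the centre of a subgroup. -/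
def omegaC (p : ℕ) (E : Subgroup G) : Subgroup G where
  carrier := {x | x ∈ E ∧ (∀ e ∈ E, e * x = x * e) ∧ x ^ p = 1}
  one_mem' := ⟨E.one_mem, fun e _ => by rw [mul_one, one_mul], one_pow p⟩
  mul_mem' := fun {x y} hx hy => ⟨E.mul_mem hx.1 hy.1,
    fun e he => ((show Commute e x from hx.2.1 e he).mul_right (hy.2.1 e he)).eq, by
    rw [(show Commute x y from hy.2.1 x hx.1).mul_pow, hx.2.2, hy.2.2, one_mul]⟩
  inv_mem' := fun {x} hx => ⟨E.inv_mem hx.1,
    fun e he => (show Commute e x from hx.2.1 e he).inv_right.eq, by rw [inv_pow, hx.2.2, inv_one]⟩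

theorem ea_omegaZ (p : ℕ) : EA p (omegaZ p G) :=
  ⟨fun _ ha b _ => (mem_center_iff.1 ha.1 b).symm, fun _ ha => ha.2⟩

theorem ea_omegaC {p : ℕ} (E : Subgroup G) : EA p (omegaC p E) :=
  ⟨fun a ha _ hb => hb.2.1 a ha.1, fun _ ha => ha.2.2⟩

theorem omegaC_le {p : ℕ} (E : Subgroup G) : omegaC p E ≤ E := fun _ h => h.1

theorem eq_one_of_two_pow {H : Type*} [Group H] {p : ℕ} [hp : Fact p.Prime] (hp2 : p ≠ 2) {x : H}
    {n k : ℕ} (h2 : x ^ 2 ^ n = 1) (hk : x ^ p ^ k = 1) : x = 1 := by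
  have h := pow_gcd_eq_one.2 ⟨h2, hk⟩
  rwa [Nat.Coprime.pow, pow_one] at h
  exact (Nat.coprime_primes Nat.prime_two hp.out).2 (Ne.symm hp2)

/-- Restriction to an invariant subgroup. -/
noncomputable def res {E : Subgroup G} [Finite G] (W : Subgroup G) (hW : W ≤ E) (M : Subgroup (MulAut E))
    (hM : ∀ a ∈ M, ∀ x ∈ W, ap a x ∈ W) : M →* MulAut W :=
  { toFun := fun a =>
      { toFun := fun x => ⟨ap (a : MulAut E) x, hM _ a.2 x x.2⟩
        invFun := fun x => ⟨ap (a : MulAut E)⁻¹ x, hM _ (M.inv_mem a.2) x x.2⟩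
        left_inv := fun x => Subtype.ext (ap_inv_ap _ (hW x.2))
        right_inv := fun x => Subtype.ext (ap_ap_inv _ (hW x.2))
        map_mul' := fun x y => Subtype.ext (ap_map_mul _ (hW x.2) (hW y.2)) }
    map_one' := MulEquiv.ext fun x => Subtype.ext (ap_one_apply _)
    map_mul' := fun a b => MulEquiv.ext fun x => Subtype.ext (ap_mul_apply _ _ (hW x.2)) }

variable [Finite G] {p : ℕ} [hp : Fact p.Prime]

theorem finite_mulAut (E : Subgroup G) : Finite (MulAut E) :=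
  Finite.of_injective (fun a : MulAut E => (a : E → E)) DFunLike.coe_injective

theorem exists_pow_card (hG : IsPGroup p G) : ∃ N : ℕ, ∀ x : G, x ^ p ^ N = 1 := by
  obtain ⟨N, hN⟩ := IsPGroup.iff_card.mp hG
  exact ⟨N, fun x => by rw [← hN, pow_card_eq_one']⟩

/-- An automorphism inverting a plane section, normalising a Sylow subgroup. -/
theorem exists_inverter (hG : IsPGroup p G) (hp2 : p ≠ 2) {E : Subgroup G}
    (K P : Subgroup (MulAut E)) (hP : IsPGroup p P) (hPK : P ≤ K)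
    (hmax : ∀ P' : Subgroup (MulAut E), P' ≤ K → IsPGroup p P' → P ≤ P' → P' = P)
    {W U : Subgroup G} [U.Normal] (hUW : U ≤ W) (hWE : W ≤ E)
    (hc : Nat.card W = p ^ 2 * Nat.card U) (hpow : ∀ x ∈ W, x ^ p ∈ U)
    (hKW : ∀ a ∈ K, ∀ x ∈ W, ap a x ∈ W) (hKU : ∀ a ∈ K, ∀ x ∈ U, ap a x ∈ U)
    {u : MulAut E} (hu : u ∈ P) (hu1 : ∃ x ∈ W, ap u x * x⁻¹ ∉ U) {e : G} (he : e ∈ W) (heU : e ∉ U)
    (hue : ap u e * e⁻¹ ∈ U) {l : MulAut E} (hl : l ∈ K) (hle : ap l e ∉ U ⊔ zpowers e) :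
    ∃ t ∈ K, (∀ x ∈ P, t * x * t⁻¹ ∈ P) ∧ (∃ n : ℕ, t ^ 2 ^ n = 1) ∧
      ∀ x ∈ W, ap t x * x ∈ U := by
  haveI := finite_mulAut E
  haveI : (U.subgroupOf W).Normal := ‹U.Normal›.subgroupOf W
  set π₁ := res W hWE K hKW
  have hmap : ∀ a : K, (U.subgroupOf W).map (π₁ a).toMonoidHom = U.subgroupOf W := by
    intro a
    refine eq_of_le_of_card_ge ?_ (le_of_eq ?_)
    · rintro _ ⟨x, hx, rfl⟩
      exact hKU _ a.2 x hx
    · exact Nat.card_congr (equivMapOfInjective _ _ (π₁ a).injective).toEquiv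
  let π : K →* MulAut (W ⧸ U.subgroupOf W) :=
    { toFun := fun a => QuotientGroup.congr _ _ (π₁ a) (hmap a)
      map_one' := MulEquiv.ext fun q => QuotientGroup.induction_on q fun x => by
        show ((π₁ 1 x : W) : W ⧸ U.subgroupOf W) = x
        rw [map_one, MulAut.one_apply]
      map_mul' := fun a b => MulEquiv.ext fun q => QuotientGroup.induction_on q fun x => by
        show ((π₁ (a * b) x : W) : W ⧸ U.subgroupOf W) = ((π₁ a (π₁ b x) : W) : W ⧸ U.subgroupOf W)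
        rw [map_mul, MulAut.mul_apply] }
  have hπ : ∀ (a : K) (x y : W), π a x = (y : W ⧸ U.subgroupOf W) ↔
      (ap (a : MulAut E) x)⁻¹ * y ∈ U := fun a x y => by
    show ((π₁ a x : W) : W ⧸ U.subgroupOf W) = y ↔ _
    rw [QuotientGroup.eq, mem_subgroupOf]
    rfl
  have hswap : ∀ a b : G, a * b⁻¹ ∈ U ↔ a⁻¹ * b ∈ U := fun a b => by
    rw [← inv_mem_iff (x := a⁻¹ * b), mul_inv_rev, inv_inv]
    exact ‹U.Normal›.mem_comm_iff
  have hQc : Nat.card (W ⧸ U.subgroupOf W) = p ^ 2 := by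
    have h := Subgroup.card_eq_card_quotient_mul_card_subgroup (U.subgroupOf W)
    rw [hc, Nat.card_congr (subgroupOfEquivOfLe hUW).toEquiv] at h
    exact (Nat.eq_of_mul_eq_mul_right Nat.card_pos h).symm
  have hexp : ∀ v : W ⧸ U.subgroupOf W, v ^ p = 1 := fun v => QuotientGroup.induction_on v fun x => by
    rw [← QuotientGroup.mk_pow, QuotientGroup.eq_one_iff, mem_subgroupOf]
    exact hpow x x.2
  let eq : W ⧸ U.subgroupOf W := ((⟨e, he⟩ : W) : W ⧸ U.subgroupOf W)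
  obtain ⟨t, htP, ⟨n, hn⟩, htinv⟩ := exists_inverting hQc hexp hp2 π (P.subgroupOf K)
    hP.comap_subtype (fun P' hP' hle' => by
      have h1 : P'.map K.subtype = P := hmax _ (map_subtype_le _) (hP'.map _) fun x hx =>
        ⟨⟨x, hPK hx⟩, hle' hx, rfl⟩
      rw [← h1, subgroupOf, comap_map_eq_self_of_injective K.subtype_injective])
    (u := ⟨u, hPK hu⟩) hu (fun h => by
      obtain ⟨x, hx, hxU⟩ := hu1
      have h2 : π ⟨u, hPK hu⟩ ((⟨x, hx⟩ : W) : W ⧸ U.subgroupOf W) = ((⟨x, hx⟩ : W) : _) := by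
        rw [h, MulAut.one_apply]
      exact hxU ((hswap _ _).2 ((hπ _ _ _).1 h2)))
    (e := eq) (fun h => heU (by
      have h2 := (QuotientGroup.eq_one_iff (⟨e, he⟩ : W)).1 h
      exact h2)) ((hπ _ _ _).2 ((hswap _ _).1 hue))
    (l := ⟨l, hl⟩) (fun h => hle (by
      obtain ⟨j, hj⟩ := mem_zpowers_iff.1 h
      have h2 : (ap l e)⁻¹ * e ^ j ∈ U := by
        have h3 := (hπ ⟨l, hl⟩ ⟨e, he⟩ (⟨e, he⟩ ^ j)).1 (by rw [← hj]; rfl)
        simpa using h3
      have h4 : e ^ j * ((ap l e)⁻¹ * e ^ j)⁻¹ = ap l e := by group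
      rw [← h4]
      exact mul_mem (mem_sup_right (zpow_mem (mem_zpowers e) j))
        (inv_mem (mem_sup_left (T := zpowers e) h2))))
  refine ⟨t, t.2, fun x hx => ?_, ⟨n, ?_⟩, fun x hx => ?_⟩
  · exact htP ⟨x, hPK hx⟩ hx
  · simpa using congrArg Subtype.val hn
  · have h := (hπ t ⟨x, hx⟩ (⟨x, hx⟩ : W)⁻¹).1 (by
      rw [QuotientGroup.mk_inv]; exact htinv _)
    have h2 := (hswap _ _).2 h
    simpa using h2

/-- Automorphisms stabilising a chain of three steps form a `p`-group. -/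
theorem isPGroup_chain (hG : IsPGroup p G) {E L₀ L₁ : Subgroup G} (h1 : L₁ ≤ E)
    {M : Subgroup (MulAut E)}
    (hM : M ≤ fixer E L₀ ⊓ moves E L₁ L₀ h1 ⊓ moves E E L₁ le_rfl) : IsPGroup p M := by
  obtain ⟨N, hN⟩ := exists_pow_card (p := p) hG
  rintro ⟨a, ha⟩
  obtain ⟨⟨hf, -, h2⟩, h3, h4⟩ := hM ha
  refine ⟨N + N, Subtype.ext (ap_ext _ _ fun x hx => ?_)⟩
  rw [SubmonoidClass.coe_pow, OneMemClass.coe_one, ap_one_apply, pow_add, pow_mul]
  have hfix : ∀ y ∈ L₁, y ∈ E → ap (a ^ p ^ N) y = y := fun y hy _ =>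
    fix_step h1 hf h2 _ (fun z _ => hN z) y hy
  exact fix_step le_rfl hfix (stab_pow le_rfl h3 h4 _) _ (fun z _ => hN z) x hx

omit [Finite G] in
theorem mem_of_sq_mem (hG : IsPGroup p G) (hp2 : p ≠ 2) {H : Subgroup G} {x : G} (h : x ^ 2 ∈ H) :
    x ∈ H := by
  obtain ⟨k, hk⟩ := hG x
  exact Plane.mem_of_pow_mem hk (fun h2 => hp2 ((Nat.prime_dvd_prime_iff_eq hp.out Nat.prime_two).1
    h2)) h

/-- An involutory automorphism splits each element into a fixed and an inverted part. -/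
theorem exists_fixed_inverted (hG : IsPGroup p G) (hp2 : p ≠ 2) {E : Subgroup G} {t : MulAut E}
    (ht : ∀ x ∈ E, ap t (ap t x) = x) {e : G} (he : e ∈ E) :
    ∃ c ∈ E, ∃ f ∈ E, e = c * f ∧ ap t c = c ∧ ap t f = f⁻¹ ∧
      f ∈ zpowers ((ap t e)⁻¹ * e) ∧ f ^ 2 = (ap t e)⁻¹ * e := by
  obtain ⟨N, hN⟩ := exists_pow_card (p := p) hG
  obtain ⟨k, hk⟩ := (hp.out.odd_of_ne_two hp2).pow (n := N)
  set m := (ap t e)⁻¹ * e with hm
  have hte := ap_mem t he
  have hmE : m ∈ E := E.mul_mem (E.inv_mem hte) he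
  have htm : ap t m = m⁻¹ := by
    rw [hm, ap_map_mul t (E.inv_mem hte) he, ap_map_inv t hte, ht e he, mul_inv_rev, inv_inv]
  have hf2 : (m ^ (k + 1)) ^ 2 = m := by
    rw [← pow_mul, show (k + 1) * 2 = p ^ N + 1 by omega, pow_succ, hN, one_mul]
  have hfE : m ^ (k + 1) ∈ E := E.pow_mem hmE _
  have htf : ap t (m ^ (k + 1)) = (m ^ (k + 1))⁻¹ := by rw [ap_map_pow t hmE, htm, inv_pow]
  refine ⟨e * (m ^ (k + 1))⁻¹, E.mul_mem he (E.inv_mem hfE), _, hfE,
    (inv_mul_cancel_right e _).symm, ?_, htf, pow_mem (mem_zpowers m) _, hf2⟩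
  rw [ap_map_mul t he (E.inv_mem hfE), ap_map_inv t hfE, htf, inv_inv]
  rw [eq_mul_inv_iff_mul_eq, mul_assoc, ← sq, hf2, hm, mul_inv_cancel_left]

namespace Pre

variable (S : Pre p G) {E : Subgroup G}

include S in
theorem omegaZ_ne_bot : omegaZ p G ≠ ⊥ := by
  haveI := S.nt
  obtain ⟨z, -, hzc, hz⟩ := Cfsg.Lib.PGroup.exists_mem_center_orderOf_eq S.isP
    (N := (⊤ : Subgroup G)) top_ne_bot
  intro h
  have h1 : z ∈ omegaZ p G := ⟨hzc, hz ▸ pow_orderOf_eq_one z⟩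
  rw [h, mem_bot] at h1
  rw [h1, orderOf_one] at hz
  exact hp.out.ne_one hz.symm

include S in
theorem prime_le_card_omegaZ : p ≤ Nat.card (omegaZ p G) := by
  have h := RankThree.card_mul_le_of_lt S.isP (bot_lt_iff_ne_bot.2 S.omegaZ_ne_bot)
  rwa [card_bot, mul_one] at h

section Ess

variable (hE : E ∈ S.ess)
include hE

theorem center_le : center G ≤ E := fun _ hx =>
  S.cent E hE fun e _ => mem_center_iff.1 hx e

theorem omegaZ_le : omegaZ p G ≤ omegaC p E := fun _ hx =>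
  ⟨S.center_le hE hx.1, fun e _ => mem_center_iff.1 hx.1 e, hx.2⟩

theorem omegaC_normal : (omegaC p E).Normal := by
  refine ⟨fun x hx g => ?_⟩
  haveI := S.normal E hE
  refine ⟨(S.normal E hE).conj_mem x hx.1 g, fun e he => ?_, by rw [conj_pow, hx.2.2, mul_one,
    mul_inv_cancel]⟩
  have h1 : Commute (g⁻¹ * e * g) x := hx.2.1 _ ((S.normal E hE).conj_mem' e he g)
  have h2 := h1.map (MulAut.conj g).toMonoidHom
  simp only [MulEquiv.coe_toMonoidHom, MulAut.conj_apply] at h2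
  rw [show g * (g⁻¹ * e * g) * g⁻¹ = e by group] at h2
  exact h2

theorem ap_omegaC (a : MulAut E) {x : G} (hx : x ∈ omegaC p E) : ap a x ∈ omegaC p E := by
  refine ⟨ap_mem a hx.1, fun e he => ?_, by rw [← ap_map_pow a hx.1, hx.2.2, ap_map_one]⟩
  rw [← ap_ap_inv a he, ← ap_map_mul a (ap_mem _ he) hx.1, hx.2.1 _ (ap_mem _ he),
    ap_map_mul a hx.1 (ap_mem _ he)]

theorem exists_conj (g : G) : ∃ a ∈ S.aut E, a ∈ inner E ⊤ ∧ ∀ x ∈ E, ap a x = g * x * g⁻¹ := by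
  haveI := S.normal E hE
  have h : ∀ x ∈ E, ap (MulAut.conjNormal g : MulAut E) x = g * x * g⁻¹ := fun x hx => by
    rw [ap_of_mem _ hx]; exact MulAut.conjNormal_apply g ⟨x, hx⟩
  exact ⟨_, S.conj_mem E hE ⟨g, mem_top g, h⟩, ⟨g, mem_top g, h⟩, h⟩

theorem conj_eq_of_mem {g : G} {a : MulAut E} (h : a ∈ inner E E)
    (hg : ∀ x ∈ E, ap a x = g * x * g⁻¹) : g ∈ E := by
  obtain ⟨e, he, hea⟩ := h
  have h1 : e⁻¹ * g ∈ E := by
    refine S.cent E hE fun x hx => ?_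
    have h2 := (hg x hx).symm.trans (hea x hx)
    calc x * (e⁻¹ * g) = e⁻¹ * (e * x * e⁻¹) * g := by group
      _ = e⁻¹ * (g * x * g⁻¹) * g := by rw [h2]
      _ = e⁻¹ * g * x := by group
  simpa using E.mul_mem he h1

theorem sup_eq_top {g : G} (hg : g ∉ E) : E ⊔ zpowers g = ⊤ :=
  RankThree.sup_zpowers_eq_top_of_index (S.index_eq E hE) hg

theorem exists_decomp {g : G} (hg : g ∉ E) (h : G) : ∃ e ∈ E, ∃ i : ℕ, h = g ^ i * e := by
  haveI := S.normal E hE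
  obtain ⟨i, hi⟩ := RankThree.exists_pow_of_mem_sup E ((S.sup_eq_top hE hg) ▸ mem_top h)
  exact ⟨_, hi, i, (mul_inv_cancel_left _ _).symm⟩

theorem isPGroup_inner : IsPGroup p (inner E ⊤) := by
  obtain ⟨N, hN⟩ := exists_pow_card S.isP
  rintro ⟨a, g, -, hga⟩
  refine ⟨N, Subtype.ext (ap_ext _ _ fun x hx => ?_)⟩
  have key : ∀ n : ℕ, ap (a ^ n) x = g ^ n * x * (g ^ n)⁻¹ := by
    intro n
    induction n with
    | zero => rw [pow_zero, ap_one_apply, pow_zero]; group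
    | succ n ih =>
      rw [pow_succ' a, ap_mul_apply _ _ hx, hga _ (ap_mem _ hx), ih, pow_succ' g]
      group
  rw [SubmonoidClass.coe_pow, OneMemClass.coe_one, key, hN, ap_one_apply]
  group

theorem inner_normalized (a : MulAut E) : ∀ n ∈ inner E E, a * n * a⁻¹ ∈ inner E E := by
  rintro n ⟨e, he, hen⟩
  refine ⟨ap a e, ap_mem a he, fun x hx => ?_⟩
  rw [ap_mul_apply _ _ hx, ap_mul_apply _ _ (ap_mem _ hx), hen _ (ap_mem _ hx),
    ap_map_mul a (E.mul_mem he (ap_mem _ hx)) (E.inv_mem he), ap_map_mul a he (ap_mem _ hx),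
    ap_map_inv a he, ap_ap_inv a hx]

theorem inner_le_sup {g : G} (hg : g ∉ E) {α : MulAut E} (hα : ∀ x ∈ E, ap α x = g * x * g⁻¹)
    {P : Subgroup (MulAut E)} (hαP : α ∈ P) : inner E ⊤ ≤ P ⊔ inner E E := by
  rintro b ⟨h, -, hb⟩
  obtain ⟨e, he, i, rfl⟩ := S.exists_decomp hE hg h
  obtain ⟨c, -, -, hc⟩ := S.exists_conj hE e
  have hb' : b = α ^ i * c := ap_ext _ _ fun x hx => by
    have key : ∀ (n : ℕ), ∀ y ∈ E, ap (α ^ n) y = g ^ n * y * (g ^ n)⁻¹ := by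
      intro n
      induction n with
      | zero => intro y _; rw [pow_zero, ap_one_apply, pow_zero]; group
      | succ n ih =>
        intro y hy
        rw [pow_succ' α, ap_mul_apply _ _ hy, hα _ (ap_mem _ hy), ih y hy, pow_succ' g]
        group
    rw [hb x hx, ap_mul_apply _ _ hx, key i _ (ap_mem c hx), hc x hx]
    group
  rw [hb']
  exact mul_mem_sup (pow_mem hαP i) ⟨e, he, hc⟩

/-- A `p`-group of automorphisms containing an outer conjugation consists of conjugations. -/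
theorem le_inner_of_mem {g : G} (hg : g ∉ E) {α : MulAut E}
    (hα : ∀ x ∈ E, ap α x = g * x * g⁻¹) {P : Subgroup (MulAut E)} (hPA : P ≤ S.aut E)
    (hPp : IsPGroup p P) (hαP : α ∈ P) : P ≤ inner E ⊤ := by
  haveI := finite_mulAut E
  have hn : P ≤ normalizer (inner E E : Set (MulAut E)) := fun a _ =>
    mem_normalizer_fintype fun n hn => S.inner_normalized hE a n hn
  have hI : inner E E ≤ inner E ⊤ := inner_mono le_top
  exact le_sup_left.trans (S.sylow E hE (P ⊔ inner E E)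
    (sup_le hPA (hI.trans (S.conj_mem E hE)))
    (IsPGroup.to_sup_of_normal_right' hPp ((S.isPGroup_inner hE).to_le hI) hn)
    (S.inner_le_sup hE hg hα hαP))

/-- An automorphism sending one outer conjugation to a conjugation extends. -/
theorem extend_of_conj {t : MulAut E} (ht : t ∈ S.aut E) {g : G} (hg : g ∉ E) {α : MulAut E}
    (hα : ∀ x ∈ E, ap α x = g * x * g⁻¹) (htα : t * α * t⁻¹ ∈ inner E ⊤) :
    ∃ φ ∈ S.autS, ∀ x ∈ E, φ x = ap t x := by
  refine S.extend E hE t ht fun h => ?_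
  obtain ⟨b, -, hbI, hb⟩ := S.exists_conj hE h
  have hle : inner E ⊤ ≤ zpowers α ⊔ inner E E := S.inner_le_sup hE hg hα (mem_zpowers α)
  have h2 : zpowers α ⊔ inner E E ≤ (inner E ⊤).comap (MulAut.conj t).toMonoidHom :=
    sup_le (zpowers_le.2 htα) fun n hn => inner_mono le_top (S.inner_normalized hE t n hn)
  obtain ⟨k, -, hk⟩ := h2 (hle hbI)
  refine ⟨k, fun x hx => ?_⟩
  rw [← hk _ (ap_mem t hx)]
  show ap t (h * x * h⁻¹) = ap (t * b * t⁻¹) (ap t x)
  rw [ap_mul_apply _ _ (ap_mem t hx), ap_inv_ap t hx, ap_mul_apply _ _ hx, hb x hx]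

/-- In a normal subgroup containing the conjugations, every automorphism is a global one times an
element of that subgroup. -/
theorem frattini_argument_at (K : Subgroup (MulAut E)) (hK : K ≤ S.aut E) {a : MulAut E}
    (ha : a ∈ S.aut E) (hKn : ∀ k ∈ K, a * k * a⁻¹ ∈ K) (hRK : inner E ⊤ ≤ K) :
    ∃ k ∈ K, ∃ φ ∈ S.autS, ∀ x ∈ E, φ x = ap (k * a) x := by
  haveI := finite_mulAut E
  have hp' : IsPGroup p ((inner E ⊤).map (MulAut.conj a).toMonoidHom) := (S.isPGroup_inner hE).map _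
  have hle : (inner E ⊤).map (MulAut.conj a).toMonoidHom ≤ K := by
    rintro _ ⟨n, hn, rfl⟩
    exact hKn n (hRK hn)
  let S₁ : Sylow p K :=
    { toSubgroup := (inner E ⊤).subgroupOf K
      isPGroup' := (S.isPGroup_inner hE).comap_subtype
      is_maximal' := fun {Q} hQ hQle => by
        have h1 : Q.map K.subtype = inner E ⊤ := by
          refine le_antisymm (S.sylow E hE _ ((map_subtype_le Q).trans hK) (hQ.map _) ?_) ?_
          all_goals exact fun x hx => ⟨⟨x, hRK hx⟩, hQle hx, rfl⟩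
        rw [← h1, subgroupOf, comap_map_eq_self_of_injective K.subtype_injective] }
  obtain ⟨S₂, hS₂⟩ := (show IsPGroup p (((inner E ⊤).map (MulAut.conj a).toMonoidHom).subgroupOf K)
    from hp'.comap_subtype).exists_le_sylow
  obtain ⟨k, hk⟩ := MulAction.exists_smul_eq K S₂ S₁
  refine ⟨k, k.2, S.extend E hE _ (mul_mem (hK k.2) ha) fun h => ?_⟩
  obtain ⟨b, -, hbI, hb⟩ := S.exists_conj hE h
  have h1 : (⟨a * b * a⁻¹, hle ⟨b, hbI, rfl⟩⟩ : K) ∈ (S₂ : Subgroup K) := hS₂ ⟨b, hbI, rfl⟩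
  have h2 : k * ⟨a * b * a⁻¹, hle ⟨b, hbI, rfl⟩⟩ * k⁻¹ ∈ (S₁ : Subgroup K) := by
    rw [← hk, Sylow.coe_subgroup_smul]
    exact Subgroup.smul_mem_pointwise_smul _ (MulAut.conj k) _ h1
  have h3 : (k : MulAut E) * a * b * ((k : MulAut E) * a)⁻¹ ∈ inner E ⊤ := by
    simpa [S₁, mem_subgroupOf, mul_assoc] using h2
  obtain ⟨h', -, hh'⟩ := h3
  refine ⟨h', fun x hx => ?_⟩
  rw [← hh' _ (ap_mem _ hx)]
  rw [ap_mul_apply _ _ (ap_mem _ hx), ap_inv_ap _ hx, ap_mul_apply _ _ hx, hb x hx]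

theorem frattini_argument (K : Subgroup (MulAut E)) (hK : K ≤ S.aut E)
    (hKn : ∀ a ∈ S.aut E, ∀ k ∈ K, a * k * a⁻¹ ∈ K) (hRK : inner E ⊤ ≤ K) {a : MulAut E}
    (ha : a ∈ S.aut E) : ∃ k ∈ K, ∃ φ ∈ S.autS, ∀ x ∈ E, φ x = ap (k * a) x :=
  S.frattini_argument_at hE K hK ha (fun k hk => hKn a ha k hk) hRK

/-- If a group of automorphisms containing the conjugations acts on `V` as a `p`-group, it acts
through conjugations. -/
theorem exists_conj_of_isPGroup (M : Subgroup (MulAut E)) (hM : M ≤ S.aut E)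
    (hRM : inner E ⊤ ≤ M) {V : Subgroup G} (hV : V ≤ E) (hMV : ∀ a ∈ M, ∀ x ∈ V, ap a x ∈ V)
    (hpM : ∀ a ∈ M, ∃ n : ℕ, ∀ x ∈ V, ap (a ^ p ^ n) x = x) {m : MulAut E} (hm : m ∈ M) :
    ∃ g : G, ∀ x ∈ V, ap m x = g * x * g⁻¹ := by
  haveI := finite_mulAut E
  set π := (res V hV M hMV).rangeRestrict
  let S₁ : Sylow p M :=
    { toSubgroup := (inner E ⊤).subgroupOf M
      isPGroup' := (S.isPGroup_inner hE).comap_subtype
      is_maximal' := fun {Q} hQ hQle => by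
        have h1 : Q.map M.subtype = inner E ⊤ := by
          refine le_antisymm (S.sylow E hE _ ((map_subtype_le Q).trans hM) (hQ.map _) ?_) ?_
          all_goals exact fun x hx => ⟨⟨x, hRM hx⟩, hQle hx, rfl⟩
        rw [← h1, subgroupOf, comap_map_eq_self_of_injective M.subtype_injective] }
  have hp' : IsPGroup p ↥(res V hV M hMV).range := by
    rintro ⟨_, a, rfl⟩
    obtain ⟨n, hn⟩ := hpM a a.2
    refine ⟨n, Subtype.ext ?_⟩
    rw [SubmonoidClass.coe_pow, OneMemClass.coe_one, ← map_pow]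
    exact MulEquiv.ext fun x => Subtype.ext (hn x x.2)
  let S₂ := S₁.mapSurjective (f := π) (MonoidHom.rangeRestrict_surjective _)
  have htop : (S₂ : Subgroup ↥(res V hV M hMV).range) = ⊤ :=
    (S₂.is_maximal' (hp'.to_subgroup ⊤) le_top).symm
  have h1 : π ⟨m, hm⟩ ∈ (S₂ : Subgroup ↥(res V hV M hMV).range) := by rw [htop]; exact mem_top _
  obtain ⟨r, ⟨g, -, hg⟩, hr⟩ := h1
  refine ⟨g, fun x hx => ?_⟩
  have h2 := congrArg (fun b : ↥(res V hV M hMV).range => (((b : MulAut V) ⟨x, hx⟩ : V) : G)) hr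
  exact h2.symm.trans (hg x (hV hx))

theorem card_eq : Nat.card G = p * Nat.card E := by
  rw [← E.index_mul_card, S.index_eq E hE]

end Ess

end Pre

namespace Sys

variable (S : Sys p G) {E : Subgroup G}

/-- An essential subgroup in which `Ω₁(Z(G))` is not invariant. -/
def TypeA (E : Subgroup G) : Prop :=
  E ∈ S.ess ∧ ∃ a ∈ S.aut E, ∃ z ∈ omegaZ p G, ap a z ∉ omegaZ p G

theorem omegaZ_map (φ : MulAut G) {z : G} (hz : z ∈ omegaZ p G) : φ z ∈ omegaZ p G :=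
  ⟨mem_center_iff.2 fun g => φ.symm.injective (by
      rw [map_mul, map_mul, φ.symm_apply_apply]; exact mem_center_iff.1 hz.1 _),
    by rw [← map_pow, hz.2, map_one]⟩

theorem omegaZ_normal : (omegaZ p G).Normal :=
  ⟨fun z hz g => by rw [mem_center_iff.1 hz.1 g, mul_inv_cancel_right]; exact hz⟩

section TypeA

variable {S} (hA : S.TypeA E)
include hA

theorem TypeA.mem : E ∈ S.ess := hA.1

theorem TypeA.omegaZ_lt : omegaZ p G < omegaC p E := by
  refine lt_of_le_of_ne (S.omegaZ_le hA.1) fun h => ?_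
  obtain ⟨a, -, z, hz, hza⟩ := hA.2
  exact hza (h.symm.le (S.ap_omegaC hA.1 a (h.le hz)))

theorem TypeA.exists_not_central : ∃ v ∈ omegaC p E, v ∉ center G := by
  obtain ⟨v, hv, hvZ⟩ := SetLike.exists_of_lt hA.omegaZ_lt
  exact ⟨v, hv, fun h => hvZ ⟨h, hv.2.2⟩⟩

theorem TypeA.mem_of_commute {g : G} (h : ∀ v ∈ omegaC p E, g * v = v * g) : g ∈ E := by
  by_contra hg
  obtain ⟨v, hv, hvc⟩ := hA.exists_not_central
  refine hvc (mem_center_iff.2 fun x => ?_)
  obtain ⟨e, he, i, rfl⟩ := S.exists_decomp hA.1 hg x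
  exact ((show Commute g v from h v hv).pow_left i |>.mul_left (hv.2.1 e he)).eq

theorem TypeA.mem_omegaZ {g : G} (hg : g ∉ E) {v : G} (hv : v ∈ omegaC p E)
    (h : g * v = v * g) : v ∈ omegaZ p G := by
  refine ⟨mem_center_iff.2 fun x => ?_, hv.2.2⟩
  obtain ⟨e, he, i, rfl⟩ := S.exists_decomp hA.1 hg x
  exact ((show Commute g v from h).pow_left i |>.mul_left (hv.2.1 e he)).eq

theorem TypeA.sq_le_card : p ^ 2 ≤ Nat.card (omegaC p E) := by
  have h1 := RankThree.card_mul_le_of_lt S.isP hA.omegaZ_lt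
  have h2 := Nat.mul_le_mul_left p S.prime_le_card_omegaZ
  rw [sq]
  omega

theorem TypeA.card_cases : Nat.card (omegaC p E) = p ^ 2 ∨ Nat.card (omegaC p E) = p ^ 3 := by
  obtain ⟨n, hn⟩ := IsPGroup.iff_card.mp (S.isP.to_subgroup (omegaC p E))
  have h1 := hA.sq_le_card
  have h2 := (ea_omegaC (p := p) E).card_le S.sec
  rw [hn] at h1 h2
  have h3 := (Nat.pow_le_pow_iff_right hp.out.one_lt).1 h1
  have h4 := (Nat.pow_le_pow_iff_right hp.out.one_lt).1 h2
  rcases (show n = 2 ∨ n = 3 by omega) with rfl | rfl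
  exacts [Or.inl hn, Or.inr hn]

end TypeA

/-- Some essential subgroup has type A. -/
theorem exists_typeA : ∃ E, S.TypeA E := by
  by_contra h
  push Not at h
  refine S.omegaZ_ne_bot (S.core _ (fun E hE => ⟨fun x hx => S.center_le hE hx.1,
    fun a ha z hz => ?_⟩) fun φ _ z hz => omegaZ_map φ hz)
  by_contra hza
  exact h E ⟨hE, a, ha, z, hz, hza⟩

theorem TypeA.map {E : Subgroup G} {S : Sys p G} (hA : S.TypeA E) {φ : MulAut G}
    (hφ : φ ∈ S.autS) : S.TypeA (E.map φ.toMonoidHom) := by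
  obtain ⟨hE, a, ha, z, hz, hza⟩ := hA
  obtain ⟨h1, h2⟩ := S.transport φ hφ E hE
  obtain ⟨a', ha', h3⟩ := h2 a ha
  refine ⟨h1, a', ha', φ z, omegaZ_map φ hz, fun h => hza ?_⟩
  rw [h3 z (S.center_le hE hz.1)] at h
  simpa using omegaZ_map φ.symm h

theorem omegaC_map (E : Subgroup G) (φ : MulAut G) :
    omegaC p (E.map φ.toMonoidHom) = (omegaC p E).map φ.toMonoidHom := by
  ext y
  constructor
  · rintro ⟨⟨x, hx, rfl⟩, h1, h2⟩
    refine ⟨x, ⟨hx, fun e he => φ.injective ?_, φ.injective ?_⟩, rfl⟩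
    · simpa using h1 _ (mem_map_of_mem φ.toMonoidHom he)
    · simpa using h2
  · rintro ⟨x, ⟨hx, h1, h2⟩, rfl⟩
    refine ⟨mem_map_of_mem _ hx, ?_, by rw [← map_pow, h2, map_one]⟩
    rintro _ ⟨e, he, rfl⟩
    rw [← map_mul, h1 e he, map_mul]

end Sys

end Cfsg.Lib.FusionSys.SecThree
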