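import Cfsg.Agent.Lib.FusionSys.SecThree.Cubes

/-!
# Essential subgroups of type A
-/

set_option linter.style.haveILetI false
set_option autoImplicit false

namespace Cfsg.Lib.FusionSys.SecThree

open Subgroup
open scoped commutatorElement

variable {G : Type*} [Group G] [Finite G] {p : ℕ} [hp : Fact p.Prime]

theorem comm_mem_center_step (hG : IsPGroup p G) {N : Subgroup G} (hN : N.Normal)
    (hc : Nat.card N = p) : N ≤ center G :=
  haveI := hN
  Cfsg.Lib.PGroup.le_center_of_card_eq_prime hG hc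

theorem card_omegaZ_of_plane (S : Sys p G) {E : Subgroup G} (hA : S.TypeA E)
    (hV : Nat.card (omegaC p E) = p ^ 2) : Nat.card (omegaZ p G) = p := by
  have h1 := RankThree.card_mul_le_of_lt S.isP hA.omegaZ_lt
  rw [hV, sq] at h1
  exact le_antisymm (Nat.le_of_mul_le_mul_left h1 hp.out.pos) S.prime_le_card_omegaZ

theorem eq_zpowers_of_card {N : Subgroup G} (hc : Nat.card N = p) {x : G} (hx : x ∈ N)
    (hx1 : x ≠ 1) : zpowers x = N := by
  refine eq_of_card_le (zpowers_le.2 hx) (le_of_eq ?_)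
  rw [Nat.card_zpowers, hc]
  have h : orderOf x ∣ p :=
    hc ▸ ((Subgroup.orderOf_mk x hx).symm ▸ (orderOf_dvd_natCard (⟨x, hx⟩ : N)))
  exact (((Nat.dvd_prime hp.out).1 h).resolve_left fun h1 => hx1 (orderOf_eq_one_iff.1 h1)).symm

omit hp in
theorem ap_omegaZ_img_le {E : Subgroup G} (a : MulAut E) {M : Subgroup G} (h : omegaZ p G ≤ M)
    {z : G} (hz : z ∈ omegaZ p G) (hzE : z ∈ E) : ap a z ∈ img a M :=
  ap_mem_img a (h hz) hzE

/-- If `Ω₁(Z(E))` and `Ω₁(Z(E'))` lie in each other's group, they coincide. -/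
theorem omegaC_eq (S : Sys p G) {E E' : Subgroup G} (hA : S.TypeA E) (hA' : S.TypeA E')
    (h1 : omegaC p E ≤ E') (h2 : omegaC p E' ≤ E) : omegaC p E = omegaC p E' := by
  by_contra hne
  have hG := S.isP
  set V := omegaC p E with hV
  set V' := omegaC p E' with hV'
  set Z := omegaZ p G with hZ
  haveI hVn : V.Normal := S.omegaC_normal hA.1
  haveI hV'n : V'.Normal := S.omegaC_normal hA'.1
  have hcomm : ∀ v ∈ V, ∀ v' ∈ V', v * v' = v' * v := fun v hv v' hv' => (hv.2.1 v' (h2 hv')).symm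
  have hnle : ¬ V' ≤ V := by
    intro hle
    have hEE : E ≤ E' := fun e he => hA'.mem_of_commute fun v' hv' => (hle hv').2.1 e he
    have : E = E' := eq_of_card_le hEE (Nat.eq_of_mul_eq_mul_left hp.out.pos
      ((S.card_eq hA.1).symm.trans (S.card_eq hA'.1))).ge
    exact hne (by rw [hV, hV', this])
  have hnle' : ¬ V ≤ V' := by
    intro hle
    have hEE : E' ≤ E := fun e he => hA.mem_of_commute fun v hv => (hle hv).2.1 e he
    have : E = E' := (eq_of_card_le hEE (Nat.eq_of_mul_eq_mul_left hp.out.pos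
      ((S.card_eq hA.1).symm.trans (S.card_eq hA'.1))).le).symm
    exact hne (by rw [hV, hV', this])
  have hBea : EA p (V ⊔ V') := (ea_omegaC E).sup (ea_omegaC E') hcomm
  have hB3 := hBea.card_le S.sec
  have hlt : V < V ⊔ V' := lt_of_le_of_ne le_sup_left fun h => hnle (sup_eq_left.1 h.symm)
  have hlt' : V' < V ⊔ V' := lt_of_le_of_ne le_sup_right fun h => hnle' (sup_eq_right.1 h.symm)
  have hcV : Nat.card V = p ^ 2 := by
    refine hA.card_cases.resolve_right fun h => ?_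
    have h3 : Nat.card V < Nat.card ↥(V ⊔ V') :=
      lt_of_le_of_ne (card_le_of_le hlt.le) fun he => hlt.ne (eq_of_card_le hlt.le he.ge)
    rw [h] at h3
    exact absurd hB3 (not_le.2 h3)
  have hcV' : Nat.card V' = p ^ 2 := by
    refine hA'.card_cases.resolve_right fun h => ?_
    have h3 : Nat.card V' < Nat.card ↥(V ⊔ V') :=
      lt_of_le_of_ne (card_le_of_le hlt'.le) fun he => hlt'.ne (eq_of_card_le hlt'.le he.ge)
    rw [h] at h3
    exact absurd hB3 (not_le.2 h3)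
  have hcB : Nat.card ↥(V ⊔ V') = p ^ 3 := by
    refine le_antisymm hB3 ?_
    have h3 := RankThree.card_mul_le_of_lt hG hlt
    rw [hcV, ← pow_succ'] at h3
    exact h3
  have hcZ : Nat.card Z = p := card_omegaZ_of_plane S hA hcV
  have hinf : V ⊓ V' = Z := by
    have h3 := card_sup_le (U := V) (W := V')
    rw [hcB, hcV, hcV'] at h3
    have h4 : Nat.card ↥(V ⊓ V') = p :=
      Nat.eq_of_mul_eq_mul_left (pow_pos hp.out.pos 3) (h3.trans (by ring))
    exact (eq_of_card_le (le_inf (S.omegaZ_le hA.1) (S.omegaZ_le hA'.1)) (h4.trans hcZ.symm).le).symm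
  obtain ⟨a, ha, z, hz, hza⟩ := hA.2
  have hzE : z ∈ E := (S.omegaZ_le hA.1 hz).1
  have haV : img a V = V := img_eq_of_forall a (omegaC_le E) fun v hv => S.ap_omegaC hA.1 a hv
  set V'' := img a V' with hV''
  have hV''E : V'' ≤ E := img_le a
  have hcV'' : Nat.card V'' = p ^ 2 := by rw [hV'', card_img a h2, hcV']
  have hV''ea : EA p V'' := (ea_omegaC E').img_ea a
  have hV''n : ∀ e ∈ E, ∀ y ∈ V'', e * y * e⁻¹ ∈ V'' :=
    conj_mem_img a fun e _ y hy => hV'n.conj_mem y hy e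
  have haz : ap a z ∈ V ∧ ap a z ∈ V'' :=
    ⟨S.ap_omegaC hA.1 a (S.omegaZ_le hA.1 hz),
      ap_mem_img a (S.omegaZ_le hA'.1 hz) hzE⟩
  have hazV' : ap a z ∉ V' := fun h => hza (hinf.le ⟨haz.1, h⟩)
  set U := V' ⊓ V'' with hU
  have hUlt : U < V' := lt_of_le_of_ne inf_le_left fun h => hazV' (by
    rw [eq_of_card_le (inf_eq_left.1 h) (by rw [hcV'', hcV'])]
    exact haz.2)
  have hU1 : U ≠ ⊥ := by
    intro h
    have hc : ∀ x ∈ V', ∀ y ∈ V'', x * y = y * x := fun x hx y hy => by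
      refine comm_eq_one.1 (mem_bot.1 (h.le ⟨?_, ?_⟩))
      · rw [commutatorElement_def, mul_assoc, mul_assoc, ← mul_assoc y]
        exact V'.mul_mem hx (hV'n.conj_mem _ (V'.inv_mem hx) y)
      · rw [commutatorElement_def]
        exact V''.mul_mem (hV''n x (h2 hx) y hy) (V''.inv_mem hy)
    have h3 := ((ea_omegaC E').sup hV''ea hc).card_le S.sec
    have h4 := card_sup_le (U := V') (W := V'')
    rw [← hU, h, card_bot, mul_one, hcV', hcV''] at h4
    rw [h4, ← pow_add] at h3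
    exact absurd h3 (not_le.2 (pow_lt_pow_of_lt (by norm_num)))
  have hcU : Nat.card U = p := by
    have h3 := RankThree.card_mul_le_of_lt hG (bot_lt_iff_ne_bot.2 hU1)
    have h4 := RankThree.card_mul_le_of_lt hG hUlt
    rw [card_bot, mul_one] at h3
    rw [hcV', sq] at h4
    exact le_antisymm (Nat.le_of_mul_le_mul_left h4 hp.out.pos) h3
  have hUV : ¬ U ≤ V := by
    intro h
    have h3 : U = Z :=
      eq_of_card_le (fun x hx => hinf.le ⟨h hx, hx.1⟩) (by rw [hcU, hcZ])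
    have h4 : img a Z = U := by
      refine (eq_of_card_le (fun x hx => ?_) (by rw [card_img a (fun y hy => (S.omegaZ_le hA.1 hy).1),
        hcU, hcZ])).symm
      obtain ⟨y, hy, hyE, rfl⟩ := (mem_img a).1 (inf_le_right (a := V') hx)
      refine ap_mem_img a ?_ hyE
      refine hinf.le ⟨?_, hy⟩
      have := ap_mem_img a⁻¹ (h hx) (ap_mem a hyE)
      rw [ap_inv_ap a hyE] at this
      exact (img_eq_of_forall a⁻¹ (omegaC_le E) fun v hv => S.ap_omegaC hA.1 a⁻¹ hv).le this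
    exact hza (h3.le (h4.le (ap_mem_img a hz hzE)))
  have hVU : V ⊔ U = V ⊔ V' :=
    (eq_or_eq_of_card hG le_sup_left (sup_le_sup_left inf_le_left V)
      (by rw [hcB, hcV]; ring)).resolve_left fun h => hUV (sup_eq_left.1 h)
  have haB : img a (V ⊔ V') = V ⊔ V' := by
    refine (eq_of_card_le ?_ (le_of_eq (card_img a (sup_le (omegaC_le E) h2)))).symm
    rw [img_sup a (omegaC_le E) h2, haV, ← hVU]
    exact sup_le_sup_left inf_le_right V
  have hbe : ∀ e ∈ E, ∀ b ∈ V ⊔ V', ⁅e, b⁆ ∈ Z := by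
    intro e he b hb
    rw [← SetLike.mem_coe, Subgroup.normal_mul] at hb
    obtain ⟨v, hv, v', hv', rfl⟩ := Set.mem_mul.1 hb
    have h3 := comm_mem_of_card_step hG Sys.omegaZ_normal hV'n (S.omegaZ_le hA'.1)
      (by rw [hcV', hcZ, sq]) e hv'
    rw [commutatorElement_mul_right_eq_mul_conj, comm_eq_one.2 (hv.2.1 e he), one_mul,
      mem_center_iff.1 h3.1 v, mul_inv_cancel_right]
    exact h3
  obtain ⟨e, he, b, hb, hbe1⟩ : ∃ e ∈ E, ∃ b ∈ V ⊔ V', ⁅e, b⁆ ≠ 1 := by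
    by_contra h
    push Not at h
    refine hnle fun v' hv' => ?_
    have hEE : E ≤ E' := fun e he =>
      hA'.mem_of_commute fun w hw => comm_eq_one.1 (h e he w (mem_sup_right hw))
    have : E = E' := eq_of_card_le hEE (Nat.eq_of_mul_eq_mul_left hp.out.pos
      ((S.card_eq hA.1).symm.trans (S.card_eq hA'.1))).ge
    rw [hV, this]
    exact hv'
  have hbE : b ∈ E := (sup_le (omegaC_le E) h2) hb
  have hw := hbe e he b hb
  obtain ⟨j, hj⟩ := mem_zpowers_iff.1 ((eq_zpowers_of_card hcZ hw hbe1).ge hz)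
  refine hza ?_
  rw [← hj, ap_map_zpow a ((S.omegaZ_le hA.1 hw).1)]
  refine Z.zpow_mem ?_ j
  rw [ap_map_comm a he hbE]
  exact hbe _ (ap_mem a he) _ (haB.le (ap_mem_img a hb hbE))

/-- At most one elementary subgroup of order `p ^ 3` over `Ω₁(Z(E))` is normal in `E`. -/
theorem cube_unique (S : Sys p G) {E : Subgroup G} (hA : S.TypeA E)
    (hV : Nat.card (omegaC p E) = p ^ 2) {B U : Subgroup G}
    (hB : IsCube p E (omegaC p E) B) (hU : IsCube p E (omegaC p E) U) : B = U := by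
  by_contra hne
  have hG := S.isP
  set V := omegaC p E with hVdef
  obtain ⟨b, hb, hbV⟩ := exists_cube_not_mem hG hV hB
  obtain ⟨u, hu, huV⟩ := exists_cube_not_mem hG hV hU
  obtain ⟨hm, hm1, -, -, -, hall⟩ := cube_sup hG hV hB hU hne S.sec S.odd hb hbV hu huV
  have hinv : ∀ a : MulAut E, ∀ v ∈ V, ap a v ∈ V := fun a v hv => S.ap_omegaC hA.1 a hv
  have hle : ∀ a : MulAut E, img a (B ⊔ U) ≤ B ⊔ U := fun a =>
    img_cube_sup hB hU a
      (cube_le hG hV hB hU hne S.sec S.odd (ea_omegaC E) (hB.img rfl a (hinv a⁻¹)))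
      (cube_le hG hV hB hU hne S.sec S.odd (ea_omegaC E) (hU.img rfl a (hinv a⁻¹)))
  have hmE : ⁅b, u⁆ ∈ E := omegaC_le E hm
  have hbE := hB.2.2.2.1 hb
  have huE := hU.2.2.2.1 hu
  have hap : ∀ a : MulAut E, ap a ⁅b, u⁆ ∈ zpowers ⁅b, u⁆ := fun a => by
    rw [ap_map_comm a hbE huE]
    exact hall _ (hle a (ap_mem_img a (mem_sup_left hb) hbE)) _
      (hle a (ap_mem_img a (mem_sup_right hu) huE))
  have hn : (zpowers ⁅b, u⁆).Normal := ⟨fun y hy g => by
    obtain ⟨a, -, -, ha⟩ := S.exists_conj hA.1 g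
    obtain ⟨i, rfl⟩ := mem_zpowers_iff.1 hy
    rw [← ha _ (E.zpow_mem hmE i), ap_map_zpow a hmE]
    exact zpow_mem (hap a) i⟩
  have hmp : ⁅b, u⁆ ^ p = 1 := hm.2.2
  have hmZ : ⁅b, u⁆ ∈ omegaZ p G := ⟨comm_mem_center_step hG hn
    (by rw [Nat.card_zpowers, orderOf_eq_prime hmp hm1]) (mem_zpowers _), hmp⟩
  obtain ⟨a, -, z, hz, hza⟩ := hA.2
  obtain ⟨j, hj⟩ := mem_zpowers_iff.1
    ((eq_zpowers_of_card (card_omegaZ_of_plane S hA hV) hmZ hm1).ge hz)
  refine hza ?_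
  rw [← hj, ap_map_zpow a hmE]
  exact (omegaZ p G).zpow_mem (zpowers_le.2 hmZ (hap a)) j

/-- No element outside `E` acts on `E` only inside a small invariant `U ⊇ Ω₁(Z(E))`. -/
theorem torus_false (S : Sys p G) {E : Subgroup G} (hA : S.TypeA E)
    (hV : Nat.card (omegaC p E) = p ^ 2) {U : Subgroup G} (hVU : omegaC p E ≤ U) (hUE : U ≤ E)
    (hUinv : ∀ a ∈ S.aut E, ∀ y ∈ U, ap a y ∈ U)
    (hUV : ∀ g : G, ∀ y ∈ U, ⁅g, y⁆ ∈ omegaC p E)
    {x : G} (hx : x ∉ E) (hxE : ∀ e ∈ E, ⁅x, e⁆ ∈ U) : E = omegaC p E := by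
  have hG := S.isP
  have hp2 := S.odd
  haveI := finite_mulAut E
  haveI := S.normal E hA.1
  set V := omegaC p E with hVdef
  set Z := omegaZ p G with hZ
  have hcZ : Nat.card Z = p := card_omegaZ_of_plane S hA hV
  have hinvV : ∀ a : MulAut E, ∀ v ∈ V, ap a v ∈ V := fun a v hv => S.ap_omegaC hA.1 a hv
  set K := S.aut E ⊓ (moves E U V hUE ⊓ moves E E U le_rfl) with hK
  have hKn : ∀ a ∈ S.aut E, ∀ k ∈ K, a * k * a⁻¹ ∈ K := by
    rintro a ha k ⟨hk, hk1, hk2⟩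
    exact ⟨(S.aut E).mul_mem ((S.aut E).mul_mem ha hk) ((S.aut E).inv_mem ha),
      moves_conj a (fun v hv _ => hinvV a v hv) (fun v hv _ => hinvV a⁻¹ v hv)
        (fun y hy => hUinv a⁻¹ (inv_mem ha) y hy) hk1,
      moves_conj a (fun v hv _ => hUinv a ha v hv) (fun v hv _ => hUinv a⁻¹ (inv_mem ha) v hv)
        (fun y hy => ap_mem a⁻¹ hy) hk2⟩
  obtain ⟨α, hαA, hαI, hα⟩ := S.exists_conj hA.1 x
  have hαmove : ∀ y ∈ E, ap α y * y⁻¹ = ⁅x, y⁆ := fun y hy => by rw [hα y hy, commutatorElement_def]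
  have hαK : α ∈ K := by
    refine ⟨hαA, ⟨fun v hv _ => hinvV α v hv, fun y hy => ?_⟩,
      fun y hy _ => hUinv α hαA y hy, fun y hy => ?_⟩
    · rw [hαmove y (hUE hy)]; exact hUV x y hy
    · rw [hαmove y hy]; exact hxE y hy
  obtain ⟨a, ha, z, hz, hza⟩ := hA.2
  have hzE : z ∈ E := (S.omegaZ_le hA.1 hz).1
  have hz1 : z ≠ 1 := fun h => hza (by rw [h, ap_map_one]; exact Z.one_mem)
  -- the commutators of `V` with `x`
  have hVZ : ∀ v ∈ V, ⁅x, v⁆ ∈ Z := fun v hv => comm_mem_of_card_step hG Sys.omegaZ_normal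
    (S.omegaC_normal hA.1) (S.omegaZ_le hA.1) (by rw [hV, hcZ, sq]) x hv
  set l := a * α * a⁻¹ with hl
  have hlK : l ∈ K := hKn a ha α hαK
  have hlmove : ∀ v ∈ V, ap l v * v⁻¹ = ap a ⁅x, ap a⁻¹ v⁆ := fun v hv => by
    have hvE := omegaC_le E hv
    have hy := ap_mem a⁻¹ hvE
    rw [← hαmove _ hy, ap_map_mul a (ap_mem α hy) (E.inv_mem hy), ap_map_inv a hy, ap_ap_inv a hvE,
      hl, ap_mul_apply _ _ hvE, ap_mul_apply _ _ hy]
  have hlz : ap l z ∉ (⊥ : Subgroup G) ⊔ zpowers z := by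
    rw [bot_sup_eq, eq_zpowers_of_card hcZ hz hz1]
    intro h
    have hzV := S.omegaZ_le hA.1 hz
    have hy := hinvV a⁻¹ z hzV
    have h1 : ap l z * z⁻¹ ∈ img a Z := by
      rw [hlmove z hzV]
      exact ap_mem_img a (hVZ _ hy) (omegaC_le E (S.omegaZ_le hA.1 (hVZ _ hy)))
    have h2 : ap l z * z⁻¹ = 1 := by
      by_contra hne1
      refine hza ?_
      have e1 := eq_zpowers_of_card (N := img a Z)
        ((card_img a fun y hy => (S.omegaZ_le hA.1 hy).1).trans hcZ) h1 hne1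
      have h3 : img a Z ≤ Z := e1 ▸ zpowers_le.2 (Z.mul_mem h (Z.inv_mem hz))
      exact h3 (ap_mem_img a hz hzE)
    rw [hlmove z hzV] at h2
    have h3 : ⁅x, ap a⁻¹ z⁆ = 1 := by
      refine ap_inj a ((S.omegaZ_le hA.1 (hVZ _ hy)).1) E.one_mem ?_
      rw [h2, ap_map_one]
    have h4 : ap a⁻¹ z ∈ Z := hA.mem_omegaZ hx hy (comm_eq_one.1 h3)
    have h5 : img a⁻¹ Z ≤ Z := by
      intro y hy'
      obtain ⟨w, hw, hwE, rfl⟩ := (mem_img a⁻¹).1 hy'
      obtain ⟨j, rfl⟩ := mem_zpowers_iff.1 ((eq_zpowers_of_card hcZ hz hz1).ge hw)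
      rw [ap_map_zpow _ hzE]
      exact Z.zpow_mem h4 j
    have h6 : img a⁻¹ Z = Z := eq_of_card_le h5 (card_img a⁻¹ fun y hy => (S.omegaZ_le hA.1 hy).1).ge
    obtain ⟨w, hw, hwE, hwz⟩ := (mem_img a⁻¹).1 (h6.ge hz)
    rw [← hwz, ap_ap_inv a hwE] at hza
    exact hza hw
  obtain ⟨P0, hP0⟩ := (show IsPGroup p ((zpowers α).subgroupOf K) from
    ((S.isPGroup_inner hA.1).to_le (zpowers_le.2 hαI)).comap_subtype).exists_le_sylow
  obtain ⟨t, htK, -, ⟨n, htn⟩, htinv⟩ := exists_inverter hG hp2 K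
    ((P0 : Subgroup K).map K.subtype) (P0.isPGroup'.map _) (map_subtype_le _)
    (fun P' hP'K hP' hle => by
      have h1 : P'.subgroupOf K = P0 := P0.is_maximal' hP'.comap_subtype fun y hy =>
        hle ⟨y, hy, rfl⟩
      rw [← h1, map_subgroupOf_eq_of_le hP'K])
    (W := V) (U := (⊥ : Subgroup G)) bot_le (omegaC_le E) (by rw [hV, card_bot, mul_one])
    (fun v hv => mem_bot.2 hv.2.2) (fun b _ => hinvV b)
    (fun b _ y hy => by rw [mem_bot.1 hy, ap_map_one]; exact one_mem _)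
    (u := α) ⟨⟨α, hαK⟩, hP0 (mem_zpowers α), rfl⟩ (by
      obtain ⟨v, hv, hvc⟩ := hA.exists_not_central
      refine ⟨v, hv, fun h => hvc ?_⟩
      rw [hαmove v (omegaC_le E hv), mem_bot] at h
      exact (hA.mem_omegaZ hx hv (comm_eq_one.1 h)).1)
    (S.omegaZ_le hA.1 hz) (fun h => hz1 (mem_bot.1 h))
    (by rw [hαmove z hzE, comm_eq_one.2 (mem_center_iff.1 hz.1 x)]; exact one_mem _) hlK hlz
  have htV : ∀ v ∈ V, ap t v = v⁻¹ := fun v hv =>
    eq_inv_of_mul_eq_one_left (mem_bot.1 (htinv v hv))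
  have htt : ∀ e ∈ E, ap t (ap t e) = e := by
    have hmem : t * t ∈ fixer E V ⊓ moves E U V hUE ⊓ moves E E U le_rfl :=
      ⟨⟨fun v hv hvE => by
          rw [ap_mul_apply _ _ hvE, htV v hv, htV _ (V.inv_mem hv), inv_inv],
        (moves E U V hUE).mul_mem htK.2.1 htK.2.1⟩, (moves E E U le_rfl).mul_mem htK.2.2 htK.2.2⟩
    obtain ⟨k, hk⟩ := isPGroup_chain hG (p := p) hUE le_rfl ⟨t * t, hmem⟩
    have h1 : t * t = 1 := eq_one_of_two_pow hp2 (n := n)
      (by rw [← sq, ← pow_mul, mul_comm, pow_mul, htn, one_pow])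
      (by simpa using congrArg Subtype.val hk)
    intro e he
    rw [← ap_mul_apply _ _ he, h1, ap_one_apply]
  obtain ⟨N, hN⟩ := exists_pow_card (p := p) hG
  set CE : Subgroup G := (MonoidHom.eqLocus (t : MulAut E).toMonoidHom (MonoidHom.id E)).map
    E.subtype with hCE
  have hCEmem : ∀ y ∈ CE, y ∈ E ∧ ap t y = y := by
    rintro _ ⟨y, hy, rfl⟩
    exact ⟨y.2, (ap_coe t y).trans (congrArg Subtype.val hy)⟩
  have hdec : ∀ e ∈ E, ∃ c ∈ CE, ∃ f ∈ V, e = c * f := by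
    intro e he
    obtain ⟨c, hcE, f, hfE, hef, htc, htf, hfm, -⟩ := exists_fixed_inverted hG hp2 htt he
    refine ⟨c, ⟨⟨c, hcE⟩, Subtype.ext ((ap_coe t ⟨c, hcE⟩).symm.trans htc), rfl⟩, f, ?_, hef⟩
    have hu := htK.2.2.2 e he
    have hfU : f ∈ U := by
      refine (zpowers_le.2 ?_) hfm
      have h2 := U.mul_mem (hVU (hUV e⁻¹ _ (U.inv_mem hu))) (U.inv_mem hu)
      rw [commutatorElement_def] at h2
      convert h2 using 1
      group
    have h3 := htK.2.1.2 f hfU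
    rw [htf, ← mul_inv_rev, inv_mem_iff, ← sq] at h3
    exact mem_of_sq_mem hG hp2 h3
  have hbot : CE = ⊥ := by
    by_contra hne
    haveI := (Subgroup.nontrivial_iff_ne_bot CE).2 hne
    obtain ⟨y, -, hyc, hy⟩ := Cfsg.Lib.PGroup.exists_mem_center_orderOf_eq (hG.to_subgroup CE)
      (N := (⊤ : Subgroup CE)) top_ne_bot
    have hyV : (y : G) ∈ V := by
      refine ⟨(hCEmem y y.2).1, fun e he => ?_, by
        rw [← SubmonoidClass.coe_pow, ← hy, pow_orderOf_eq_one, OneMemClass.coe_one]⟩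
      obtain ⟨c, hc, f, hf, rfl⟩ := hdec e he
      have h1 : Commute c (y : G) := congrArg Subtype.val (mem_center_iff.1 hyc ⟨c, hc⟩)
      exact (h1.mul_left (hf.2.1 y (hCEmem y y.2).1).symm).eq
    have h2 := htV y hyV
    rw [(hCEmem y y.2).2, eq_inv_iff_mul_eq_one, ← sq] at h2
    have h3 := eq_one_of_two_pow hp2 (n := 1) (by simpa using h2) (hN (y : G))
    rw [show y = 1 from Subtype.ext h3, orderOf_one] at hy
    exact hp.out.ne_one hy.symm
  refine le_antisymm (fun e he => ?_) (omegaC_le E)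
  obtain ⟨c, hc, f, hf, rfl⟩ := hdec e he
  rw [hbot, mem_bot] at hc
  rw [hc, one_mul]
  exact hf

end Cfsg.Lib.FusionSys.SecThree
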